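import Groth.Agent.CAlg1.Complete
import Groth.Agent.CAlg1.Regular
import Mathlib.RingTheory.AdicCompletion.LocalRing
import Mathlib.RingTheory.AdicCompletion.Completeness
import Mathlib.RingTheory.AdicCompletion.RingHom
import Mathlib.RingTheory.AdicCompletion.AsTensorProduct

/-!
# Basic facts on completions of Noetherian local rings
-/

set_option autoImplicit false
set_option maxHeartbeats 800000

universe u v

namespace Groth.Agent.Cohen12

open IsLocalRing

variable (A : Type u) [CommRing A] [IsLocalRing A] [IsNoetherianRing A]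

theorem isNoetherianRing_completion : IsNoetherianRing (AdicCompletion (maximalIdeal A) A) :=
  CAlg1.isNoetherianRing_adicCompletion _ (IsNoetherian.noetherian _)

theorem isAdicComplete_completion :
    IsAdicComplete (maximalIdeal (AdicCompletion (maximalIdeal A) A)) (AdicCompletion (maximalIdeal A) A) := by
  have := AdicCompletion.isAdicComplete_self (maximalIdeal A) (IsNoetherian.noetherian _)
  rwa [← AdicCompletion.maximalIdeal_eq_map] at this

theorem pow_maximalIdeal_completion (n : ℕ) :
    maximalIdeal (AdicCompletion (maximalIdeal A) A) ^ n =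
      (maximalIdeal A ^ n).map (algebraMap A (AdicCompletion (maximalIdeal A) A)) := by
  rw [AdicCompletion.maximalIdeal_eq_map, Ideal.map_pow]

theorem evalₐ_eq_zero_iff (n : ℕ) (c : AdicCompletion (maximalIdeal A) A) :
    AdicCompletion.evalₐ (maximalIdeal A) n c = 0 ↔
      c ∈ maximalIdeal (AdicCompletion (maximalIdeal A) A) ^ n := by
  have h1 := AdicCompletion.pow_smul_top_eq_ker_eval (I := maximalIdeal A) (M := A) (n := n)
    (IsNoetherian.noetherian _)
  rw [pow_maximalIdeal_completion]
  constructor
  · intro hc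
    have : c ∈ LinearMap.ker (AdicCompletion.eval (maximalIdeal A) A n) := by
      rw [← AdicCompletion.factor_eval_eq_evalₐ _ _ (le_of_eq (Ideal.mul_top _))] at hc
      obtain ⟨y, hy⟩ := Ideal.Quotient.mk_surjective (AdicCompletion.eval (maximalIdeal A) A n c)
      rw [LinearMap.mem_ker, ← hy, Ideal.Quotient.eq_zero_iff_mem]
      rw [← hy] at hc
      replace hc : Ideal.Quotient.mk (maximalIdeal A ^ n) y = 0 := hc
      rw [Ideal.Quotient.eq_zero_iff_mem] at hc
      rwa [smul_eq_mul, Ideal.mul_top]
    rw [← h1, Ideal.smul_top_eq_map] at this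
    exact this
  · intro hc
    have hle : (maximalIdeal A ^ n).map (algebraMap A _) ≤
        RingHom.ker (AdicCompletion.evalₐ (maximalIdeal A) n) := by
      rw [Ideal.map_le_iff_le_comap]
      intro x hx
      show AdicCompletion.evalₐ (maximalIdeal A) n (algebraMap A _ x) = 0
      rw [AlgHom.commutes]
      exact Ideal.Quotient.eq_zero_iff_mem.mpr hx
    exact hle hc

theorem exists_sub_mem_pow (n : ℕ) (c : AdicCompletion (maximalIdeal A) A) :
    ∃ a : A, c - algebraMap A _ a ∈ maximalIdeal (AdicCompletion (maximalIdeal A) A) ^ n := by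
  obtain ⟨a, ha⟩ := Ideal.Quotient.mk_surjective (AdicCompletion.evalₐ (maximalIdeal A) n c)
  refine ⟨a, (evalₐ_eq_zero_iff A n _).mp ?_⟩
  rw [map_sub, AlgHom.commutes, ← ha]
  exact sub_self _

theorem algebraMap_mem_pow_iff (n : ℕ) (a : A) :
    algebraMap A (AdicCompletion (maximalIdeal A) A) a ∈ maximalIdeal _ ^ n ↔ a ∈ maximalIdeal A ^ n := by
  rw [← evalₐ_eq_zero_iff, AlgHom.commutes]
  exact Ideal.Quotient.eq_zero_iff_mem

theorem spanFinrank_maximalIdeal_le_completion :
    (maximalIdeal A).spanFinrank ≤ (maximalIdeal (AdicCompletion (maximalIdeal A) A)).spanFinrank := by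
  classical
  have := isNoetherianRing_completion A
  obtain ⟨s, hs, hspan⟩ := Submodule.FG.exists_span_finset_card_eq_spanFinrank
    (IsNoetherian.noetherian (maximalIdeal (AdicCompletion (maximalIdeal A) A)))
  choose a ha using exists_sub_mem_pow A 2
  have ham : ∀ c ∈ s, a c ∈ maximalIdeal A := fun c hc => by
    have h1 : algebraMap A _ (a c) ∈ maximalIdeal (AdicCompletion (maximalIdeal A) A) ^ 1 := by
      rw [pow_one]
      have h2 : c ∈ maximalIdeal _ := hspan ▸ Submodule.subset_span hc
      have := sub_mem h2 (Ideal.pow_le_self two_ne_zero (ha c))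
      rwa [sub_sub_cancel] at this
    simpa using (algebraMap_mem_pow_iff A 1 _).mp h1
  have hle : maximalIdeal A ≤ Ideal.span (s.image a : Set A) := by
    refine Submodule.le_of_le_smul_of_le_jacobson_bot (IsNoetherian.noetherian _)
      (IsLocalRing.maximalIdeal_le_jacobson _) ?_
    rw [smul_eq_mul, ← pow_two]
    intro x hx
    have h1 : algebraMap A (AdicCompletion (maximalIdeal A) A) x ∈ Ideal.span (s : Set _) := by
      refine hspan.ge ?_
      rw [← pow_one (maximalIdeal (AdicCompletion (maximalIdeal A) A)), algebraMap_mem_pow_iff]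
      simpa using hx
    have h2 : (Ideal.span (s : Set (AdicCompletion (maximalIdeal A) A))) ≤
        (Ideal.span (s.image a : Set A) ⊔ maximalIdeal A ^ 2).map (algebraMap A _) := by
      rw [Ideal.span_le]
      intro c hc
      rw [SetLike.mem_coe, ← sub_add_cancel c (algebraMap A _ (a c))]
      refine add_mem ?_ ?_
      · rw [Ideal.map_sup, ← pow_maximalIdeal_completion]
        exact Submodule.mem_sup_right (ha c)
      · exact Ideal.mem_map_of_mem _ (Submodule.mem_sup_left (Ideal.subset_span
          (Finset.mem_coe.mpr (Finset.mem_image_of_mem a (Finset.mem_coe.mp hc)))))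
    have : Module.Flat A (AdicCompletion (maximalIdeal A) A) := AdicCompletion.flat_of_isNoetherian _
    have : IsLocalHom (algebraMap A (AdicCompletion (maximalIdeal A) A)) := ⟨fun z hz => by
      by_contra hz'
      have := (algebraMap_mem_pow_iff A 1 z).mpr (by rw [pow_one]; exact (mem_maximalIdeal _).mpr hz')
      rw [pow_one] at this
      exact this hz⟩
    have : Module.FaithfullyFlat A (AdicCompletion (maximalIdeal A) A) :=
      Module.FaithfullyFlat.of_flat_of_isLocalHom
    have h3 := h2 h1
    rw [← Ideal.mem_comap, Ideal.comap_map_eq_self_of_faithfullyFlat] at h3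
    exact h3
  have hle' : Ideal.span (s.image a : Set A) ≤ maximalIdeal A := by
    rw [Ideal.span_le]
    intro x hx
    obtain ⟨c, hc, rfl⟩ := Finset.mem_image.mp (Finset.mem_coe.mp hx)
    exact ham c hc
  refine (le_of_eq (congrArg Submodule.spanFinrank (le_antisymm hle hle'))).trans ?_
  rw [← hs]
  exact (Submodule.spanFinrank_span_le_ncard_of_finite (Finset.finite_toSet _)).trans
    ((Set.ncard_coe_finset _).le.trans Finset.card_image_le)

/-- A local map to a complete local ring extends to the completion. -/
theorem exists_extension {S : Type v} [CommRing S] [IsLocalRing S] [IsAdicComplete (maximalIdeal S) S]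
    (f : A →+* S) (hf : (maximalIdeal A).map f ≤ maximalIdeal S) :
    ∃ g : AdicCompletion (maximalIdeal A) A →+* S, ∀ a, g (algebraMap A _ a) = f a := by
  have hp : ∀ n, maximalIdeal A ^ n ≤ (maximalIdeal S ^ n).comap f := fun n => by
    rw [← Ideal.map_le_iff_le_comap, Ideal.map_pow]
    exact Ideal.pow_right_mono hf n
  let F : (n : ℕ) → AdicCompletion (maximalIdeal A) A →+* S ⧸ maximalIdeal S ^ n := fun n =>
    (Ideal.quotientMap (maximalIdeal S ^ n) f (hp n)).comp (AdicCompletion.evalₐ (maximalIdeal A) n).toRingHom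
  have hF : ∀ {m n : ℕ} (hle : m ≤ n),
      (Ideal.Quotient.factorPow (maximalIdeal S) hle).comp (F n) = F m := fun {m n} hle => by
    ext c
    obtain ⟨a, ha⟩ := exists_sub_mem_pow A n c
    have hz : ∀ k, k ≤ n → AdicCompletion.evalₐ (maximalIdeal A) k c = Ideal.Quotient.mk _ a := fun k hk => by
      have := (evalₐ_eq_zero_iff A k _).mpr (Ideal.pow_le_pow_right hk ha)
      rwa [map_sub, AlgHom.commutes, sub_eq_zero] at this
    show Ideal.Quotient.factorPow (maximalIdeal S) hle (Ideal.quotientMap _ f (hp n) (AdicCompletion.evalₐ _ n c)) =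
      Ideal.quotientMap _ f (hp m) (AdicCompletion.evalₐ _ m c)
    rw [hz n le_rfl, hz m hle]
    rfl
  refine ⟨IsAdicComplete.liftRingHom (maximalIdeal S) F hF, fun a => ?_⟩
  refine IsHausdorff.eq_iff_smodEq (I := maximalIdeal S).mpr fun n => ?_
  rw [smul_eq_mul, Ideal.mul_top, SModEq.sub_mem, ← Ideal.Quotient.eq_zero_iff_mem, map_sub, sub_eq_zero,
    IsAdicComplete.mk_liftRingHom]
  show Ideal.quotientMap _ f (hp n) (AdicCompletion.evalₐ _ n (algebraMap A _ a)) = _
  rw [AlgHom.commutes]
  rfl

end Groth.Agent.Cohen12
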