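import Groth.Agent.Sep12.Basic
import Mathlib.RingTheory.AdicCompletion.RingHom
import Mathlib.RingTheory.LocalRing.ResidueField.Basic

/-!
# Sections of residue maps of complete rings
-/

set_option autoImplicit false
set_option maxHeartbeats 800000

universe u

namespace Groth.Agent.Cohen12

open IsLocalRing

/-- A map from a formally smooth algebra to `B/I` lifts to `B` when `B` is `I`-adically complete. -/
theorem exists_lift_complete {P Q B : Type u} [CommRing P] [CommRing Q] [CommRing B] [Algebra P Q]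
    [Algebra P B] [Algebra.FormallySmooth P Q] (I : Ideal B) [IsAdicComplete I B]
    (f : Q →ₐ[P] B ⧸ I) : ∃ g : Q →ₐ[P] B, ∀ x, Ideal.Quotient.mk I (g x) = f x := by
  have hnil : ∀ n : ℕ, IsNilpotent (RingHom.ker
      ((Ideal.Quotient.factorₐ P (Ideal.pow_le_pow_right (I := I) (n + 1).le_succ)) :
        (B ⧸ I ^ (n + 2)) →+* B ⧸ I ^ (n + 1))) := fun n => by
    refine ⟨2, ?_⟩
    show RingHom.ker (Ideal.Quotient.factor (Ideal.pow_le_pow_right (I := I) (n + 1).le_succ)) ^ 2 = ⊥
    rw [Ideal.Quotient.factor_ker, ← Ideal.map_pow, Ideal.map_eq_bot_iff_le_ker, Ideal.mk_ker,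
      ← pow_mul]
    exact Ideal.pow_le_pow_right (by omega)
  let f₀ : Q →ₐ[P] B ⧸ I ^ 1 := (Ideal.quotientEquivAlgOfEq P (pow_one I).symm).toAlgHom.comp f
  let π : ∀ n : ℕ, B ⧸ I ^ (n + 2) →ₐ[P] B ⧸ I ^ (n + 1) := fun n =>
    Ideal.Quotient.factorₐ P (Ideal.pow_le_pow_right (I := I) (n + 1).le_succ)
  have hπ : ∀ n, Function.Surjective (π n) := fun n =>
    Ideal.Quotient.factor_surjective (Ideal.pow_le_pow_right (I := I) (n + 1).le_succ)
  let F : (n : ℕ) → Q →ₐ[P] B ⧸ I ^ (n + 1) := fun n =>
    Nat.rec (motive := fun n => Q →ₐ[P] B ⧸ I ^ (n + 1)) f₀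
      (fun n g => Algebra.FormallySmooth.liftOfSurjective g (π n) (hπ n) (hnil n)) n
  have hF : ∀ n, (π n).comp (F (n + 1)) = F n := fun n =>
    Algebra.FormallySmooth.comp_liftOfSurjective (F n) (π n) (hπ n) (hnil n)
  have ha : StrictMono fun n : ℕ => n + 1 := fun a b h => by show a + 1 < b + 1; omega
  let σ := IsAdicComplete.StrictMono.liftRingHom I ha (fun n => (F n).toRingHom)
    (fun {n} => RingHom.ext fun x => AlgHom.congr_fun (hF n) x)
  have hσ : ∀ (n : ℕ) x, Ideal.Quotient.mk (I ^ (n + 1)) (σ x) = F n x := fun n x =>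
    IsAdicComplete.StrictMono.mk_liftRingHom I ha (fun n => (F n).toRingHom)
      (fun {n} => RingHom.ext fun x => AlgHom.congr_fun (hF n) x) (n := n) x
  refine ⟨{ σ with commutes' := fun r => ?_ }, fun x => ?_⟩
  · refine IsHausdorff.eq_iff_smodEq (I := I).mpr fun n => ?_
    rw [smul_eq_mul, Ideal.mul_top, SModEq.sub_mem, ← Ideal.Quotient.eq_zero_iff_mem, map_sub,
      sub_eq_zero]
    have h := hσ n (algebraMap P Q r)
    rw [AlgHom.commutes] at h
    exact congrArg (Ideal.Quotient.factor (Ideal.pow_le_pow_right (I := I) n.le_succ)) h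
  · exact congrArg (Ideal.quotientEquivAlgOfEq P (pow_one I)) (hσ 0 x) |>.trans (by
      obtain ⟨y, hy⟩ := Ideal.Quotient.mk_surjective (f x)
      show Ideal.quotientEquivAlgOfEq P (pow_one I) (Ideal.quotientEquivAlgOfEq P (pow_one I).symm (f x)) = f x
      rw [← hy]; rfl)

/-- A complete local algebra over a field with separable residue extension has a coefficient field. -/
theorem exists_section {k A : Type u} [Field k] [CommRing A] [IsLocalRing A] [Algebra k A]
    [IsAdicComplete (maximalIdeal A) A] [Algebra.IsGeometricallyReduced k (ResidueField A)] :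
    ∃ σ : ResidueField A →ₐ[k] A, ∀ x : ResidueField A, residue A (σ x) = x := by
  have : Algebra.FormallySmooth k (ResidueField A) :=
    (Sep12.formallySmooth_iff_isGeometricallyReduced (k := k) (K := ResidueField A)).mpr ‹_›
  exact exists_lift_complete (maximalIdeal A) (AlgHom.id k (ResidueField A))

end Groth.Agent.Cohen12
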