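import Groth.Agent.LA18.ColonKilling
import Groth.Agent.LA18.Coefficient
import Groth.Agent.CAlg6.CompleteSurj
import Groth.Agent.Cohen12.Section
import Mathlib.Algebra.CharP.Algebra
import Mathlib.RingTheory.Localization.FractionRing
import Mathlib.FieldTheory.Perfect

/-!
# Complete local rings containing a field
-/

set_option autoImplicit false
set_option maxHeartbeats 800000

universe u

namespace Groth.Agent.Cohen12

open IsLocalRing

/-- A local ring with residue characteristic zero contains `ℚ`. -/
theorem exists_ringHom_rat (A : Type u) [CommRing A] [IsLocalRing A] [CharZero (ResidueField A)] :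
    Nonempty (ULift.{u} ℚ →+* A) := by
  have hu : ∀ z : nonZeroDivisors ℤ, IsUnit (Int.castRingHom A (z : ℤ)) := fun z => by
    refine (notMem_maximalIdeal).mp fun h => nonZeroDivisors.coe_ne_zero z ?_
    have := (residue_eq_zero_iff _).mpr h
    rwa [eq_intCast, map_intCast, Int.cast_eq_zero] at this
  exact ⟨(IsLocalization.lift (S := ℚ) hu).comp ULift.ringEquiv.toRingHom⟩

/-- A complete local ring in which the residue characteristic vanishes has a coefficient field. -/
theorem exists_coefficientField (A : Type u) [CommRing A] [IsLocalRing A]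
    [IsAdicComplete (maximalIdeal A) A] (p : ℕ) [CharP (ResidueField A) p] (hp : (p : A) = 0) :
    ∃ σ : ResidueField A →+* A, ∀ x, residue A (σ x) = x := by
  rcases CharP.char_is_prime_or_zero (ResidueField A) p with hprime | h0
  · have : Fact p.Prime := ⟨hprime⟩
    have : CharP A p := (CharP.charP_iff_prime_eq_zero hprime).mpr hp
    exact LA18.exists_coefficient_field A p
  · subst h0
    have : CharZero (ResidueField A) := CharP.charP_to_charZero _
    obtain ⟨ι⟩ := exists_ringHom_rat A
    let : Algebra (ULift.{u} ℚ) A := ι.toAlgebra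
    have : CharZero (ULift.{u} ℚ) := charZero_of_injective_ringHom (f := (ULift.ringEquiv (R := ℚ)).symm.toRingHom) (RingHom.injective _)
    have : PerfectField (ULift.{u} ℚ) := PerfectField.ofCharZero
    have : Algebra.FormallySmooth (ULift.{u} ℚ) (ResidueField A) :=
      Sep12.formallySmooth_of_perfectField (ULift.{u} ℚ) (ResidueField A)
    obtain ⟨g, hg⟩ := exists_lift_complete (maximalIdeal A) (AlgHom.id (ULift.{u} ℚ) (ResidueField A))
    exact ⟨g.toRingHom, hg⟩

/-- The coefficients of a relation among minimal generators of the maximal ideal lie in the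
maximal ideal. -/
theorem mem_maximalIdeal_of_relation {A : Type u} [CommRing A] [IsLocalRing A] [IsNoetherianRing A]
    (f : Fin (maximalIdeal A).spanFinrank → A) (hf : Ideal.span (Set.range f) = maximalIdeal A)
    (a : Fin (maximalIdeal A).spanFinrank → A) (ha : ∑ i, a i * f i ∈ maximalIdeal A ^ 2) (j) :
    a j ∈ maximalIdeal A := by
  classical
  by_contra hj
  have hj' : IsUnit (a j) := notMem_maximalIdeal.mp hj
  let J : Ideal A := Ideal.span ((Finset.univ.erase j).image f : Finset A)
  have hle : maximalIdeal A ≤ J := by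
    refine Submodule.le_of_le_smul_of_le_jacobson_bot (IsNoetherian.noetherian _)
      (IsLocalRing.maximalIdeal_le_jacobson _) ?_
    rw [smul_eq_mul, ← pow_two]
    refine hf.ge.trans (Ideal.span_le.mpr ?_)
    rintro _ ⟨i, rfl⟩
    by_cases hi : i = j
    · subst hi
      rw [SetLike.mem_coe, ← Ideal.unit_mul_mem_iff_mem _ hj']
      have : a i * f i = (∑ l, a l * f l) - ∑ l ∈ Finset.univ.erase i, a l * f l := by
        rw [← Finset.add_sum_erase _ _ (Finset.mem_univ i)]; ring
      rw [this]
      refine sub_mem (Submodule.mem_sup_right ha) (Submodule.mem_sup_left ?_)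
      exact sum_mem fun l hl => Ideal.mul_mem_left _ _ (Ideal.subset_span
        (Finset.mem_coe.mpr (Finset.mem_image_of_mem f hl)))
    · exact Submodule.mem_sup_left (Ideal.subset_span (Finset.mem_coe.mpr
        (Finset.mem_image_of_mem f (Finset.mem_erase.mpr ⟨hi, Finset.mem_univ i⟩))))
  have hJ : J = maximalIdeal A := le_antisymm (Ideal.span_le.mpr fun x hx => by
    obtain ⟨i, -, rfl⟩ := Finset.mem_image.mp hx
    exact hf ▸ Ideal.subset_span ⟨i, rfl⟩) hle
  have h1 : (maximalIdeal A).spanFinrank ≤ Finset.card ((Finset.univ.erase j).image f) := by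
    refine (le_of_eq (congrArg Submodule.spanFinrank hJ.symm)).trans ?_
    exact (Submodule.spanFinrank_span_le_ncard_of_finite (Finset.finite_toSet _)).trans (Set.ncard_coe_finset _).le
  have h2 : Finset.card ((Finset.univ.erase j).image f) < (maximalIdeal A).spanFinrank := by
    refine lt_of_le_of_lt Finset.card_image_le ?_
    rw [Finset.card_erase_of_mem (Finset.mem_univ j), Finset.card_univ, Fintype.card_fin]
    have := j.pos; omega
  omega

/-- A complete Noetherian local ring with a coefficient field is a quotient of a power series ring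
by an ideal contained in the square of the maximal ideal. -/
theorem exists_powerSeries_surjective {A k : Type u} [CommRing A] [IsLocalRing A] [IsNoetherianRing A]
    [IsAdicComplete (maximalIdeal A) A] [Field k] (σ : k →+* A)
    (hσ : Function.Surjective ((residue A).comp σ)) :
    ∃ φ : MvPowerSeries (Fin (maximalIdeal A).spanFinrank) k →+* A,
      Function.Surjective φ ∧ (∀ a, φ (MvPowerSeries.C a) = σ a) ∧
        RingHom.ker φ ≤ maximalIdeal _ ^ 2 := by
  have hfg : (maximalIdeal A).FG := IsNoetherian.noetherian _
  obtain ⟨s, hs, hspan⟩ := Submodule.FG.exists_span_finset_card_eq_spanFinrank hfg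
  let f : Fin (maximalIdeal A).spanFinrank → A := fun i => (s.equivFinOfCardEq hs).symm i
  have hf : Ideal.span (Set.range f) = maximalIdeal A := by
    rw [show Set.range f = (s : Set A) by
      rw [show f = Subtype.val ∘ (s.equivFinOfCardEq hs).symm from rfl, Set.range_comp,
        Equiv.range_eq_univ, Set.image_univ, Subtype.range_coe]
      ]
    exact hspan
  have hy : ∀ i, f i ∈ maximalIdeal A := fun i => hf ▸ Ideal.subset_span ⟨i, rfl⟩
  obtain ⟨φ, hC, hX⟩ := LA18.exists_powerSeries_hom (maximalIdeal A) σ f hy
  have := CAlg6.isAdicComplete_maximalIdeal (k := k) (d := (maximalIdeal A).spanFinrank)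
  have hloc : (maximalIdeal (MvPowerSeries (Fin _) k)).map φ = maximalIdeal A := by
    rw [CAlg6.maximalIdeal_eq_span_X, Ideal.map_span, ← Set.range_comp]
    exact (congrArg (fun g => Ideal.span (Set.range g)) (funext hX : φ ∘ MvPowerSeries.X = f)).trans hf
  have hsurj : Function.Surjective φ := by
    refine CAlg6.surjective_of_cotangent φ hloc.le (fun z => ?_) (by rw [hloc]; exact le_sup_left)
    obtain ⟨a, rfl⟩ := hσ z
    exact ⟨MvPowerSeries.C a, by simp only [RingHom.comp_apply, hC]⟩
  refine ⟨φ, hsurj, hC, fun g hg => ?_⟩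
  have hgm : g ∈ maximalIdeal _ := fun hu => (not_isUnit_zero (M₀ := A)) (RingHom.mem_ker.mp hg ▸ hu.map φ)
  rw [CAlg6.maximalIdeal_eq_span_X] at hgm
  obtain ⟨c, rfl⟩ := Ideal.mem_span_range_iff_exists_fun.mp hgm
  have h0 : ∑ i, φ (c i) * f i = 0 := by
    rw [RingHom.mem_ker, map_sum] at hg
    simpa only [map_mul, hX] using hg
  rw [pow_two]
  refine sum_mem fun i _ => Ideal.mul_mem_mul (fun hu => ?_) ?_
  · exact mem_maximalIdeal_of_relation f hf _ (h0 ▸ zero_mem _) i (hu.map φ)
  · rw [CAlg6.maximalIdeal_eq_span_X]; exact Ideal.subset_span ⟨i, rfl⟩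

end Groth.Agent.Cohen12
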