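import Groth.Agent.LA18.ColonKilling
import Groth.Agent.EGA4Alg4.IntegralDim
import Groth.Agent.CAlg6.CompleteSurj
import Mathlib.RingTheory.Ideal.KrullsHeightTheorem

/-!
# Noether normalisation of complete local domains containing a field
-/

set_option autoImplicit false
set_option maxHeartbeats 800000

universe u

namespace Groth.Agent.Cohen12

open IsLocalRing

variable {B : Type u} [CommRing B] [IsLocalRing B] [IsNoetherianRing B]

theorem exists_finite_span_sup_pow (R : Type u) [CommRing R] [Algebra R B] (t₀ : Finset B)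
    (hres : ∀ b : B, ∃ x ∈ Submodule.span R (t₀ : Set B), b - x ∈ maximalIdeal B) (n : ℕ) :
    ∃ s : Finset B, (Submodule.span R (s : Set B) ⊔ (maximalIdeal B ^ n).restrictScalars R) = ⊤ := by
  classical
  induction n with
  | zero => exact ⟨∅, by simp⟩
  | succ n ih =>
    obtain ⟨s, hst⟩ := ih
    obtain ⟨t, ht⟩ := (IsNoetherian.noetherian (maximalIdeal B ^ n) : (maximalIdeal B ^ n).FG)
    refine ⟨s ∪ (t₀ ×ˢ t).image (fun q => q.1 * q.2), top_le_iff.1 (hst.ge.trans ?_)⟩
    rw [Finset.coe_union, Submodule.span_union, sup_assoc]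
    refine sup_le_sup_left (fun b hb => ?_) _
    rw [Submodule.restrictScalars_mem, ← ht] at hb
    suffices h : ∀ x ∈ Submodule.span B (t : Set B), ∀ c : B, c • x ∈
        Submodule.span R (((t₀ ×ˢ t).image (fun q => q.1 * q.2) : Finset B) : Set B) ⊔
          (maximalIdeal B ^ (n + 1)).restrictScalars R by
      simpa using h b hb 1
    intro x hx
    induction hx using Submodule.span_induction with
    | mem x hx =>
      intro c
      obtain ⟨y, hy, hyc⟩ := hres c
      refine Submodule.mem_sup.2 ⟨y * x, ?_, (c - y) * x, ?_, by rw [smul_eq_mul]; ring⟩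
      · have hle : Submodule.span R (t₀ : Set B) ≤
            (Submodule.span R (((t₀ ×ˢ t).image (fun q => q.1 * q.2) : Finset B) : Set B)).comap
              (LinearMap.mulRight R x) := Submodule.span_le.mpr fun e he => by
          exact Submodule.subset_span (Finset.mem_coe.mpr (Finset.mem_image.mpr
            ⟨(e, x), Finset.mem_product.mpr ⟨Finset.mem_coe.mp he, Finset.mem_coe.mp hx⟩, rfl⟩))
        exact hle hy
      · rw [Submodule.restrictScalars_mem, pow_succ']
        exact Ideal.mul_mem_mul hyc (ht ▸ Submodule.subset_span hx)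
    | zero => intro c; rw [smul_zero]; exact zero_mem _
    | add x z _ _ h1 h2 => intro c; rw [smul_add]; exact add_mem (h1 c) (h2 c)
    | smul e x _ h1 => intro c; rw [smul_smul]; exact h1 (c * e)

theorem finite_of_residue (R : Type u) [CommRing R] [Algebra R B] (I : Ideal R)
    [IsAdicComplete I R] (hI : I.map (algebraMap R B) ≤ maximalIdeal B) (t₀ : Finset B)
    (hres : ∀ b : B, ∃ x ∈ Submodule.span R (t₀ : Set B), b - x ∈ maximalIdeal B)
    (hprim : ∃ n : ℕ, maximalIdeal B ^ n ≤ I.map (algebraMap R B)) : Module.Finite R B := by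
  classical
  obtain ⟨n, hn⟩ := hprim
  obtain ⟨s, hst⟩ := exists_finite_span_sup_pow R t₀ hres n
  let φ : (Fin s.card → R) →ₗ[R] B := Fintype.linearCombination R (fun i => (s.equivFin.symm i : B))
  have hφ : LinearMap.range φ ⊔ (I • ⊤ : Submodule R B) = ⊤ := by
    refine top_le_iff.1 (hst.ge.trans (sup_le_sup ?_ ?_))
    · rw [Submodule.span_le]
      exact fun b hb => ⟨Pi.single (s.equivFin ⟨b, hb⟩) 1, by simp [φ]⟩
    · rw [Ideal.smul_top_eq_map]
      exact fun b hb => hn hb
  have : IsHausdorff I B := ⟨fun b hb => IsHausdorff.haus (I := maximalIdeal B) inferInstance b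
    fun j => by
      have h := hb j
      rw [SModEq.zero] at h ⊢
      rw [smul_eq_mul, Ideal.mul_top]
      rw [Ideal.smul_top_eq_map, Submodule.restrictScalars_mem, Ideal.map_pow] at h
      exact Ideal.pow_right_mono hI j h⟩
  refine Module.Finite.of_surjective φ fun b => ?_
  refine AdicC27.mem_range_of_approx (I := I) φ (fun j => ((I ^ j • ⊤ : Submodule R B) : Set B))
    (fun j => subset_rfl) (fun j y hy => ?_) (by simp [Ideal.map_top])
  have h1 : y ∈ (I ^ j • ⊤ : Submodule R (Fin s.card → R)).map φ ⊔ (I ^ (j + 1) • ⊤ : Submodule R B) := by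
    rw [Submodule.map_smul'', Submodule.map_top, pow_succ, Submodule.mul_smul, ← Submodule.smul_sup,
      hφ]
    exact hy
  obtain ⟨_, ⟨z, hz, rfl⟩, w, hw, rfl⟩ := Submodule.mem_sup.1 h1
  exact ⟨z, hz, by simpa using hw⟩

/-- Noether normalisation for complete local domains with residue field finite over a field inside. -/
theorem exists_finite_powerSeries {k₀ A : Type u} [Field k₀] [CommRing A] [IsDomain A] [IsLocalRing A]
    [IsNoetherianRing A] [IsAdicComplete (maximalIdeal A) A] [Algebra k₀ A] [Module.Finite k₀ (ResidueField A)] :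
    ∃ (n : ℕ) (w : MvPowerSeries (Fin n) k₀ →ₐ[k₀] A), ringKrullDim A = n ∧
      Function.Injective w ∧ IsLocalHom w.toRingHom ∧ w.toRingHom.Finite := by
  classical
  obtain ⟨s, hs, hcard⟩ := (maximalIdeal A).exists_finset_card_eq_height_of_isNoetherianRing
  have hdim : ringKrullDim A = (s.card : WithBot ℕ∞) := by
    rw [← IsLocalRing.maximalIdeal_height_eq_ringKrullDim, ← hcard]; rfl
  let y : Fin s.card → A := fun i => s.equivFin.symm i
  have hy : ∀ i, y i ∈ maximalIdeal A := fun i => hs.1.2 (Ideal.subset_span (s.equivFin.symm i).2)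
  have hrange : Set.range y = (s : Set A) := by
    rw [show y = Subtype.val ∘ s.equivFin.symm from rfl, Set.range_comp, Equiv.range_eq_univ,
      Set.image_univ, Subtype.range_coe]
  obtain ⟨φ, hC, hX⟩ := LA18.exists_powerSeries_hom (maximalIdeal A) (algebraMap k₀ A) y hy
  let w : MvPowerSeries (Fin s.card) k₀ →ₐ[k₀] A := { φ with commutes' := hC }
  let R := MvPowerSeries (Fin s.card) k₀
  let : Algebra R A := φ.toAlgebra
  let I : Ideal R := maximalIdeal R
  have : IsAdicComplete I R := CAlg6.isAdicComplete_maximalIdeal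
  have hIA : I.map (algebraMap R A) = Ideal.span (s : Set A) := by
    rw [show I = _ from CAlg6.maximalIdeal_eq_span_X, Ideal.map_span, ← Set.range_comp]
    exact (congrArg (fun g => Ideal.span (Set.range g)) (funext hX : φ ∘ MvPowerSeries.X = y)).trans
      (congrArg Ideal.span hrange)
  obtain ⟨t, ht⟩ := (Module.Finite.fg_top : (⊤ : Submodule k₀ (ResidueField A)).FG)
  let lift := Function.surjInv (residue_surjective (R := A))
  have hres : ∀ b : A, ∃ x ∈ Submodule.span R ((t.image lift : Finset A) : Set A), b - x ∈ maximalIdeal A := by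
    intro b
    suffices h : ∀ z ∈ Submodule.span k₀ (t : Set (ResidueField A)),
        ∃ x ∈ Submodule.span R ((t.image lift : Finset A) : Set A), residue A x = z by
      obtain ⟨x, hx, hxz⟩ := h (residue A b) (ht ▸ Submodule.mem_top)
      exact ⟨x, hx, (residue_eq_zero_iff _).mp (by rw [map_sub, hxz, sub_self])⟩
    intro z hz
    induction hz using Submodule.span_induction with
    | mem z hz => exact ⟨lift z, Submodule.subset_span (Finset.mem_coe.mpr (Finset.mem_image_of_mem lift hz)),
        Function.surjInv_eq residue_surjective z⟩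
    | zero => exact ⟨0, zero_mem _, map_zero _⟩
    | add z z' _ _ h1 h2 =>
      obtain ⟨x, hx, rfl⟩ := h1; obtain ⟨x', hx', rfl⟩ := h2
      exact ⟨x + x', add_mem hx hx', map_add _ _ _⟩
    | smul c z _ h1 =>
      obtain ⟨x, hx, rfl⟩ := h1
      refine ⟨(MvPowerSeries.C c : R) • x, Submodule.smul_mem _ _ hx, ?_⟩
      show residue A (φ (MvPowerSeries.C c) * x) = c • residue A x
      rw [hC, ← Algebra.smul_def]
      rfl
  have hprim : ∃ n : ℕ, maximalIdeal A ^ n ≤ I.map (algebraMap R A) := by
    rw [hIA]
    refine Ideal.exists_pow_le_of_le_radical_of_fg ?_ (IsNoetherian.noetherian _)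
    rw [Ideal.radical_eq_sInf]
    exact le_sInf fun P ⟨hP, hPp⟩ => hs.2 ⟨hPp, hP⟩ (le_maximalIdeal hPp.ne_top)
  have hle : I.map (algebraMap R A) ≤ maximalIdeal A := hIA ▸ hs.1.2
  have hfin : Module.Finite R A := finite_of_residue R I hle (t.image lift) hres hprim
  have hlocal : IsLocalHom φ := ⟨fun z hz => by
    by_contra hz'
    exact hle (Ideal.mem_map_of_mem _ ((mem_maximalIdeal _).mpr hz')) hz⟩
  refine ⟨s.card, w, hdim, ?_, hlocal, hfin⟩
  have hrangedim : ringKrullDim φ.range = (s.card : WithBot ℕ∞) := by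
    refine le_antisymm ?_ ?_
    · exact (ringKrullDim_le_of_surjective φ.rangeRestrict φ.rangeRestrict_surjective).trans
        CAlg6.ringKrullDim_mvPowerSeries.le
    · rw [← hdim]
      have h2 : φ.range.subtype.Finite := RingHom.Finite.of_comp_finite (f := φ.rangeRestrict) hfin
      have : Module.Finite φ.range A := h2
      have : Algebra.IsIntegral φ.range A := Algebra.IsIntegral.of_finite _ _
      exact EGA4Alg4.ringKrullDim_le_of_integral φ.range A
  have : IsDomain R := NoZeroDivisors.to_isDomain _
  have hinj := CAlg6.injective_of_surjective_of_ringKrullDim_eq φ.rangeRestrict φ.rangeRestrict_surjective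
    s.card CAlg6.ringKrullDim_mvPowerSeries hrangedim
  exact fun a b hab => hinj (Subtype.ext hab)

end Groth.Agent.Cohen12
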