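import Groth.Agent.CAlg1.Serre
import Groth.Agent.CAlg1.Miracle
import Groth.Agent.CAlg1.CMPoly
import Groth.Agent.EGA4Alg4.FibreDim
import Groth.Agent.Unr55.SmoothStalkCor
import Mathlib.Algebra.Module.SpanRankOperations

/-!
# Regularity of flat local extensions
-/

set_option autoImplicit false
set_option maxHeartbeats 800000

universe u

open IsLocalRing

namespace Groth.Agent.Cohen12

variable {A B : Type u} [CommRing A] [IsLocalRing A] [IsNoetherianRing A] [CommRing B] [IsLocalRing B]
  [IsNoetherianRing B] [Algebra A B] [IsLocalHom (algebraMap A B)]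
  [IsLocalRing (B ⧸ (maximalIdeal A).map (algebraMap A B))]

omit [IsNoetherianRing B] in
theorem spanFinrank_le_add_fibre [IsNoetherianRing B] :
    (maximalIdeal B).spanFinrank ≤
      (maximalIdeal A).spanFinrank + (maximalIdeal (B ⧸ (maximalIdeal A).map (algebraMap A B))).spanFinrank := by
  classical
  let M := (maximalIdeal A).map (algebraMap A B)
  have hM : M ≤ maximalIdeal B := ((local_hom_TFAE (algebraMap A B)).out 0 2).mp ‹_›
  obtain ⟨s, hs, hspan⟩ := Submodule.FG.exists_span_finset_card_eq_spanFinrank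
    (IsNoetherian.noetherian (maximalIdeal A))
  obtain ⟨t, ht, htspan⟩ := Submodule.FG.exists_span_finset_card_eq_spanFinrank
    (IsNoetherian.noetherian (maximalIdeal (B ⧸ M)))
  let lift := Function.surjInv (Ideal.Quotient.mk_surjective (I := M))
  have hlift : ∀ x, Ideal.Quotient.mk M (lift x) = x := Function.surjInv_eq Ideal.Quotient.mk_surjective
  let T : Finset B := s.image (algebraMap A B) ∪ t.image lift
  have : IsLocalHom (Ideal.Quotient.mk M) := IsLocalHom.of_surjective _ Ideal.Quotient.mk_surjective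
  have hT : maximalIdeal B = Ideal.span (T : Set B) := by
    refine le_antisymm (fun x hx => ?_) (Ideal.span_le.mpr fun x hx => ?_)
    · have h1 : Ideal.Quotient.mk M x ∈ (Ideal.span (T : Set B)).map (Ideal.Quotient.mk M) := by
        refine (htspan.ge.trans (Ideal.span_le.mpr fun z hz => ?_)) (map_nonunit (Ideal.Quotient.mk M) x hx)
        rw [SetLike.mem_coe, ← hlift z]
        exact Ideal.mem_map_of_mem _ (Ideal.subset_span
          (Finset.mem_coe.mpr (Finset.mem_union_right _ (Finset.mem_image_of_mem lift hz))))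
      rw [← Ideal.mem_comap, Ideal.comap_map_of_surjective' _ Ideal.Quotient.mk_surjective, Ideal.mk_ker] at h1
      refine (show Ideal.span (T : Set B) ⊔ M ≤ Ideal.span (T : Set B) from sup_le le_rfl ?_) h1
      show (maximalIdeal A).map (algebraMap A B) ≤ _
      refine Ideal.map_le_iff_le_comap.mpr (hspan.ge.trans (Ideal.span_le.mpr fun a ha => ?_))
      exact Ideal.subset_span (Finset.mem_coe.mpr (Finset.mem_union_left _ (Finset.mem_image_of_mem _ ha)))
    · rcases Finset.mem_union.mp (Finset.mem_coe.mp hx) with h | h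
      · obtain ⟨a, ha, rfl⟩ := Finset.mem_image.mp h
        exact hM (Ideal.mem_map_of_mem _ (hspan ▸ Submodule.subset_span ha))
      · obtain ⟨z, hz, rfl⟩ := Finset.mem_image.mp h
        refine (mem_maximalIdeal _).mpr fun hu => ?_
        have h1 : z ∈ maximalIdeal (B ⧸ M) := htspan ▸ Submodule.subset_span hz
        exact (mem_maximalIdeal _).mp h1 (hlift z ▸ hu.map (Ideal.Quotient.mk M))
  rw [hT, ← hs, ← ht]
  refine (Submodule.spanFinrank_span_le_ncard_of_finite T.finite_toSet).trans ?_
  rw [Set.ncard_coe_finset]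
  exact (Finset.card_union_le _ _).trans (Nat.add_le_add Finset.card_image_le Finset.card_image_le)

theorem regular_flat_tfae :
    [IsRegularLocalRing B ∧
       Module.finrank (ResidueField B) (CotangentSpace B) =
         Module.finrank (ResidueField A) (CotangentSpace A) +
           Module.finrank (ResidueField (B ⧸ (maximalIdeal A).map (algebraMap A B)))
             (CotangentSpace (B ⧸ (maximalIdeal A).map (algebraMap A B))),
     IsRegularLocalRing B ∧ IsRegularLocalRing (B ⧸ (maximalIdeal A).map (algebraMap A B)) ∧ Module.Flat A B,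
     IsRegularLocalRing A ∧ IsRegularLocalRing (B ⧸ (maximalIdeal A).map (algebraMap A B)) ∧ Module.Flat A B,
     IsRegularLocalRing A ∧ IsRegularLocalRing (B ⧸ (maximalIdeal A).map (algebraMap A B)) ∧
       ringKrullDim B = ringKrullDim A + ringKrullDim (B ⧸ (maximalIdeal A).map (algebraMap A B))].TFAE := by
  let F := B ⧸ (maximalIdeal A).map (algebraMap A B)
  simp only [← spanFinrank_maximalIdeal_eq_finrank_cotangentSpace]
  have hsum := spanFinrank_le_add_fibre (A := A) (B := B)
  have hdim := EGA4Alg4.ringKrullDim_le_add_fibre A B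
  have hA := ringKrullDim_le_spanFinrank_maximalIdeal (R := A)
  have hF := ringKrullDim_le_spanFinrank_maximalIdeal (R := F)
  tfae_have 4 → 1 := by
    rintro ⟨hAr, hFr, he⟩
    have h1 : ((maximalIdeal B).spanFinrank : WithBot ℕ∞) ≤ ringKrullDim B := by
      rw [he, ← IsRegularLocalRing.spanFinrank_maximalIdeal (R := A), ← IsRegularLocalRing.spanFinrank_maximalIdeal (R := F),
        ← Nat.cast_add]
      exact Nat.cast_le.mpr hsum
    have hBr := IsRegularLocalRing.of_spanFinrank_maximalIdeal_le B h1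
    refine ⟨hBr, ?_⟩
    rw [← IsRegularLocalRing.spanFinrank_maximalIdeal (R := A), ← IsRegularLocalRing.spanFinrank_maximalIdeal (R := F),
      ← IsRegularLocalRing.spanFinrank_maximalIdeal (R := B), ← Nat.cast_add] at he
    exact_mod_cast he
  tfae_have 1 → 4 := by
    rintro ⟨hBr, he⟩
    have h1 : ((maximalIdeal A).spanFinrank : WithBot ℕ∞) + (maximalIdeal F).spanFinrank ≤ ringKrullDim A + ringKrullDim F := by
      rw [← Nat.cast_add, ← he, IsRegularLocalRing.spanFinrank_maximalIdeal (R := B)]
      exact hdim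
    obtain ⟨a, ha⟩ : ∃ a : ℕ, ringKrullDim A = a := by
      have h0 : (0 : WithBot ℕ∞) ≤ ringKrullDim A := ringKrullDim_nonneg_of_nontrivial
      obtain ⟨x, hx⟩ := WithBot.ne_bot_iff_exists.mp (ne_bot_of_le_ne_bot (by simp) h0)
      rw [← hx] at hA ⊢
      have hne : x ≠ ⊤ := fun h => by
        rw [h] at hA
        exact absurd (WithBot.coe_le_coe.mp hA) (by simp)
      obtain ⟨a, rfl⟩ := ENat.ne_top_iff_exists.mp hne
      exact ⟨a, rfl⟩
    obtain ⟨f, hf⟩ : ∃ f : ℕ, ringKrullDim F = f := by
      have h0 : (0 : WithBot ℕ∞) ≤ ringKrullDim F := ringKrullDim_nonneg_of_nontrivial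
      obtain ⟨x, hx⟩ := WithBot.ne_bot_iff_exists.mp (ne_bot_of_le_ne_bot (by simp) h0)
      rw [← hx] at hF ⊢
      have hne : x ≠ ⊤ := fun h => by
        rw [h] at hF
        exact absurd (WithBot.coe_le_coe.mp hF) (by simp)
      obtain ⟨a, rfl⟩ := ENat.ne_top_iff_exists.mp hne
      exact ⟨a, rfl⟩
    rw [ha] at hA
    rw [hf] at hF
    rw [ha, hf, ← Nat.cast_add, ← Nat.cast_add] at h1
    have hA' : a ≤ (maximalIdeal A).spanFinrank := by exact_mod_cast hA
    have hF' : f ≤ (maximalIdeal F).spanFinrank := by exact_mod_cast hF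
    have h1' : (maximalIdeal A).spanFinrank + (maximalIdeal F).spanFinrank ≤ a + f := by exact_mod_cast h1
    refine ⟨IsRegularLocalRing.of_spanFinrank_maximalIdeal_le A (ha ▸ Nat.cast_le.mpr (by omega)),
      IsRegularLocalRing.of_spanFinrank_maximalIdeal_le F (hf ▸ Nat.cast_le.mpr (by omega)), ?_⟩
    refine le_antisymm hdim ?_
    rw [← IsRegularLocalRing.spanFinrank_maximalIdeal (R := B), he, ha, hf, ← Nat.cast_add]
    exact Nat.cast_le.mpr (Nat.add_le_add hA' hF')
  tfae_have 3 → 4 := fun ⟨hAr, hFr, hfl⟩ => ⟨hAr, hFr, Unr55.ringKrullDim_eq_add_of_flat A B⟩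
  tfae_have 4 → 2 := by
    intro h
    obtain ⟨hBr, -⟩ := tfae_4_to_1 h
    obtain ⟨hAr, hFr, he⟩ := h
    have := CAlg1.cm_of_isRegularLocalRing B
    exact ⟨hBr, hFr, CAlg1.miracle_flatness _ A B rfl he⟩
  tfae_have 2 → 3 := fun ⟨hBr, hFr, hfl⟩ => ⟨CAlg1.regular_of_flat A B, hFr, hfl⟩
  tfae_finish

end Groth.Agent.Cohen12
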