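import Groth.Agent.FSAdic12.Basic
import Mathlib.RingTheory.Smooth.Basic
import Mathlib.RingTheory.TensorProduct.Maps
import Mathlib.RingTheory.Localization.AtPrime.Basic

/-!
# Functoriality of adic formal smoothness over a discrete base
-/

set_option autoImplicit false

universe u

open TensorProduct

namespace Groth.Agent.Cohen12

/-- Composition with a formally smooth algebra on the left. -/
theorem isAdicFormallySmooth_trans {P k A : Type u} [CommRing P] [CommRing k] [CommRing A]
    [Algebra P k] [Algebra k A] [Algebra P A] [IsScalarTower P k A] [Algebra.FormallySmooth P k]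
    (𝔫 : Ideal A) (h : CAlgX.IsAdicFormallySmooth k A 𝔫) : CAlgX.IsAdicFormallySmooth P A 𝔫 := by
  intro C _ _ J hJ ψ hψ
  let t : k →ₐ[P] C := Algebra.FormallySmooth.lift J ⟨2, hJ⟩ (ψ.comp (IsScalarTower.toAlgHom P k A))
  have ht : ∀ x, Ideal.Quotient.mk J (t x) = ψ (algebraMap k A x) :=
    fun x => Algebra.FormallySmooth.mk_lift J ⟨2, hJ⟩ _ x
  let : Algebra k C := t.toAlgebra
  have : IsScalarTower P k C := IsScalarTower.of_algebraMap_eq fun r => (t.commutes r).symm
  let ψk : A →ₐ[k] C ⧸ J := { ψ.toRingHom with commutes' := fun x => (ht x).symm }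
  obtain ⟨χ, hχ⟩ := h C J hJ ψk hψ
  refine ⟨χ.restrictScalars P, AlgHom.ext fun a => ?_⟩
  exact AlgHom.congr_fun hχ a

/-- Base change. -/
theorem isAdicFormallySmooth_baseChange {k k' A : Type u} [CommRing k] [CommRing k'] [CommRing A]
    [Algebra k k'] [Algebra k A] (𝔫 : Ideal A) (h : CAlgX.IsAdicFormallySmooth k A 𝔫) :
    CAlgX.IsAdicFormallySmooth k' (k' ⊗[k] A)
      (𝔫.map (Algebra.TensorProduct.includeRight : A →ₐ[k] k' ⊗[k] A)) := by
  intro C _ _ J hJ ψ hψ
  let : Algebra k C := ((algebraMap k' C).comp (algebraMap k k')).toAlgebra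
  have : IsScalarTower k k' C := IsScalarTower.of_algebraMap_eq fun _ => rfl
  obtain ⟨n, hn⟩ := hψ
  obtain ⟨χ, hχ⟩ := h C J hJ ((ψ.restrictScalars k).comp Algebra.TensorProduct.includeRight)
    ⟨n, fun x hx => hn _ (by rw [← Ideal.map_pow]; exact Ideal.mem_map_of_mem _ hx)⟩
  refine ⟨Algebra.TensorProduct.lift (Algebra.ofId k' C) χ fun _ _ => Commute.all _ _, ?_⟩
  refine Algebra.TensorProduct.ext (Subsingleton.elim _ _) (AlgHom.ext fun a => ?_)
  have := AlgHom.congr_fun hχ a
  simpa using this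

/-- Localisation at an open prime. -/
theorem isAdicFormallySmooth_atPrime {k B : Type u} [CommRing k] [CommRing B] [Algebra k B]
    (𝔫 : Ideal B) (h : CAlgX.IsAdicFormallySmooth k B 𝔫) (p : Ideal B) [p.IsPrime] (hp : 𝔫 ≤ p) :
    CAlgX.IsAdicFormallySmooth k (Localization.AtPrime p)
      (IsLocalRing.maximalIdeal (Localization.AtPrime p)) := by
  intro C _ _ J hJ ψ hψ
  obtain ⟨n, hn⟩ := hψ
  obtain ⟨χ, hχ⟩ := h C J hJ (ψ.comp (IsScalarTower.toAlgHom k B (Localization.AtPrime p)))
    ⟨n, fun x hx => hn _ (by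
      rw [← Localization.AtPrime.map_eq_maximalIdeal, ← Ideal.map_pow]
      exact Ideal.mem_map_of_mem _ (Ideal.pow_right_mono hp n hx))⟩
  have hu : ∀ y : p.primeCompl, IsUnit (χ y) := fun y => by
    refine (IsNilpotent.isUnit_quotient_mk_iff (I := J) ⟨2, hJ⟩).mp ?_
    rw [show Ideal.Quotient.mk J (χ y) = ψ (algebraMap B _ (y : B)) from AlgHom.congr_fun hχ y]
    exact (IsLocalization.map_units (Localization.AtPrime p) y).map ψ
  refine ⟨IsLocalization.liftAlgHom (M := p.primeCompl) (S := Localization.AtPrime p) (f := χ) hu, ?_⟩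
  refine IsLocalization.algHom_ext p.primeCompl (AlgHom.ext fun b => ?_)
  show Ideal.Quotient.mk J (IsLocalization.liftAlgHom hu (algebraMap B _ b)) = ψ (algebraMap B _ b)
  rw [IsLocalization.liftAlgHom_apply, IsLocalization.lift_eq]
  exact AlgHom.congr_fun hχ b

end Groth.Agent.Cohen12
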