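import Groth.Agent.Cohen12.Regular
import Groth.Agent.Cohen12.FSBase
import Groth.Agent.EGA4Alg4.RegCompletion
import Groth.Prelude.Def_Found

/-!
# Formally smooth implies geometrically regular
-/

set_option autoImplicit false
set_option maxHeartbeats 800000

universe u

open TensorProduct IsLocalRing

namespace Groth.Agent.Cohen12

theorem regular_of_formallySmooth_field {k A : Type u} [Field k] [CommRing A] [IsLocalRing A]
    [IsNoetherianRing A] [Algebra k A] (h : CAlgX.IsAdicFormallySmooth k A (maximalIdeal A)) :
    IsRegularLocalRing A ∧ ∃ n : ℕ, Nonempty (AdicCompletion (maximalIdeal A) A ≃+*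
      MvPowerSeries (Fin n) (ResidueField (AdicCompletion (maximalIdeal A) A))) := by
  let P := Sep12.prime k
  have : Algebra.FormallySmooth P k := Sep12.formallySmooth_of_perfectField P k
  exact exists_powerSeries_equiv_of_formallySmooth (isAdicFormallySmooth_trans (P := P) _ h)

theorem isGeometricallyRegular_of_formallySmooth {k A : Type u} [Field k] [CommRing A] [IsLocalRing A]
    [IsNoetherianRing A] [Algebra k A] (h : CAlgX.IsAdicFormallySmooth k A (maximalIdeal A)) :
    CAlg.IsGeometricallyRegular k A := by
  intro k' _ _ hfin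
  have hB := isAdicFormallySmooth_baseChange (k' := k') _ h
  let B := k' ⊗[k] A
  let f : A →+* B := (Algebra.TensorProduct.includeRight : A →ₐ[k] B).toRingHom
  let : Algebra A B := Algebra.TensorProduct.rightAlgebra
  have hf : algebraMap A B = f := rfl
  have : Module.Finite A B := by
    have : Module.Finite k k' := hfin
    have : Module.Finite A (A ⊗[k] k') := inferInstance
    let e : A ⊗[k] k' ≃ₗ[A] B :=
      { __ := (Algebra.TensorProduct.comm k A k').toAddEquiv
        map_smul' := fun a z => by
          show Algebra.TensorProduct.comm k A k' (a • z) = f a * Algebra.TensorProduct.comm k A k' z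
          rw [Algebra.smul_def, map_mul]
          rfl }
    exact Module.Finite.equiv e
  have : IsNoetherianRing B := IsNoetherianRing.of_finite A B
  refine EGA4Alg4.RegCompletion13.isRegularRing_of_isMaximal fun M hM => ?_
  have : Algebra.IsIntegral A B := Algebra.IsIntegral.of_finite A B
  have hle : (maximalIdeal A).map f ≤ M := by
    rw [Ideal.map_le_iff_le_comap, ← hf]
    exact (IsLocalRing.eq_maximalIdeal (Ideal.isMaximal_comap_of_isIntegral_of_isMaximal M)).ge
  exact (regular_of_formallySmooth_field (isAdicFormallySmooth_atPrime _ hB M hle)).1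

end Groth.Agent.Cohen12

namespace Groth.Agent.Cohen12

/-- The residue field of the completion. -/
theorem exists_residueField_equiv (A : Type u) [CommRing A] [IsLocalRing A] [IsNoetherianRing A] :
    ∃ e : ResidueField A ≃+* ResidueField (AdicCompletion (maximalIdeal A) A),
      ∀ a, e (residue A a) = residue _ (algebraMap A (AdicCompletion (maximalIdeal A) A) a) := by
  let C := AdicCompletion (maximalIdeal A) A
  have : IsLocalHom (algebraMap A C) := ⟨fun z hz => by
    by_contra hz'
    have := (algebraMap_mem_pow_iff A 1 z).mpr (by rw [pow_one]; exact (mem_maximalIdeal _).mpr hz')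
    rw [pow_one] at this
    exact (mem_maximalIdeal _).mp this hz⟩
  refine ⟨RingEquiv.ofBijective (ResidueField.map (algebraMap A C)) ⟨RingHom.injective _, fun x => ?_⟩,
    fun a => rfl⟩
  obtain ⟨c, rfl⟩ := residue_surjective x
  obtain ⟨a, ha⟩ := exists_sub_mem_pow A 1 c
  refine ⟨residue A a, ?_⟩
  rw [pow_one] at ha
  rw [ResidueField.map_residue, eq_comm, ← sub_eq_zero, ← map_sub]
  exact (residue_eq_zero_iff _).mpr ha

/-- Change of coefficients along an isomorphism. -/
noncomputable def mapEquiv {σ : Type*} {R S : Type*} [CommRing R] [CommRing S] (e : R ≃+* S) :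
    MvPowerSeries σ R ≃+* MvPowerSeries σ S :=
  RingEquiv.ofBijective (MvPowerSeries.map (e : R →+* S)) ⟨fun f g h => MvPowerSeries.ext fun n => e.injective (by
    simpa using congrArg (MvPowerSeries.coeff n) h), fun g => ⟨fun n => e.symm (g n), MvPowerSeries.ext fun n => by
    rw [MvPowerSeries.coeff_map]
    exact e.apply_symm_apply _⟩⟩

theorem mapEquiv_C {σ : Type*} {R S : Type*} [CommRing R] [CommRing S] (e : R ≃+* S) (r : R) :
    mapEquiv (σ := σ) e (MvPowerSeries.C r) = MvPowerSeries.C (e r) :=
  (RingEquiv.ofBijective_apply ..).trans (MvPowerSeries.map_C _ _)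

end Groth.Agent.Cohen12
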