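import Mathlib.RingTheory.TensorProduct.Maps
import Mathlib.RingTheory.LocalRing.ResidueField.Basic
import Mathlib.LinearAlgebra.TensorProduct.Tower

/-!
# Recognising a closed fibre
-/

set_option autoImplicit false

universe u

open TensorProduct

namespace Groth.Agent.Cohen12

theorem exists_fibre_equiv {A A₀ B B₀ : Type u} [CommRing A] [CommRing A₀] [CommRing B] [CommRing B₀] [Algebra A A₀]
    [Algebra A B] [Algebra A₀ B₀] (hsurj : Function.Surjective (algebraMap A A₀)) (π : B →+* B₀)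
    (hπ : Function.Surjective π) (hker : RingHom.ker π = (RingHom.ker (algebraMap A A₀)).map (algebraMap A B))
    (hcomm : ∀ a, π (algebraMap A B a) = algebraMap A₀ B₀ (algebraMap A A₀ a)) :
    ∃ θ : A₀ ⊗[A] B ≃ₐ[A₀] B₀, ∀ b, θ (1 ⊗ₜ b) = π b := by
  let : Algebra A B₀ := ((algebraMap A₀ B₀).comp (algebraMap A A₀)).toAlgebra
  have : IsScalarTower A A₀ B₀ := IsScalarTower.of_algebraMap_eq fun _ => rfl
  let πA : B →ₐ[A] B₀ := { π with commutes' := hcomm }
  let θ : A₀ ⊗[A] B →ₐ[A₀] B₀ := Algebra.TensorProduct.lift (Algebra.ofId A₀ B₀) πA fun _ _ => Commute.all _ _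
  have hθ : ∀ b, θ (1 ⊗ₜ b) = π b := fun b => by simp [θ, πA]
  have hz : ∀ z : A₀ ⊗[A] B, ∃ b, z = 1 ⊗ₜ b := fun z => by
    induction z with
    | zero => exact ⟨0, (tmul_zero _ _).symm⟩
    | tmul c b =>
      obtain ⟨a, rfl⟩ := hsurj c
      exact ⟨a • b, by rw [tmul_smul, smul_tmul', Algebra.smul_def, mul_one]⟩
    | add x y hx hy =>
      obtain ⟨b, rfl⟩ := hx
      obtain ⟨b', rfl⟩ := hy
      exact ⟨b + b', (tmul_add _ _ _).symm⟩
  refine ⟨AlgEquiv.ofBijective θ ⟨(injective_iff_map_eq_zero θ).mpr fun z h0 => ?_, fun x => ?_⟩,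
    fun b => by rw [AlgEquiv.coe_ofBijective]; exact hθ b⟩
  · obtain ⟨b, rfl⟩ := hz z
    rw [hθ, ← RingHom.mem_ker, hker] at h0
    let Z : Ideal B :=
      RingHom.ker ((Algebra.TensorProduct.includeRight : B →ₐ[A] A₀ ⊗[A] B) : B →+* A₀ ⊗[A] B)
    have hle : (RingHom.ker (algebraMap A A₀)).map (algebraMap A B) ≤ Z := by
      rw [Ideal.map_le_iff_le_comap]
      intro a ha
      show (1 : A₀) ⊗ₜ[A] (algebraMap A B a) = 0
      rw [Algebra.algebraMap_eq_smul_one, tmul_smul, smul_tmul', Algebra.smul_def, RingHom.mem_ker.mp ha,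
        zero_mul, zero_tmul]
    exact hle h0
  · obtain ⟨b, rfl⟩ := hπ x
    exact ⟨1 ⊗ₜ b, hθ b⟩

end Groth.Agent.Cohen12
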