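import Groth.Agent.Cohen12.GeomRegular
import Groth.Agent.CAlg5.Cohen
import Groth.Agent.FSPow12.Basic

/-!
# Regular local algebras with separable residue field are formally smooth
-/

set_option autoImplicit false
set_option maxHeartbeats 800000

universe u

open IsLocalRing

namespace Groth.Agent.Cohen12

theorem isAdicFormallySmooth_powerSeries {k K : Type u} [Field k] [Field K] [Algebra k K]
    [Algebra.FormallySmooth k K] (n : ℕ) :
    CAlgX.IsAdicFormallySmooth k (MvPowerSeries (Fin n) K) (maximalIdeal (MvPowerSeries (Fin n) K)) := by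
  intro E _ _ J hJ ψ hψ
  obtain ⟨N, hN⟩ := hψ
  let cK : K →ₐ[k] MvPowerSeries (Fin n) K := IsScalarTower.toAlgHom k K _
  let t : K →ₐ[k] E := Algebra.FormallySmooth.lift J ⟨2, hJ⟩ (ψ.comp cK)
  have ht : ∀ x, Ideal.Quotient.mk J (t x) = ψ (cK x) := fun x => Algebra.FormallySmooth.mk_lift J ⟨2, hJ⟩ _ x
  let : Algebra K E := t.toAlgebra
  choose z hz using fun i : Fin n => Ideal.Quotient.mk_surjective (ψ (MvPowerSeries.X i))
  have hXm : ∀ i : Fin n, (MvPowerSeries.X i : MvPowerSeries (Fin n) K) ∈ maximalIdeal _ := fun i =>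
    CAlg6.mem_maximalIdeal_iff.2 (MvPowerSeries.constantCoeff_X i)
  have hzn : ∀ i, IsNilpotent (z i) := fun i => by
    have h1 : z i ^ N ∈ J := by
      rw [← Ideal.Quotient.eq_zero_iff_mem, map_pow, hz, ← map_pow]
      exact hN _ (Ideal.pow_mem_pow (hXm i) N)
    refine ⟨N * 2, ?_⟩
    have := Ideal.pow_mem_pow h1 2
    rw [hJ, Submodule.mem_bot, ← pow_mul] at this
    exact this
  obtain ⟨g, ⟨m, hm⟩, hgX⟩ := FSPow12.exists_algHom (E := E) (⊥ : Ideal K) ⟨1, by simp⟩ z hzn
  let g' : MvPowerSeries (Fin n) K →ₐ[k] E :=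
    { g.toRingHom with
      commutes' := fun r => by
        show g (algebraMap k (MvPowerSeries (Fin n) K) r) = algebraMap k E r
        rw [IsScalarTower.algebraMap_apply k K (MvPowerSeries (Fin n) K), g.commutes]
        exact t.commutes r }
  refine ⟨g', AlgHom.ext fun x => ?_⟩
  let ψK : MvPowerSeries (Fin n) K →ₐ[K] E ⧸ J :=
    { ψ.toRingHom with commutes' := fun r => (ht r).symm }
  have key : (Ideal.Quotient.mkₐ K J).comp g = ψK := by
    refine FSPow12.algHom_ext (⊥ : Ideal K) ⟨m, fun x hx => ?_⟩ ⟨N, fun x hx => hN x ?_⟩ fun i => ?_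
    · show Ideal.Quotient.mk J (g x) = 0
      rw [hm x hx, map_zero]
    · refine Ideal.pow_right_mono ?_ N hx
      refine sup_le ?_ ?_
      · simp
      · rw [FSPow12.ker_constantCoeff, CAlg6.maximalIdeal_eq_span_X]
    · show Ideal.Quotient.mk J (g (MvPowerSeries.X i)) = ψ (MvPowerSeries.X i)
      rw [hgX, hz]
  exact AlgHom.congr_fun key x

theorem isAdicFormallySmooth_of_mod_pow {k A R : Type u} [CommRing k] [CommRing A] [CommRing R] [Algebra k A]
    [Algebra k R] (𝔫 : Ideal A) (𝔯 : Ideal R) (φ : A →ₐ[k] R) (h1 : ∀ N a, φ a ∈ 𝔯 ^ N ↔ a ∈ 𝔫 ^ N)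
    (h2 : ∀ N x, ∃ a, x - φ a ∈ 𝔯 ^ N) (h : CAlgX.IsAdicFormallySmooth k R 𝔯) :
    CAlgX.IsAdicFormallySmooth k A 𝔫 := by
  intro E _ _ J hJ ψ hψ
  obtain ⟨N, hN⟩ := hψ
  let θ : (A ⧸ 𝔫 ^ N) →ₐ[k] R ⧸ 𝔯 ^ N := Ideal.quotientMapₐ (𝔯 ^ N) φ fun a ha => (h1 N a).mpr ha
  have hθ : Function.Bijective θ := by
    constructor
    · rw [injective_iff_map_eq_zero]
      intro z hz
      obtain ⟨a, rfl⟩ := Ideal.Quotient.mk_surjective z
      exact Ideal.Quotient.eq_zero_iff_mem.mpr ((h1 N a).mp (Ideal.Quotient.eq_zero_iff_mem.mp hz))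
    · intro x
      obtain ⟨x, rfl⟩ := Ideal.Quotient.mk_surjective x
      obtain ⟨a, ha⟩ := h2 N x
      exact ⟨Ideal.Quotient.mk _ a, (Ideal.Quotient.eq.mpr ha).symm⟩
  let θe := AlgEquiv.ofBijective θ hθ
  let ψR : R →ₐ[k] E ⧸ J :=
    (Ideal.Quotient.liftₐ (𝔫 ^ N) ψ hN).comp (θe.symm.toAlgHom.comp (Ideal.Quotient.mkₐ k (𝔯 ^ N)))
  have hψR : ∀ a, ψR (φ a) = ψ a := fun a => by
    show Ideal.Quotient.liftₐ (𝔫 ^ N) ψ hN (θe.symm (θe (Ideal.Quotient.mk _ a))) = ψ a
    rw [θe.symm_apply_apply]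
    rfl
  obtain ⟨χ, hχ⟩ := h E J hJ ψR ⟨N, fun x hx => by
    show Ideal.Quotient.liftₐ (𝔫 ^ N) ψ hN (θe.symm (Ideal.Quotient.mk _ x)) = 0
    rw [Ideal.Quotient.eq_zero_iff_mem.mpr hx, map_zero, map_zero]⟩
  exact ⟨χ.comp φ, AlgHom.ext fun a => (AlgHom.congr_fun hχ (φ a)).trans (hψR a)⟩

variable {k A : Type u} [Field k] [CommRing A] [IsRegularLocalRing A] [Algebra k A]

theorem exists_equiv_powerSeries [Algebra.IsGeometricallyReduced k (ResidueField A)] :
    ∃ (n : ℕ) (e : AdicCompletion (maximalIdeal A) A ≃+* MvPowerSeries (Fin n) (ResidueField A)),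
      ∀ x : k, e (algebraMap A (AdicCompletion (maximalIdeal A) A) (algebraMap k A x)) =
        algebraMap (ResidueField A) (MvPowerSeries (Fin n) (ResidueField A)) (algebraMap k (ResidueField A) x) := by
  have := isNoetherianRing_completion A
  have := isAdicComplete_completion A
  let C := AdicCompletion (maximalIdeal A) A
  have : IsRegularLocalRing C := by
    refine IsRegularLocalRing.of_spanFinrank_maximalIdeal_le C ?_
    rw [CAlg1.ringKrullDim_adicCompletion A, ← IsRegularLocalRing.spanFinrank_maximalIdeal (R := A)]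
    refine Nat.cast_le.mpr ?_
    rw [AdicCompletion.maximalIdeal_eq_map]
    obtain ⟨s, hs, hspan⟩ := Submodule.FG.exists_span_finset_card_eq_spanFinrank
      (IsNoetherian.noetherian (maximalIdeal A))
    calc _ = ((Ideal.span (s : Set A)).map (algebraMap A C)).spanFinrank := by rw [show Ideal.span (s : Set A) = _ from hspan]
      _ = (Ideal.span (algebraMap A C '' s)).spanFinrank := by rw [Ideal.map_span]
      _ ≤ (algebraMap A C '' s).ncard := Submodule.spanFinrank_span_le_ncard_of_finite (s.finite_toSet.image _)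
      _ ≤ (s : Set A).ncard := Set.ncard_image_le s.finite_toSet
      _ = _ := by rw [Set.ncard_coe_finset, hs]
  obtain ⟨r, hr⟩ := exists_residueField_equiv A
  let rk : ResidueField A ≃ₐ[k] ResidueField C :=
    { r with commutes' := fun x => hr (algebraMap k A x) }
  have : Algebra.FormallySmooth k (ResidueField A) :=
    (Sep12.formallySmooth_iff_isGeometricallyReduced (k := k) (K := ResidueField A)).mpr ‹_›
  have : Algebra.FormallySmooth k (ResidueField C) := Algebra.FormallySmooth.of_equiv rk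
  obtain ⟨σ, hσ⟩ := exists_lift_complete (maximalIdeal C) (AlgHom.id k (ResidueField C))
  obtain ⟨d, φ, hφ, hφC⟩ := CAlg5.exists_powerSeries_bijective σ.toRingHom fun x => ⟨x, hσ x⟩
  let E := RingEquiv.ofBijective φ hφ
  refine ⟨d, E.symm.trans (mapEquiv r.symm), fun x => ?_⟩
  have h1 : E.symm (algebraMap A C (algebraMap k A x)) =
      MvPowerSeries.C (algebraMap k (ResidueField C) x) := by
    rw [RingEquiv.symm_apply_eq]
    exact ((σ.commutes x).symm.trans (hφC _).symm)
  rw [RingEquiv.trans_apply, h1, mapEquiv_C]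
  exact congrArg MvPowerSeries.C (rk.symm.commutes x)

theorem isAdicFormallySmooth_of_regular [Algebra.IsGeometricallyReduced k (ResidueField A)] : CAlgX.IsAdicFormallySmooth k A (maximalIdeal A) := by
  obtain ⟨n, e, he⟩ := exists_equiv_powerSeries (k := k) (A := A)
  have : Algebra.FormallySmooth k (ResidueField A) :=
    (Sep12.formallySmooth_iff_isGeometricallyReduced (k := k) (K := ResidueField A)).mpr ‹_›
  let C := AdicCompletion (maximalIdeal A) A
  let φ : A →ₐ[k] MvPowerSeries (Fin n) (ResidueField A) :=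
    { e.toRingHom.comp (algebraMap A C) with
      commutes' := fun x => (he x).trans (IsScalarTower.algebraMap_apply k (ResidueField A) _ x).symm }
  have hmem : ∀ N c, e c ∈ maximalIdeal _ ^ N ↔ c ∈ maximalIdeal C ^ N := fun N c => by
    have hm : (maximalIdeal C).map e = maximalIdeal _ := by
      refine IsLocalRing.eq_maximalIdeal ?_
      exact Ideal.map_isMaximal_of_equiv e
    rw [← hm, ← Ideal.map_pow]
    exact Ideal.apply_mem_of_equiv_iff
  refine isAdicFormallySmooth_of_mod_pow _ _ φ (fun N a => (hmem N _).trans (algebraMap_mem_pow_iff A N a))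
    (fun N x => ?_) (isAdicFormallySmooth_powerSeries n)
  obtain ⟨a, ha⟩ := exists_sub_mem_pow A N (e.symm x)
  refine ⟨a, ?_⟩
  have := (hmem N _).mpr ha
  rwa [map_sub, e.apply_symm_apply] at this

end Groth.Agent.Cohen12

namespace Groth.Agent.Cohen12

theorem isRegularLocalRing_of_completion_equiv {A K : Type u} [CommRing A] [IsLocalRing A] [IsNoetherianRing A]
    [Field K] {n : ℕ} (e : AdicCompletion (maximalIdeal A) A ≃+* MvPowerSeries (Fin n) K) :
    IsRegularLocalRing A := by
  have := isNoetherianRing_completion A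
  have : IsRegularLocalRing (MvPowerSeries (Fin n) K) := CAlg6.isRegularLocalRing_mvPowerSeries
  have : IsRegularLocalRing (AdicCompletion (maximalIdeal A) A) := IsRegularLocalRing.of_ringEquiv e.symm
  refine IsRegularLocalRing.of_spanFinrank_maximalIdeal_le A ?_
  rw [← CAlg1.ringKrullDim_adicCompletion A,
    ← IsRegularLocalRing.spanFinrank_maximalIdeal (R := AdicCompletion (maximalIdeal A) A)]
  exact_mod_cast spanFinrank_maximalIdeal_le_completion A

end Groth.Agent.Cohen12
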