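import Groth.Agent.Cohen12.Structure
import Groth.Agent.Cohen12.GeomRegular
import Groth.Agent.CAlg5.Cohen
import Groth.Agent.CAlg1.Miracle
import Groth.Agent.CAlg1.CMPoly
import Mathlib.RingTheory.Flat.Stability
import Mathlib.RingTheory.RingHom.Flat
import Mathlib.RingTheory.TensorProduct.Quotient

/-!
# Flat lifts of complete regular local algebras over the residue field
-/

set_option autoImplicit false
set_option maxHeartbeats 800000

universe u

open IsLocalRing TensorProduct

namespace Groth.Agent.Cohen12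

theorem flat_quotient_algebraMap {R R' : Type u} [CommRing R] [CommRing R'] [Algebra R R'] [Module.Flat R R']
    (I : Ideal R) :
    (algebraMap (R ⧸ I) (R' ⧸ I.map (algebraMap R R'))).Flat := by
  let e₁ : (R ⧸ I) ⊗[R] R' ≃ₗ[R] R' ⧸ I.map (algebraMap R R') :=
    ((Algebra.TensorProduct.quotIdealMapEquivTensorQuot R' I).toLinearEquiv.restrictScalars R ≪≫ₗ
      TensorProduct.comm R R' (R ⧸ I)).symm
  let e₂ : (R ⧸ I) ⊗[R] R' ≃ₗ[R ⧸ I] R' ⧸ I.map (algebraMap R R') :=
    { e₁.toAddEquiv with
      map_smul' := fun c z => by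
        obtain ⟨c, rfl⟩ := Ideal.Quotient.mk_surjective c
        show e₁ ((Ideal.Quotient.mk I c) • z) = _
        rw [← Ideal.Quotient.algebraMap_eq, algebraMap_smul, map_smul, RingHom.id_apply]
        exact (algebraMap_smul (R ⧸ I) c (e₁ z)).symm }
  exact RingHom.flat_algebraMap_iff.mpr (Module.Flat.of_linearEquiv e₂.symm)

theorem flat_quotient_map {R R' : Type u} [CommRing R] [CommRing R'] (g : R →+* R') (hg : g.Flat) (I : Ideal R) :
    (Ideal.quotientMap (I.map g) g Ideal.le_comap_map).Flat :=
  @flat_quotient_algebraMap R R' _ _ g.toAlgebra hg I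

/-- A regular local `k`-algebra, complete, lifts to a flat complete Noetherian local `A`-algebra. -/
theorem exists_flat_lift {A : Type u} [CommRing A] [IsLocalRing A] [IsNoetherianRing A]
    (B₀ : Type u) [CommRing B₀] [IsRegularLocalRing B₀] [IsAdicComplete (maximalIdeal B₀) B₀]
    (c₀ : ResidueField A →+* B₀) :
    ∃ (B : Type u) (_ : CommRing B) (_ : IsLocalRing B) (_ : IsNoetherianRing B) (f : A →+* B) (π : B →+* B₀),
      IsLocalHom f ∧ IsAdicComplete (maximalIdeal B) B ∧ f.Flat ∧ Function.Surjective π ∧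
        RingHom.ker π = (maximalIdeal A).map f ∧ ∀ a, π (f a) = c₀ (residue A a) := by
  classical
  -- the completion of `A` and a presentation
  let Â := AdicCompletion (maximalIdeal A) A
  have := isNoetherianRing_completion A
  have := isAdicComplete_completion A
  obtain ⟨r, hr⟩ := exists_residueField_equiv A
  obtain ⟨W, _, _, hW, w, hwl, hw⟩ := exists_cohen_hom Â
  obtain ⟨hWN, hWc, hWd, -, p, hp, hmW⟩ := cohen_struct hW
  obtain ⟨m, φ, hφs, hφl, hφC⟩ := exists_surjection_of_cohen_hom w hw
  let R := MvPowerSeries (Fin m) W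
  obtain ⟨hR, -, hRdim⟩ := regular_powerSeries_cohen (W := W) m hW
  have := hR
  -- residue field data of `B₀`
  let K' := ResidueField B₀
  let j : ResidueField W →+* K' :=
    ((residue B₀).comp c₀).comp (r.symm.toRingHom.comp (ResidueField.map w))
  have hpK : CharP K' p := charP_of_injective_ringHom (RingHom.injective j) p
  obtain ⟨W', _, _, e', hW'⟩ := exists_cohenRing K'
  obtain ⟨hWN', hWc', hWd', -, p', hp', hmW'⟩ := cohen_struct hW'
  have hpp : p' = p := CharP.eq K' (charP_of_injective_ringHom (f := e'.toRingHom) e'.injective p') hpK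
  subst hpp
  have hp0 : (p' : B₀) = 0 := by
    have hA : CharP (ResidueField A) p' := charP_of_injective_ringHom (f := r.symm.toRingHom.comp (ResidueField.map w)) (RingHom.injective _) p'
    rw [← map_natCast c₀, CharP.cast_eq_zero, map_zero]
  obtain ⟨σ, hσ⟩ := exists_coefficientField B₀ p' hp0
  obtain ⟨n, ψ, hψb, hψC⟩ := CAlg5.exists_powerSeries_bijective σ fun x => ⟨x, hσ x⟩
  have hB₀dim : ringKrullDim B₀ = (n : WithBot ℕ∞) :=
    (ringKrullDim_eq_of_ringEquiv (RingEquiv.ofBijective ψ hψb)).symm.trans CAlg6.ringKrullDim_mvPowerSeries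
  let R' := MvPowerSeries (Fin (n + m)) W'
  obtain ⟨hR', hR'c, hR'dim⟩ := regular_powerSeries_cohen (W := W') (n + m) hW'
  have := hR'
  have := hR'c
  -- the projection `R' → B₀`
  let s : W' →+* B₀ := σ.comp (e'.toRingHom.comp (residue W'))
  let y : Fin (n + m) → B₀ := Fin.append (fun i => ψ (MvPowerSeries.X i)) (fun _ => 0)
  have hy : ∀ i, y i ∈ maximalIdeal B₀ := fun i => by
    induction i using Fin.addCases with
    | left i =>
      simp only [y, Fin.append_left]
      exact (mem_maximalIdeal _).mpr fun hu => (mem_maximalIdeal _).mp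
        (CAlg6.mem_maximalIdeal_iff.2 (MvPowerSeries.constantCoeff_X i))
        ((isUnit_map_iff (RingEquiv.ofBijective ψ hψb) _).mp hu)
    | right i => simp [y]
  obtain ⟨π', hπC, hπX⟩ := LA18.exists_powerSeries_hom (maximalIdeal B₀) s y hy
  have hπl : (maximalIdeal R').map π' ≤ maximalIdeal B₀ := by
    rw [maximalIdeal_powerSeries, Ideal.map_sup, Ideal.map_map, Ideal.map_span]
    refine sup_le ?_ (Ideal.span_le.mpr ?_)
    · rw [show π'.comp (MvPowerSeries.C : W' →+* R') = s from RingHom.ext hπC, Ideal.map_le_iff_le_comap]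
      intro a ha
      rw [Ideal.mem_comap]
      show σ (e' (residue W' a)) ∈ _
      rw [(residue_eq_zero_iff a).mpr ha, map_zero, map_zero]
      exact zero_mem _
    · rintro _ ⟨_, ⟨i, rfl⟩, rfl⟩
      rw [SetLike.mem_coe, hπX]
      exact hy i
  have hπs : Function.Surjective π' := by
    refine CAlg6.surjective_of_cotangent π' hπl (fun z => ?_) ?_
    · obtain ⟨a, ha⟩ := residue_surjective (e'.symm z)
      refine ⟨MvPowerSeries.C a, ?_⟩
      rw [RingHom.comp_apply, hπC]
      show residue B₀ (σ (e' (residue W' a))) = z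
      rw [hσ, ha, e'.apply_symm_apply]
    · refine le_sup_of_le_left fun b hb => ?_
      obtain ⟨g, rfl⟩ := hψb.2 b
      have hg : g ∈ maximalIdeal (MvPowerSeries (Fin n) K') :=
        (mem_maximalIdeal _).mpr fun hu => (mem_maximalIdeal _).mp hb (hu.map ψ)
      rw [CAlg6.maximalIdeal_eq_span_X, Ideal.mem_span_range_iff_exists_fun] at hg
      obtain ⟨c, rfl⟩ := hg
      rw [map_sum]
      refine sum_mem fun i _ => ?_
      rw [map_mul]
      refine Ideal.mul_mem_left _ _ ?_
      rw [show ψ (MvPowerSeries.X i) = π' (MvPowerSeries.X (Fin.castAdd m i)) by simp [hπX, y]]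
      exact Ideal.mem_map_of_mem _ ((mem_maximalIdeal_powerSeries _).mpr (by simp))
  -- lift `W → R'`
  have : Nontrivial (R' ⧸ RingHom.ker π') := Ideal.Quotient.nontrivial_iff.mpr (RingHom.ker_ne_top π')
  have : IsLocalRing (R' ⧸ RingHom.ker π') := IsLocalRing.of_surjective' (Ideal.Quotient.mk _) Ideal.Quotient.mk_surjective
  let ε := RingHom.quotientKerEquivOfSurjective hπs
  let u₀ : W →+* R' ⧸ RingHom.ker π' :=
    ε.symm.toRingHom.comp (c₀.comp (r.symm.toRingHom.comp ((residue Â).comp w)))
  have : IsLocalHom u₀ := ⟨fun x hx => notMem_maximalIdeal.mp fun h => hx.ne_zero (by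
    show ε.symm (c₀ (r.symm (residue Â (w x)))) = 0
    rw [(residue_eq_zero_iff _).mpr (map_nonunit w x h), map_zero, map_zero, map_zero])⟩
  obtain ⟨v, hv, hvu⟩ := exists_lift_cohen hW (RingHom.ker π') u₀
  have hv' : ∀ x, π' (v x) = c₀ (r.symm (residue Â (w x))) := fun x => by
    have h1 := congrArg ε (RingHom.congr_fun hvu x)
    rw [show u₀ x = ε.symm (c₀ (r.symm (residue Â (w x)))) from rfl, ε.apply_symm_apply] at h1
    exact h1
  let z : Fin m → R' := fun i => MvPowerSeries.X (Fin.natAdd n i)
  obtain ⟨g, hgC, hgX⟩ := LA18.exists_powerSeries_hom (maximalIdeal R') v z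
    (fun i => (mem_maximalIdeal_powerSeries _).mpr (by simp [z]))
  let : Algebra R R' := g.toAlgebra
  let M : Ideal R' := (maximalIdeal R).map g
  have hMgen : M = Ideal.span ({(p' : R')} ∪ Set.range z) := by
    show (maximalIdeal R).map g = _
    rw [maximalIdeal_powerSeries, hmW, Ideal.map_span, Set.image_singleton, ← Ideal.span_union, Ideal.map_span,
      Set.image_union, Set.image_singleton, map_natCast, map_natCast, ← Set.range_comp]
    exact congrArg (fun t => Ideal.span ({(p' : R')} ∪ t)) (congrArg Set.range (funext hgX))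
  have hMm : M ≤ maximalIdeal R' := by
    rw [hMgen, Ideal.span_le]
    rintro _ (rfl | ⟨i, rfl⟩)
    · rw [SetLike.mem_coe, mem_maximalIdeal_powerSeries, map_natCast, hmW']
      exact Ideal.mem_span_singleton_self _
    · exact (mem_maximalIdeal_powerSeries _).mpr (by simp [z])
  have : IsLocalHom (algebraMap R R') := ((local_hom_TFAE g).out 2 0).mp hMm
  have hMker : M ≤ RingHom.ker π' := by
    rw [hMgen, Ideal.span_le]
    rintro _ (rfl | ⟨i, rfl⟩)
    · rw [SetLike.mem_coe, RingHom.mem_ker, map_natCast, hp0]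
    · rw [SetLike.mem_coe, RingHom.mem_ker]
      simp [z, hπX, y]
  -- the closed fibre is `B₀`
  let F := R' ⧸ M
  have : Nontrivial F := Ideal.Quotient.nontrivial_iff.mpr fun h =>
    (maximalIdeal.isMaximal R').ne_top (top_le_iff.mp (h ▸ hMm))
  have : IsLocalRing F := IsLocalRing.of_surjective' (Ideal.Quotient.mk _) Ideal.Quotient.mk_surjective
  let π₁ : F →+* B₀ := Ideal.Quotient.lift M π' hMker
  have hπ₁ : Function.Surjective π₁ := Ideal.Quotient.lift_surjective_of_surjective M hMker hπs
  have hFdim : (n : WithBot ℕ∞) ≤ ringKrullDim F := hB₀dim ▸ ringKrullDim_le_of_surjective π₁ hπ₁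
  have hFgen : (maximalIdeal F).spanFinrank ≤ n := by
    let T : Finset F := Finset.univ.image fun i : Fin n => Ideal.Quotient.mk M (MvPowerSeries.X (Fin.castAdd m i))
    have hT : maximalIdeal F = Ideal.span (T : Set F) := by
      refine le_antisymm ?_ (Ideal.span_le.mpr fun x hx => ?_)
      · intro x hx
        obtain ⟨x, rfl⟩ := Ideal.Quotient.mk_surjective x
        have hx' : x ∈ maximalIdeal R' := (mem_maximalIdeal _).mpr fun hu => (mem_maximalIdeal _).mp hx (hu.map _)
        revert hx'
        suffices h : maximalIdeal R' ≤ (Ideal.span (T : Set F)).comap (Ideal.Quotient.mk M) from fun hx' => h hx'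
        rw [maximalIdeal_powerSeries, hmW', Ideal.map_span, Set.image_singleton, map_natCast]
        refine sup_le (Ideal.span_le.mpr ?_) (Ideal.span_le.mpr ?_)
        · rintro _ rfl
          have h0 : Ideal.Quotient.mk M (p' : R') = 0 :=
            Ideal.Quotient.eq_zero_iff_mem.mpr (hMgen ▸ Ideal.subset_span (Or.inl rfl))
          rw [SetLike.mem_coe, Ideal.mem_comap, h0]
          exact zero_mem _
        · rintro _ ⟨i, rfl⟩
          rw [SetLike.mem_coe, Ideal.mem_comap]
          induction i using Fin.addCases with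
          | left i => exact Ideal.subset_span (Finset.mem_coe.mpr (Finset.mem_image_of_mem _ (Finset.mem_univ i)))
          | right i =>
            rw [Ideal.Quotient.eq_zero_iff_mem.mpr (hMgen ▸ Ideal.subset_span (Or.inr ⟨i, rfl⟩))]
            exact zero_mem _
      · obtain ⟨i, -, rfl⟩ := Finset.mem_image.mp (Finset.mem_coe.mp hx)
        refine (mem_maximalIdeal _).mpr fun hu => ?_
        have h1 := hu.map π₁
        rw [show π₁ (Ideal.Quotient.mk M (MvPowerSeries.X (Fin.castAdd m i))) = y (Fin.castAdd m i) from hπX _] at h1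
        exact (mem_maximalIdeal _).mp (hy _) h1
    rw [hT]
    exact (Submodule.spanFinrank_span_le_ncard_of_finite T.finite_toSet).trans
      ((Set.ncard_coe_finset _).le.trans (Finset.card_image_le.trans (by simp)))
  have hFreg : IsRegularLocalRing F :=
    IsRegularLocalRing.of_spanFinrank_maximalIdeal_le F ((Nat.cast_le.mpr hFgen).trans hFdim)
  have hFdim' : ringKrullDim F = (n : WithBot ℕ∞) :=
    le_antisymm ((IsRegularLocalRing.spanFinrank_maximalIdeal (R := F)) ▸ Nat.cast_le.mpr hFgen) hFdim
  have : IsDomain F := CAlg1.isDomain_regular F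
  have hπ₁i : Function.Injective π₁ := CAlg6.injective_of_surjective_of_ringKrullDim_eq π₁ hπ₁ n hFdim' hB₀dim
  have hker : RingHom.ker π' = M := by
    refine le_antisymm (fun x hx => ?_) hMker
    exact Ideal.Quotient.eq_zero_iff_mem.mp (hπ₁i (hx.trans (map_zero π₁).symm))
  -- flatness
  have := CAlg1.cm_of_isRegularLocalRing R'
  have hflat : g.Flat := CAlg1.miracle_flatness _ R R' rfl (by
    rw [hR'dim p' hp', hRdim p' hp, show ringKrullDim (R' ⧸ (maximalIdeal R).map (algebraMap R R')) = (n : WithBot ℕ∞) from hFdim']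
    push_cast
    ring)
  -- the lift
  let I := RingHom.ker φ
  let B := R' ⧸ I.map g
  have hIm : I.map g ≤ maximalIdeal R' := (Ideal.map_mono (le_maximalIdeal (RingHom.ker_ne_top φ))).trans hMm
  have : Nontrivial B := Ideal.Quotient.nontrivial_iff.mpr fun h =>
    (maximalIdeal.isMaximal R').ne_top (top_le_iff.mp (h ▸ hIm))
  have : IsLocalRing B := IsLocalRing.of_surjective' (Ideal.Quotient.mk _) Ideal.Quotient.mk_surjective
  let eI := RingHom.quotientKerEquivOfSurjective hφs
  let f : A →+* B :=
    ((Ideal.quotientMap (I.map g) g Ideal.le_comap_map).comp eI.symm.toRingHom).comp (algebraMap A Â)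
  have hAÂ : (algebraMap A Â).Flat := RingHom.flat_algebraMap_iff.mpr (AdicCompletion.flat_of_isNoetherian _)
  have hf : f.Flat := hAÂ.comp ((RingHom.Flat.of_bijective eI.symm.bijective).comp (flat_quotient_map g hflat I))
  have hIker : I.map g ≤ RingHom.ker π' := (Ideal.map_mono (le_maximalIdeal (RingHom.ker_ne_top φ))).trans hMker
  let π : B →+* B₀ := Ideal.Quotient.lift (I.map g) π' hIker
  have hfg : ∀ x : R, ∀ a, φ x = algebraMap A Â a → f a = Ideal.Quotient.mk (I.map g) (g x) := fun x a hxa => by
    show Ideal.quotientMap (I.map g) g Ideal.le_comap_map (eI.symm (algebraMap A Â a)) = _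
    rw [show eI.symm (algebraMap A Â a) = Ideal.Quotient.mk I x by
      rw [RingEquiv.symm_apply_eq]; exact hxa.symm]
    rfl
  have hπg : ∀ x : R, π' (g x) = c₀ (r.symm (residue Â (φ x))) := by
    have hd : ∀ x ∈ maximalIdeal R, π' (g x) = 0 := fun x hx =>
      (RingHom.mem_ker).mp (hMker (Ideal.mem_map_of_mem g hx))
    intro x
    have h1 : x - MvPowerSeries.C (MvPowerSeries.constantCoeff x) ∈ maximalIdeal R :=
      (mem_maximalIdeal_powerSeries _).mpr (by simp)
    have h2 := hd _ h1
    rw [map_sub, map_sub, sub_eq_zero, hgC, hv'] at h2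
    have h3 : residue Â (φ x) = residue Â (φ (MvPowerSeries.C (MvPowerSeries.constantCoeff x))) := by
      rw [← sub_eq_zero, ← map_sub, ← map_sub, residue_eq_zero_iff]
      exact map_nonunit φ _ h1
    rw [h2, h3, hφC]
  have hmap : (maximalIdeal A).map f = M.map (Ideal.Quotient.mk (I.map g)) := by
    refine le_antisymm (Ideal.map_le_iff_le_comap.mpr fun a ha => ?_) ?_
    · obtain ⟨x, hx⟩ := hφs (algebraMap A Â a)
      rw [Ideal.mem_comap, hfg x a hx]
      refine Ideal.mem_map_of_mem _ (Ideal.mem_map_of_mem g ((mem_maximalIdeal _).mpr fun hu => ?_))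
      have h2 := hu.map φ
      rw [hx] at h2
      have h3 := (algebraMap_mem_pow_iff A 1 a).mpr (by rwa [pow_one])
      rw [pow_one] at h3
      exact (mem_maximalIdeal _).mp h3 h2
    · rw [Ideal.map_map, Ideal.map_le_iff_le_comap]
      intro x hx
      rw [Ideal.mem_comap]
      have h1 : φ x ∈ (maximalIdeal A).map (algebraMap A Â) := by
        rw [← AdicCompletion.maximalIdeal_eq_map]
        exact map_nonunit φ x hx
      have h2 := Ideal.mem_map_of_mem ((Ideal.quotientMap (I.map g) g Ideal.le_comap_map).comp eI.symm.toRingHom) h1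
      rw [Ideal.map_map] at h2
      rwa [RingHom.comp_apply, show eI.symm.toRingHom (φ x) = Ideal.Quotient.mk I x from eI.symm_apply_eq.mpr rfl] at h2
  have hfl : IsLocalHom f := by
    refine ((local_hom_TFAE f).out 2 0).mp ?_
    rw [hmap, Ideal.map_le_iff_le_comap]
    intro x hx
    rw [Ideal.mem_comap, mem_maximalIdeal]
    intro hu
    have hloc : IsLocalHom (Ideal.Quotient.mk (I.map g)) := IsLocalHom.of_surjective _ Ideal.Quotient.mk_surjective
    exact (mem_maximalIdeal _).mp (hMm hx) (isUnit_of_map_unit _ _ hu)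
  refine ⟨B, inferInstance, inferInstance, inferInstance, f, π, hfl, isAdicComplete_quotient (I.map g), hf,
    Ideal.Quotient.lift_surjective_of_surjective _ hIker hπs, ?_, fun a => ?_⟩
  · rw [hmap, ← hker]
    exact Ideal.ker_quotient_lift π' hIker
  · obtain ⟨x, hx⟩ := hφs (algebraMap A Â a)
    rw [hfg x a hx]
    show π' (g x) = _
    rw [hπg, hx, ← hr, r.symm_apply_apply]

end Groth.Agent.Cohen12
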