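import Groth.Prelude.Def_EGA41
import Groth.Agent.Sep12.Basic
import Mathlib.RingTheory.DiscreteValuationRing.TFAE
import Mathlib.RingTheory.Filtration
import Mathlib.RingTheory.Flat.Localization
import Mathlib.RingTheory.Flat.TorsionFree
import Mathlib.RingTheory.Localization.AtPrime.Basic
import Mathlib.RingTheory.Int.Basic
import Mathlib.Data.ZMod.QuotientRing

/-!
# Cohen rings as Cohen algebras over the prime local ring
-/

set_option autoImplicit false
set_option maxHeartbeats 800000

universe u

open IsLocalRing

namespace Groth.Agent.Cohen12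

theorem isDVR_of_maximalIdeal_eq_span {R : Type u} [CommRing R] [IsLocalRing R] [IsNoetherianRing R]
    (π : R) (hm : maximalIdeal R = Ideal.span {π}) (hπ : π ∈ nonZeroDivisors R) :
    ∃ (_ : IsDomain R), IsDiscreteValuationRing R := by
  have key : ∀ x : R, x ≠ 0 → ∃ n, ∃ u : Rˣ, x = π ^ n * u := by
    intro x hx
    have hK := Ideal.iInf_pow_eq_bot_of_isLocalRing (maximalIdeal R) (maximalIdeal.isMaximal R).ne_top
    have hex : ∃ n, x ∉ maximalIdeal R ^ n := by
      by_contra hcon
      push Not at hcon
      exact hx ((Submodule.mem_bot R).mp (hK ▸ (Submodule.mem_iInf _).mpr hcon))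
    classical
    obtain ⟨n, hn⟩ : ∃ n, Nat.find hex = n + 1 := by
      cases h : Nat.find hex with
      | zero => exact absurd (by simp : x ∈ maximalIdeal R ^ 0) (h ▸ Nat.find_spec hex)
      | succ n => exact ⟨n, rfl⟩
    have h1 : x ∈ maximalIdeal R ^ n := by
      by_contra h
      exact Nat.find_min hex (by omega) h
    have h2 : x ∉ maximalIdeal R ^ (n + 1) := hn ▸ Nat.find_spec hex
    rw [hm, Ideal.span_singleton_pow, Ideal.mem_span_singleton'] at h1 h2
    obtain ⟨c, hc⟩ := h1
    have hcu : IsUnit c := by
      by_contra hcu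
      have : c ∈ maximalIdeal R := (mem_maximalIdeal _).mpr hcu
      rw [hm, Ideal.mem_span_singleton'] at this
      obtain ⟨d, hd⟩ := this
      exact h2 ⟨d, by rw [← hc, ← hd, pow_succ]; ring⟩
    exact ⟨n, hcu.unit, by rw [← hc, IsUnit.unit_spec, mul_comm]⟩
  have : IsDomain R := by
    have : NoZeroDivisors R := ⟨fun {x y} hxy => by
      by_contra hcon
      push Not at hcon
      obtain ⟨n, u, rfl⟩ := key x hcon.1
      obtain ⟨m, v, rfl⟩ := key y hcon.2
      have h1 : π ^ (n + m) * ((u : R) * v) = 0 := by rw [← hxy, pow_add]; ring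
      exact (u * v).ne_zero (by rw [Units.val_mul]; exact ((mul_left_mem_nonZeroDivisorsLeft_eq_zero_iff (pow_mem hπ _).1).mp h1))⟩
    exact NoZeroDivisors.to_isDomain R
  have hp : (maximalIdeal R).IsPrincipal := ⟨⟨π, hm⟩⟩
  have : IsPrincipalIdealRing R := ((tfae_of_isNoetherianRing_of_isLocalRing_of_isDomain R).out 4 0).mp hp
  refine ⟨inferInstance, { not_a_field' := ?_ }⟩
  rw [hm, Ne, Ideal.span_singleton_eq_bot]
  exact nonZeroDivisors.ne_zero hπ

abbrev primeLocalRing (p : ℕ) [(Ideal.span {(p : ℤ)}).IsPrime] : Type := Localization.AtPrime (Ideal.span {(p : ℤ)})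

theorem maximalIdeal_primeLocalRing (p : ℕ) [(Ideal.span {(p : ℤ)}).IsPrime] :
    maximalIdeal (primeLocalRing p) = Ideal.span {(p : primeLocalRing p)} := by
  rw [← Localization.AtPrime.map_eq_maximalIdeal, Ideal.map_span, Set.image_singleton, map_natCast]

theorem perfectField_residue_primeLocalRing (p : ℕ) [(Ideal.span {(p : ℤ)}).IsPrime] :
    PerfectField (ResidueField (primeLocalRing p)) := by
  rcases eq_or_ne p 0 with rfl | hp
  · have hinj : Function.Injective (residue (primeLocalRing 0)) := by
      rw [RingHom.injective_iff_ker_eq_bot, ker_residue, maximalIdeal_primeLocalRing]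
      simp
    have : CharZero (primeLocalRing 0) :=
      charZero_of_injective_ringHom (f := algebraMap ℤ (primeLocalRing 0))
        (IsLocalization.injective (primeLocalRing 0) (Ideal.primeCompl_le_nonZeroDivisors (Ideal.span {((0 : ℕ) : ℤ)})))
    have : CharZero (ResidueField (primeLocalRing 0)) := charZero_of_injective_ringHom hinj
    exact PerfectField.ofCharZero
  · have : (Ideal.span {(p : ℤ)}).IsMaximal := Ideal.IsPrime.isMaximal ‹_› (by simpa using hp)
    have : NeZero p := ⟨hp⟩
    have : Finite (ℤ ⧸ Ideal.span {(p : ℤ)}) := Finite.of_equiv _ (Int.quotientSpanNatEquivZMod p).symm.toEquiv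
    have : Finite (ResidueField (primeLocalRing p)) := Finite.of_equiv _
      (IsLocalization.AtPrime.equivQuotMaximalIdeal (Ideal.span {(p : ℤ)}) (primeLocalRing p)).toEquiv
    exact PerfectField.ofFinite

theorem isCohenAlgebra_iff (p : ℕ) [(Ideal.span {(p : ℤ)}).IsPrime]
    {A : Type} [CommRing A] [IsLocalRing A] [CharP (ResidueField A) p]
    [Algebra (primeLocalRing p) A] [IsLocalHom (algebraMap (primeLocalRing p) A)] :
    EGA41.IsCohenAlgebra (primeLocalRing p) A ↔ EGA41.IsCohenRingEGA A := by
  have hmap : (maximalIdeal (primeLocalRing p)).map (algebraMap _ A) = Ideal.span {(p : A)} := by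
    rw [maximalIdeal_primeLocalRing, Ideal.map_span, Set.image_singleton, map_natCast]
  have hPN : IsNoetherianRing (primeLocalRing p) :=
    IsLocalization.isNoetherianRing (Ideal.span {(p : ℤ)}).primeCompl _ inferInstance
  constructor
  · rintro ⟨-, hAN, hc, hflat, hmax, -⟩
    rw [hmap] at hmax
    rcases eq_or_ne p 0 with rfl | hp
    · left
      have hbot : maximalIdeal A = ⊥ := by rw [← hmax]; simp
      refine ⟨isField_iff_maximalIdeal_eq.mpr hbot, ?_⟩
      have : CharZero (ResidueField A) := CharP.charP_to_charZero _
      exact ⟨fun a b hab => Nat.cast_injective (R := ResidueField A) (by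
        rw [← map_natCast (residue A) a, ← map_natCast (residue A) b, hab])⟩
    · right
      have hprime : p.Prime := (CharP.char_is_prime_or_zero (ResidueField A) p).resolve_right hp
      have hnzd : (p : A) ∈ nonZeroDivisors A := by
        refine mem_nonZeroDivisors_iff_right.mpr fun x hx => ?_
        have hpP : (p : primeLocalRing p) ≠ 0 := by
          rw [← map_natCast (algebraMap ℤ (primeLocalRing p)), Ne, IsLocalization.to_map_eq_zero_iff (primeLocalRing p) (Ideal.primeCompl_le_nonZeroDivisors (Ideal.span {(p : ℤ)}))]
          exact_mod_cast hp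
        have : IsDomain (primeLocalRing p) := IsLocalization.isDomain_localization (Ideal.primeCompl_le_nonZeroDivisors (Ideal.span {(p : ℤ)}))
        have := Module.Flat.isTorsionFree (R := primeLocalRing p) (M := A)
        refine (smul_eq_zero_iff_right hpP).mp ?_
        rw [Algebra.smul_def, map_natCast, mul_comm]
        exact hx
      obtain ⟨hd, hdvr⟩ := isDVR_of_maximalIdeal_eq_span (p : A) hmax.symm hnzd
      exact ⟨hd, hdvr, hc, p, hprime, hmax.symm⟩
  · intro h
    have hNA : IsNoetherianRing A ∧ IsAdicComplete (maximalIdeal A) A ∧ IsDomain A ∧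
        maximalIdeal A = Ideal.span {(p : A)} ∧ CharZero A ∨ (IsNoetherianRing A ∧
        IsAdicComplete (maximalIdeal A) A ∧ IsDomain A ∧ maximalIdeal A = Ideal.span {(p : A)} ∧
          (p ≠ 0 ∧ (p : A) ≠ 0)) := by
      rcases h with ⟨hf, hz⟩ | ⟨hd, hdvr, hc, q, hq, hm⟩
      · left
        let := hf.toField
        have hb : maximalIdeal A = ⊥ := isField_iff_maximalIdeal_eq.mp hf
        have hinj : Function.Injective (residue A) := by
          rw [RingHom.injective_iff_ker_eq_bot, ker_residue, hb]
        have : CharZero (ResidueField A) := charZero_of_injective_ringHom hinj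
        have hp0 : p = 0 := CharP.eq (ResidueField A) ‹_› (CharP.ofCharZero _)
        subst hp0
        exact ⟨inferInstance, hb ▸ inferInstance, inferInstance, by rw [hb]; simp, hz⟩
      · right
        have hqp : q = p := by
          have h0 : ((q : ℕ) : ResidueField A) = 0 := by
            rw [← map_natCast (residue A), residue_eq_zero_iff, hm]
            exact Ideal.mem_span_singleton_self _
          rcases (Nat.Prime.eq_one_or_self_of_dvd hq p ((CharP.cast_eq_zero_iff (ResidueField A) p q).mp h0)) with h1 | h1
          · exact absurd h1 (CharP.char_ne_one (ResidueField A) p)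
          · exact h1.symm
        subst hqp
        refine ⟨inferInstance, hc, hd, hm, hq.ne_zero, fun h0 => hdvr.not_a_field' ?_⟩
        rw [hm, h0]; simp
    have hcommon : IsNoetherianRing A ∧ IsAdicComplete (maximalIdeal A) A ∧ IsDomain A ∧
        maximalIdeal A = Ideal.span {(p : A)} ∧ Function.Injective (algebraMap ℤ A) := by
      rcases hNA with ⟨a, b, c, d, e⟩ | ⟨a, b, c, d, hp, hpA⟩
      · exact ⟨a, b, c, d, (algebraMap ℤ A).injective_int⟩
      · refine ⟨a, b, c, d, ?_⟩
        obtain ⟨q, hq⟩ := CharP.exists A
        rcases CharP.char_is_prime_or_zero A q with hqp | rfl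
        · have h0 : ((q : ℕ) : ResidueField A) = 0 := by
            rw [← map_natCast (residue A), CharP.cast_eq_zero, map_zero]
          rcases hqp.eq_one_or_self_of_dvd p ((CharP.cast_eq_zero_iff (ResidueField A) p q).mp h0) with h1 | h1
          · exact absurd h1 (CharP.char_ne_one (ResidueField A) p)
          · exact absurd (h1 ▸ CharP.cast_eq_zero A q) hpA
        · have : CharZero A := CharP.charP_to_charZero _
          exact (algebraMap ℤ A).injective_int
    obtain ⟨hAN, hc, hd, hm, hinj⟩ := hcommon
    have hflat : Module.Flat (primeLocalRing p) A := by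
      have hle := Ideal.primeCompl_le_nonZeroDivisors (Ideal.span {(p : ℤ)})
      have : IsDomain (primeLocalRing p) := IsLocalization.isDomain_localization hle
      have : IsDedekindDomain (primeLocalRing p) := IsLocalization.isDedekindDomain ℤ hle _
      have hinjP : Function.Injective (algebraMap (primeLocalRing p) A) := by
        refine (injective_iff_map_eq_zero _).mpr fun x hx => ?_
        obtain ⟨⟨z, s⟩, hzs⟩ := IsLocalization.surj (Ideal.span {(p : ℤ)}).primeCompl x
        have h1 : algebraMap ℤ A z = 0 := by
          have := congrArg (algebraMap (primeLocalRing p) A) hzs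
          rw [map_mul, hx, zero_mul] at this
          exact ((congrFun (congrArg DFunLike.coe (RingHom.ext_int (algebraMap ℤ A) ((algebraMap (primeLocalRing p) A).comp (algebraMap ℤ (primeLocalRing p))))) z).trans this.symm)
        rw [(injective_iff_map_eq_zero _).mp hinj z h1, map_zero] at hzs
        exact (IsLocalization.map_units (primeLocalRing p) s).mul_left_eq_zero.mp hzs
      have : Module.IsTorsionFree (primeLocalRing p) A := Module.isTorsionFree_iff_algebraMap_injective.mpr hinjP
      infer_instance
    have := perfectField_residue_primeLocalRing p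
    exact ⟨hPN, hAN, hc, hflat, hmap.trans hm.symm,
      Sep12.formallySmooth_iff_isGeometricallyReduced.mp (Sep12.formallySmooth_of_perfectField _ _)⟩

end Groth.Agent.Cohen12
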