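import Groth.Agent.Cohen12.Completion
import Groth.Agent.Cohen12.CohenRing
import Groth.Agent.Cohen12.GeomRegular
import Mathlib.FieldTheory.IsAlgClosed.AlgebraicClosure
import Mathlib.RingTheory.AlgebraicIndependent.TranscendenceBasis
import Mathlib.RingTheory.AdjoinRoot
import Mathlib.RingTheory.MvPolynomial.Basic
import Mathlib.FieldTheory.Minpoly.Field

/-!
# Existence of Cohen rings

A discrete valuation ring with uniformizer `p` and prescribed residue field is built inside
`Ω × k` as the graph of its residue map.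
-/

set_option autoImplicit false
set_option maxHeartbeats 800000

universe u

open IsLocalRing Polynomial

namespace Groth.Agent.Cohen12

section Graph

variable {Ω k : Type u} [Field Ω] [Field k] (p : ℕ)

/-- The graph of the residue map of a discrete valuation subring of `Ω` with uniformizer `p`. -/
structure IsResGraph (G : Subring (Ω × k)) : Prop where
  functional : ∀ a : k, ((0 : Ω), a) ∈ G → a = 0
  inv_mem : ∀ (x : Ω) (a : k), (x, a) ∈ G → a ≠ 0 → (x⁻¹, a⁻¹) ∈ G
  factor : ∀ (x : Ω) (a : k), (x, a) ∈ G → x ≠ 0 → ∃ (n : ℕ) (y : Ω) (b : k), (y, b) ∈ G ∧ b ≠ 0 ∧ x = (p : Ω) ^ n * y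

variable {p} {G : Subring (Ω × k)}

theorem IsResGraph.snd_ext (h : IsResGraph p G) {z w : Ω × k} (hz : z ∈ G) (hw : w ∈ G) (he : z.1 = w.1) : z = w := by
  refine Prod.ext he (sub_eq_zero.mp (h.functional _ ?_))
  have := G.sub_mem hz hw
  rwa [show z - w = (0, z.2 - w.2) from Prod.ext (sub_eq_zero.mpr he) rfl] at this

theorem IsResGraph.fst_ne_zero (h : IsResGraph p G) {z : Ω × k} (hz : z ∈ G) (h2 : z.2 ≠ 0) : z.1 ≠ 0 := fun h1 =>
  h2 (h.functional _ (by rwa [show ((0 : Ω), z.2) = z from Prod.ext h1.symm rfl]))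

theorem IsResGraph.isUnit_iff (h : IsResGraph p G) (z : G) : IsUnit z ↔ z.1.2 ≠ 0 := by
  refine ⟨fun hz => ?_, fun hz => ?_⟩
  · exact (hz.map ((RingHom.snd Ω k).comp G.subtype)).ne_zero
  · refine IsUnit.of_mul_eq_one ⟨(z.1.1⁻¹, z.1.2⁻¹), h.inv_mem _ _ z.2 hz⟩ (Subtype.ext (Prod.ext ?_ ?_))
    · exact mul_inv_cancel₀ (h.fst_ne_zero z.2 hz)
    · exact mul_inv_cancel₀ hz

theorem IsResGraph.isLocalRing (h : IsResGraph p G) : IsLocalRing G := by
  have : Nontrivial G := ⟨0, 1, fun h0 => zero_ne_one (α := k) (congrArg (fun z : G => z.1.2) h0)⟩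
  refine IsLocalRing.of_nonunits_add fun a b ha hb => ?_
  rw [mem_nonunits_iff, h.isUnit_iff, not_not] at ha hb ⊢
  show a.1.2 + b.1.2 = 0
  rw [ha, hb, add_zero]

theorem IsResGraph.isDomain (h : IsResGraph p G) : IsDomain G :=
  Function.Injective.isDomain ((RingHom.fst Ω k).comp G.subtype) fun a b hab => Subtype.ext (h.snd_ext a.2 b.2 hab)

theorem IsResGraph.exists_eq (h : IsResGraph p G) (z : G) (hz : z ≠ 0) :
    ∃ (n : ℕ) (u : Gˣ), z = (p : G) ^ n * u := by
  have h1 : z.1.1 ≠ 0 := fun h0 => hz (Subtype.ext (h.snd_ext z.2 G.zero_mem h0))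
  obtain ⟨n, y, b, hyb, hb, hx⟩ := h.factor _ _ z.2 h1
  refine ⟨n, ((h.isUnit_iff ⟨(y, b), hyb⟩).mpr hb).unit, Subtype.ext (h.snd_ext z.2 (SetLike.coe_mem _) ?_)⟩
  rw [hx, IsUnit.unit_spec]
  simp

variable (Ω k)

theorem exists_isResGraph [IsAlgClosed Ω] [Fact p.Prime] [CharP k p] [Algebra (ZMod p) k] {S : Set k}
    (hS : IsTranscendenceBasis (ZMod p) ((↑) : S → k)) (θ : S → Ω)
    (hθ : Function.Injective (MvPolynomial.eval₂Hom (Int.castRingHom Ω) θ)) :
    ∃ G : Subring (Ω × k), IsResGraph p G ∧ ∀ a : k, ∃ x : Ω, (x, a) ∈ G := by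
  classical
  -- the starting graph
  let φ : MvPolynomial S ℤ →+* Ω × k :=
    (MvPolynomial.eval₂Hom (Int.castRingHom Ω) θ).prod (MvPolynomial.eval₂Hom (Int.castRingHom k) ((↑) : S → k))
  have hφ2 : ∀ P, (φ P).2 = MvPolynomial.aeval ((↑) : S → k) (MvPolynomial.map (Int.castRingHom (ZMod p)) P) := fun P => by
    refine RingHom.congr_fun (f := (RingHom.snd Ω k).comp φ)
      (g := (MvPolynomial.aeval ((↑) : S → k)).toRingHom.comp (MvPolynomial.map (Int.castRingHom (ZMod p)))) ?_ P
    refine MvPolynomial.ringHom_ext (fun r => ?_) fun i => ?_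
    · simp [φ]
    · simp [φ]
  have hker : ∀ P, (φ P).2 = 0 → (p : MvPolynomial S ℤ) ∣ P := fun P hP => by
    rw [hφ2] at hP
    rw [← map_natCast MvPolynomial.C, MvPolynomial.C_dvd_iff_zmod]
    exact hS.1.eq_zero_of_aeval_eq_zero _ hP
  let G₀ : Subring (Ω × k) :=
    { carrier := {z | ∃ P Q, (φ Q).2 ≠ 0 ∧ z * φ Q = φ P}
      zero_mem' := ⟨0, 1, by simp, by simp⟩
      one_mem' := ⟨1, 1, by simp, by simp⟩
      add_mem' := fun {a b} ⟨P, Q, hQ, ha⟩ ⟨P', Q', hQ', hb⟩ => ⟨P * Q' + P' * Q, Q * Q',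
        by rw [map_mul, Prod.snd_mul]; exact mul_ne_zero hQ hQ',
        by rw [map_add, map_mul, map_mul, map_mul, ← ha, ← hb]; ring⟩
      neg_mem' := fun {a} ⟨P, Q, hQ, ha⟩ => ⟨-P, Q, hQ, by rw [map_neg, ← ha]; ring⟩
      mul_mem' := fun {a b} ⟨P, Q, hQ, ha⟩ ⟨P', Q', hQ', hb⟩ => ⟨P * P', Q * Q',
        by rw [map_mul, Prod.snd_mul]; exact mul_ne_zero hQ hQ',
        by rw [map_mul, map_mul, ← ha, ← hb]; ring⟩ }
  have hφ1 : ∀ P, (φ P).1 = 0 → P = 0 := fun P hP => hθ (hP.trans (map_zero _).symm)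
  have hG₀ : IsResGraph p G₀ := by
    refine ⟨?_, ?_, ?_⟩
    · rintro a ⟨P, Q, hQ, he⟩
      obtain rfl := hφ1 P (by rw [← he]; simp)
      rw [map_zero, Prod.ext_iff] at he
      exact (mul_eq_zero.mp he.2).resolve_right hQ
    · rintro x a ⟨P, Q, hQ, he⟩ ha
      rw [Prod.ext_iff] at he
      simp only [Prod.fst_mul, Prod.snd_mul] at he
      have hP : (φ P).2 ≠ 0 := he.2 ▸ mul_ne_zero ha hQ
      refine ⟨Q, P, hP, Prod.ext ?_ ?_⟩
      · show x⁻¹ * (φ P).1 = (φ Q).1
        rw [← he.1, ← mul_assoc, inv_mul_cancel₀, one_mul]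
        intro hx
        rw [hx, zero_mul] at he
        exact hP (by rw [hφ1 P he.1.symm, map_zero]; rfl)
      · show a⁻¹ * (φ P).2 = (φ Q).2
        rw [← he.2, ← mul_assoc, inv_mul_cancel₀ ha, one_mul]
    · rintro x a ⟨P, Q, hQ, he⟩ hx
      rw [Prod.ext_iff] at he
      simp only [Prod.fst_mul, Prod.snd_mul] at he
      have hQ1 : (φ Q).1 ≠ 0 := fun h0 => hQ (by rw [hφ1 Q h0, map_zero]; rfl)
      have hP : P ≠ 0 := fun h0 => mul_ne_zero hx hQ1 (by rw [he.1, h0, map_zero]; rfl)
      have hpu : ¬ IsUnit (p : MvPolynomial S ℤ) := fun hu => by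
        have := hu.map (MvPolynomial.constantCoeff (σ := S) (R := ℤ))
        rw [map_natCast, Int.isUnit_iff_natAbs_eq, Int.natAbs_natCast] at this
        exact (Fact.out : p.Prime).ne_one this
      obtain ⟨n, P', hP', rfl⟩ := WfDvdMonoid.max_power_factor' hP hpu
      have hP2 : (φ P').2 ≠ 0 := fun h0 => hP' (hker _ h0)
      refine ⟨n, (φ P').1 / (φ Q).1, (φ P').2 / (φ Q).2, ⟨P', Q, hQ, Prod.ext ?_ ?_⟩, div_ne_zero hP2 hQ, ?_⟩
      · exact div_mul_cancel₀ _ hQ1
      · exact div_mul_cancel₀ _ hQ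
      · rw [← mul_div_assoc, eq_div_iff hQ1, he.1, map_mul, map_pow, map_natCast]
        simp
  obtain ⟨G, hGG, hG⟩ := zorn_le_nonempty₀ {G : Subring (Ω × k) | IsResGraph p G} (fun c hc hchain G hG => by
    have hne : c.Nonempty := ⟨G, hG⟩
    have hmem : ∀ {z}, z ∈ sSup c ↔ ∃ H ∈ c, z ∈ H :=
      fun {z} => Subring.mem_sSup_of_directedOn hne hchain.directedOn
    refine ⟨sSup c, ⟨?_, ?_, ?_⟩, fun H hH => le_sSup hH⟩
    · intro a ha
      obtain ⟨H, hH, ha⟩ := hmem.mp ha
      exact (hc hH).functional a ha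
    · intro x a ha h0
      obtain ⟨H, hH, ha⟩ := hmem.mp ha
      exact hmem.mpr ⟨H, hH, (hc hH).inv_mem x a ha h0⟩
    · intro x a ha hx
      obtain ⟨H, hH, ha⟩ := hmem.mp ha
      obtain ⟨n, y, b, hy, hb⟩ := (hc hH).factor x a ha hx
      exact ⟨n, y, b, hmem.mpr ⟨H, hH, hy⟩, hb⟩) G₀ hG₀
  refine ⟨G, hG.prop, fun a => ?_⟩
  by_contra hcon
  push Not at hcon
  have := hG.prop.isLocalRing
  have := hG.prop.isDomain
  let s : G →+* k := (RingHom.snd Ω k).comp G.subtype
  let L : Subfield k :=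
    { s.range with
      inv_mem' := by
        rintro _ ⟨z, rfl⟩
        rcases eq_or_ne (s z) 0 with h0 | h0
        · rw [h0, inv_zero]; exact ⟨0, map_zero _⟩
        · exact ⟨⟨_, hG.prop.inv_mem _ _ z.2 h0⟩, rfl⟩ }
  have halg : IsAlgebraic L a := by
    have h1 := hS.isAlgebraic.isAlgebraic a
    let A := Algebra.adjoin (ZMod p) (Set.range ((↑) : S → k))
    have hA : ∀ z : k, z ∈ A → z ∈ L := fun z hz => by
      induction hz using Algebra.adjoin_induction with
      | mem z hz =>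
        obtain ⟨i, rfl⟩ := hz
        refine ⟨⟨φ (MvPolynomial.X i), hGG ⟨MvPolynomial.X i, 1, by simp, by simp⟩⟩, ?_⟩
        show (φ (MvPolynomial.X i)).2 = _
        simp [φ]
      | algebraMap r =>
        obtain ⟨m, rfl⟩ := ZMod.natCast_zmod_surjective r
        rw [map_natCast]
        exact natCast_mem L m
      | add _ _ _ _ h1 h2 => exact L.add_mem h1 h2
      | mul _ _ _ _ h1 h2 => exact L.mul_mem h1 h2
    obtain ⟨P, hP0, hP⟩ := h1
    let ι : A →+* L := (A.val.toRingHom).codRestrict L fun z => hA z z.2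
    have hι : Function.Injective ι := fun x y hxy => Subtype.ext (congrArg (fun z : L => (z : k)) hxy)
    refine ⟨P.map ι, (Polynomial.map_ne_zero_iff hι).mpr hP0, ?_⟩
    rw [aeval_def, eval₂_map]
    exact hP
  have hint : IsIntegral L a := halg.isIntegral
  let f := minpoly L a
  have hfmon : f.Monic := minpoly.monic hint
  let sL : G →+* L := s.codRestrict L fun z => ⟨z, rfl⟩
  have hsL : Function.Surjective sL := fun z => by
    obtain ⟨w, hw⟩ := z.2
    exact ⟨w, Subtype.ext hw⟩
  obtain ⟨F, hFmap, hFdeg, hFmon⟩ := Polynomial.lifts_and_natDegree_eq_and_monic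
    ((Polynomial.lifts_iff_coeff_lifts f).mpr fun n => hsL _) hfmon
  have hfpos : 0 < f.natDegree := minpoly.natDegree_pos hint
  let g : G →+* Ω := (RingHom.fst Ω k).comp G.subtype
  obtain ⟨θ₀, hθ₀⟩ := IsAlgClosed.exists_root (F.map g) (by
    rw [hFmon.degree_map, degree_eq_natDegree hFmon.ne_zero, hFdeg]
    exact_mod_cast hfpos.ne')
  let ev : G[X] →+* Ω × k := eval₂RingHom G.subtype (θ₀, a)
  have hev1 : ∀ P, (ev P).1 = eval₂ g θ₀ P := fun P => Polynomial.hom_eval₂ P G.subtype (RingHom.fst Ω k) (θ₀, a)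
  have hev2 : ∀ P, (ev P).2 = eval₂ L.subtype a (P.map sL) := fun P => by
    rw [eval₂_map]
    exact Polynomial.hom_eval₂ P G.subtype (RingHom.snd Ω k) (θ₀, a)
  have hevF : ev F = 0 := by
    refine Prod.ext ?_ ?_
    · rw [hev1, eval₂_eq_eval_map]; exact hθ₀
    · rw [hev2, hFmap]
      exact minpoly.aeval L a
  have hroot : ∀ P, ev P = ev (P %ₘ F) := fun P => by
    conv_lhs => rw [← modByMonic_add_div P F]
    rw [map_add, map_mul, hevF, zero_mul, add_zero]
  -- the key invertibility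
  have key : ∀ P : G[X], (ev P).2 ≠ 0 → ∃ U, ev P * ev U = 1 := by
    intro P hP
    have hP0 : eval₂ L.subtype a (P.map sL) ≠ 0 := hev2 P ▸ hP
    have hcop : IsCoprime (P.map sL) f := ((minpoly.irreducible hint).coprime_iff_not_dvd.mpr fun hdvd => hP0
      ((minpoly.dvd_iff).mp hdvd)).symm
    obtain ⟨u, v, huv⟩ := hcop
    obtain ⟨U, rfl⟩ := Polynomial.map_surjective sL hsL u
    obtain ⟨V, rfl⟩ := Polynomial.map_surjective sL hsL v
    let A := AdjoinRoot F
    have : Module.Finite G A := hFmon.finite_adjoinRoot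
    let x : A := AdjoinRoot.mk F (U * P + V * F)
    have hm : ∀ z : G, sL z = 0 → z ∈ maximalIdeal G := fun z hz => (mem_maximalIdeal z).mpr fun hu =>
      (hG.prop.isUnit_iff z).mp hu (congrArg Subtype.val hz)
    have hx : 1 - x ∈ (maximalIdeal G).map (algebraMap G A) := by
      have h0 : (1 - (U * P + V * F)).map sL = 0 := by
        rw [Polynomial.map_sub, Polynomial.map_one, Polynomial.map_add, Polynomial.map_mul, Polynomial.map_mul, hFmap, huv, sub_self]
      have h1 : 1 - (U * P + V * F) ∈ (maximalIdeal G).map (C : G →+* G[X]) := by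
        rw [Ideal.mem_map_C_iff]
        intro n
        refine hm _ ?_
        rw [← Polynomial.coeff_map, h0, coeff_zero]
      have h2 := Ideal.mem_map_of_mem (AdjoinRoot.mk F) h1
      rw [Ideal.map_map, map_sub, map_one] at h2
      exact h2
    have hxu : IsUnit x := by
      rw [← Ideal.span_singleton_eq_top, ← Submodule.restrictScalars_eq_top_iff G, eq_top_iff]
      refine Submodule.le_of_le_smul_of_le_jacobson_bot Module.Finite.fg_top
        (IsLocalRing.maximalIdeal_le_jacobson _) fun z _ => ?_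
      refine Submodule.mem_sup.mpr ⟨z * x, ?_, z * (1 - x), ?_, by ring⟩
      · exact Ideal.mul_mem_left _ _ (Ideal.mem_span_singleton_self x)
      · rw [Ideal.smul_top_eq_map, Submodule.restrictScalars_mem]
        exact Ideal.mul_mem_left _ _ hx
    obtain ⟨y, hy⟩ := hxu.exists_right_inv
    obtain ⟨Y, rfl⟩ := AdjoinRoot.mk_surjective y
    obtain ⟨Q, hQ⟩ : F ∣ (U * P + V * F) * Y - 1 := by
      rw [← AdjoinRoot.mk_eq_zero, map_sub, map_mul, map_one]
      exact sub_eq_zero.mpr hy
    refine ⟨U * Y, ?_⟩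
    have := congrArg ev hQ
    rw [map_sub, map_mul, map_add, map_mul, map_mul, map_one, hevF, map_mul, hevF] at this
    rw [map_mul, ← sub_eq_zero]
    linear_combination this
  have hfac : ∀ R : G[X], R.degree < F.degree → R ≠ 0 → ∃ n R', (ev R').2 ≠ 0 ∧ R = (p : G[X]) ^ n * R' := by
    intro R hdeg hR
    choose! e u hu using fun (i : ℕ) (hi : i ∈ R.support) => hG.prop.exists_eq (R.coeff i) (mem_support_iff.mp hi)
    obtain ⟨i₀, hi₀, hmin⟩ := R.support.exists_min_image e (support_nonempty.mpr hR)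
    let R' : G[X] := ∑ i ∈ R.support, monomial i ((p : G) ^ (e i - e i₀) * u i)
    have hRR : R = (p : G[X]) ^ e i₀ * R' := by
      rw [← map_natCast (C : G →+* G[X]), ← map_pow, Finset.mul_sum]
      conv_lhs => rw [R.as_sum_support]
      refine Finset.sum_congr rfl fun i hi => ?_
      rw [C_mul_monomial, ← mul_assoc, ← pow_add, Nat.add_sub_cancel' (hmin i hi), ← hu i hi]
    have hco : R'.coeff i₀ = u i₀ := by
      simp only [R', finsetSum_coeff, coeff_monomial]
      rw [Finset.sum_ite_eq' , if_pos hi₀, Nat.sub_self, pow_zero, one_mul]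
    have hd : R'.degree < F.degree := lt_of_le_of_lt ((degree_sum_le _ _).trans (Finset.sup_le fun i hi =>
      (degree_monomial_le _ _).trans (le_degree_of_mem_supp i hi))) hdeg
    refine ⟨e i₀, R', fun h0 => ?_, hRR⟩
    rw [hev2] at h0
    have hne : R'.map sL ≠ 0 := fun h => ((u i₀).isUnit.map sL).ne_zero (by
      rw [← hco, ← coeff_map, h, coeff_zero])
    have hle : f.natDegree ≤ _ := natDegree_le_of_dvd ((minpoly.dvd_iff).mpr h0) hne
    have : R'.natDegree < F.natDegree := natDegree_lt_natDegree (fun h => hne (by rw [h, Polynomial.map_zero])) hd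
    have := R'.natDegree_map_le (f := sL)
    omega
  have hG' : IsResGraph p ev.range := by
    have hfac' : ∀ P, (ev P).1 = 0 → (ev P).2 = 0 := by
      intro P h1
      rw [hroot] at h1 ⊢
      by_contra h2
      obtain ⟨U, hU⟩ := key _ h2
      have := congrArg Prod.fst hU
      rw [Prod.fst_mul, h1, zero_mul] at this
      exact zero_ne_one this
    refine ⟨?_, ?_, ?_⟩
    · rintro b ⟨P, hP⟩
      have := hfac' P (by rw [hP])
      rwa [hP] at this
    · rintro x b ⟨P, hP⟩ hb
      obtain ⟨U, hU⟩ := key P (by rw [hP]; exact hb)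
      rw [hP] at hU
      refine ⟨U, Prod.ext (eq_inv_of_mul_eq_one_right (congrArg Prod.fst hU)) (eq_inv_of_mul_eq_one_right (congrArg Prod.snd hU))⟩
    · rintro x b ⟨P, hP⟩ hx
      rw [hroot] at hP
      obtain ⟨n, R', hR', hR⟩ := hfac _ (degree_modByMonic_lt P hFmon) fun h0 => hx (by
        rw [h0, map_zero] at hP; exact (congrArg Prod.fst hP).symm)
      refine ⟨n, (ev R').1, (ev R').2, ⟨R', rfl⟩, hR', ?_⟩
      rw [hR, map_mul, map_pow, map_natCast] at hP
      rw [← show _ = x from congrArg Prod.fst hP]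
      simp
  have hle : G ≤ ev.range := fun z hz => ⟨C ⟨z, hz⟩, by simp [ev]⟩
  exact hcon θ₀ (hG.le_of_ge hG' hle ⟨X, by simp [ev]⟩)

end Graph

end Groth.Agent.Cohen12

namespace Groth.Agent.Cohen12

/-- Every field is the residue field of a Cohen ring. -/
theorem exists_cohenRing (K : Type u) [Field K] :
    ∃ (W : Type u) (_ : CommRing W) (_ : IsLocalRing W) (_ : ResidueField W ≃+* K), EGA41.IsCohenRingEGA W := by
  classical
  obtain hK | ⟨p, hp, hK⟩ := CharP.exists' K
  · have hinj : Function.Injective (residue K) := RingHom.injective _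
    exact ⟨K, inferInstance, inferInstance, (RingEquiv.ofBijective (residue K) ⟨hinj, residue_surjective⟩).symm,
      Or.inl ⟨Field.toIsField K, hK⟩⟩
  let : Algebra (ZMod p) K := ZMod.algebra K p
  obtain ⟨S, hS⟩ := exists_isTranscendenceBasis (ZMod p) K
  let F := FractionRing (MvPolynomial S ℚ)
  let Ω := AlgebraicClosure F
  let θ : S → Ω := fun i => algebraMap F Ω (algebraMap (MvPolynomial S ℚ) F (MvPolynomial.X i))
  have hθ : Function.Injective (MvPolynomial.eval₂Hom (Int.castRingHom Ω) θ) := by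
    have h : MvPolynomial.eval₂Hom (Int.castRingHom Ω) θ =
        ((algebraMap F Ω).comp (algebraMap (MvPolynomial S ℚ) F)).comp (MvPolynomial.map (Int.castRingHom ℚ)) :=
      MvPolynomial.ringHom_ext (fun r => by simp) fun i => by simp [θ]
    rw [h]
    exact ((algebraMap F Ω).injective.comp (IsFractionRing.injective _ _)).comp
      (MvPolynomial.map_injective _ (Int.castRingHom ℚ).injective_int)
  obtain ⟨G, hG, hres⟩ := exists_isResGraph Ω K hS θ hθ
  have : CharZero Ω := charZero_of_injective_ringHom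
    (f := ((algebraMap F Ω).comp (algebraMap (MvPolynomial S ℚ) F)).comp MvPolynomial.C) (RingHom.injective _)
  have := hG.isLocalRing
  have := hG.isDomain
  let s : G →+* K := (RingHom.snd Ω K).comp G.subtype
  have hm : maximalIdeal G = Ideal.span {(p : G)} := by
    refine le_antisymm (fun z hz => ?_) ?_
    · rcases eq_or_ne z 0 with rfl | hz0
      · exact zero_mem _
      obtain ⟨n, u, rfl⟩ := hG.exists_eq z hz0
      rcases Nat.eq_zero_or_pos n with rfl | hn
      · exact absurd u.isUnit (by simp at hz)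
      · exact Ideal.mul_mem_right _ _ (Ideal.pow_mem_of_mem _ (Ideal.mem_span_singleton_self _) n hn)
    · rw [Ideal.span_singleton_le_iff_mem, mem_maximalIdeal, mem_nonunits_iff, hG.isUnit_iff, not_not]
      exact CharP.cast_eq_zero K p
  have hp0 : (p : G) ≠ 0 := fun h0 => hp.out.ne_zero (by
    have := congrArg (fun z : G => z.1.1) h0
    simpa using this)
  have hirr : Irreducible (p : G) := by
    have hnu : ¬ IsUnit (p : G) := fun hu => (hG.isUnit_iff _).mp hu (by simp)
    refine ⟨hnu, fun a b hab => ?_⟩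
    by_contra hc
    push Not at hc
    have ha := (mem_maximalIdeal a).mpr hc.1
    have hb := (mem_maximalIdeal b).mpr hc.2
    rw [hm, Ideal.mem_span_singleton'] at ha hb
    obtain ⟨a', rfl⟩ := ha
    obtain ⟨b', rfl⟩ := hb
    exact hnu (IsUnit.of_mul_eq_one (a' * b') (mul_left_cancel₀ hp0 (by rw [mul_one]; linear_combination (-hab))))
  have : IsDiscreteValuationRing G := IsDiscreteValuationRing.ofHasUnitMulPowIrreducibleFactorization
    ⟨(p : G), hirr, fun {x} hx => by
      obtain ⟨n, u, rfl⟩ := hG.exists_eq x hx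
      exact ⟨n, u, rfl⟩⟩
  let R : Type u := G
  have hkers : RingHom.ker s = maximalIdeal G := by
    refine Ideal.ext fun z => ?_
    rw [RingHom.mem_ker, mem_maximalIdeal, mem_nonunits_iff, hG.isUnit_iff, not_not]
    rfl
  have hs : Function.Surjective s := fun a => by
    obtain ⟨x, hx⟩ := hres a
    exact ⟨⟨(x, a), hx⟩, rfl⟩
  let e₀ : ResidueField G ≃+* K := (Ideal.quotEquivOfEq hkers.symm).trans (RingHom.quotientKerEquivOfSurjective hs)
  let W := AdicCompletion (maximalIdeal G) G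
  have : IsNoetherianRing W := isNoetherianRing_completion G
  have hc := isAdicComplete_completion G
  obtain ⟨r, -⟩ := exists_residueField_equiv G
  have hflat : Module.Flat G W := AdicCompletion.flat_of_isNoetherian _
  have hmW : maximalIdeal W = Ideal.span {(p : W)} := by
    rw [AdicCompletion.maximalIdeal_eq_map]
    exact ((congrArg (Ideal.map (algebraMap G W)) hm).trans (by rw [Ideal.map_span, Set.image_singleton, map_natCast]))
  have hnzd : (p : W) ∈ nonZeroDivisors W := by
    refine mem_nonZeroDivisors_iff_right.mpr fun x hx => ?_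
    have := Module.Flat.isTorsionFree (R := G) (M := W)
    refine (smul_eq_zero_iff_right hp0).mp ?_
    rw [Algebra.smul_def, map_natCast, mul_comm]
    exact hx
  obtain ⟨hd, hdvr⟩ := isDVR_of_maximalIdeal_eq_span (p : W) hmW hnzd
  exact ⟨W, inferInstance, inferInstance, r.symm.trans e₀, Or.inr ⟨hd, hdvr, hc, p, hp.out, hmW⟩⟩

end Groth.Agent.Cohen12
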