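import Groth.Agent.Cohen12.PowerSeries
import Groth.Agent.Cohen12.CohenExists
import Groth.Agent.LA18.ColonKilling
import Groth.Agent.SGA3a.FiniteComplete

/-!
# Complete Noetherian local rings as quotients of power series over Cohen rings
-/

set_option autoImplicit false
set_option maxHeartbeats 800000

universe u

open IsLocalRing

namespace Groth.Agent.Cohen12

/-- A complete Noetherian local ring is the target of a local map from a Cohen ring inducing an
isomorphism of residue fields. -/
theorem exists_cohen_hom (C : Type u) [CommRing C] [IsLocalRing C] [IsNoetherianRing C]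
    [IsAdicComplete (maximalIdeal C) C] :
    ∃ (W : Type u) (_ : CommRing W) (_ : IsLocalRing W), EGA41.IsCohenRingEGA W ∧
      ∃ w : W →+* C, IsLocalHom w ∧ Function.Surjective ((residue C).comp w) := by
  obtain ⟨W, _, _, e, hW⟩ := exists_cohenRing (ResidueField C)
  have : IsLocalRing (C ⧸ maximalIdeal C) := inferInstanceAs (IsLocalRing (ResidueField C))
  let u₀ : W →+* C ⧸ maximalIdeal C := e.toRingHom.comp (residue W)
  have : IsLocalHom u₀ := ⟨fun x hx => notMem_maximalIdeal.mp fun h => hx.ne_zero (by
    show e (residue W x) = 0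
    rw [(residue_eq_zero_iff x).mpr h, map_zero])⟩
  obtain ⟨v, hv, hvu⟩ := exists_lift_cohen hW (maximalIdeal C) u₀
  refine ⟨W, inferInstance, inferInstance, hW, v, hv, fun z => ?_⟩
  obtain ⟨x, hx⟩ := residue_surjective (e.symm z)
  refine ⟨x, (RingHom.congr_fun hvu x).trans ?_⟩
  show e (residue W x) = z
  rw [hx, e.apply_symm_apply]

/-- A complete Noetherian local ring is a quotient of a power series ring over `W`. -/
theorem exists_surjection_of_cohen_hom {W C : Type u} [CommRing W] [IsLocalRing W] [IsNoetherianRing W]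
    [IsAdicComplete (maximalIdeal W) W] [CommRing C] [IsLocalRing C] [IsNoetherianRing C]
    [IsAdicComplete (maximalIdeal C) C] (w : W →+* C) [IsLocalHom w] (hw : Function.Surjective ((residue C).comp w)) :
    ∃ (m : ℕ) (φ : MvPowerSeries (Fin m) W →+* C), Function.Surjective φ ∧ IsLocalHom φ ∧
      ∀ a, φ (MvPowerSeries.C a) = w a := by
  classical
  obtain ⟨s, hs⟩ := (IsNoetherian.noetherian (maximalIdeal C) : (maximalIdeal C).FG)
  let y : Fin s.card → C := fun i => s.equivFin.symm i
  have hy : ∀ i, y i ∈ maximalIdeal C := fun i => hs ▸ Ideal.subset_span (s.equivFin.symm i).2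
  obtain ⟨φ, hC, hX⟩ := LA18.exists_powerSeries_hom (maximalIdeal C) w y hy
  have hloc : (maximalIdeal (MvPowerSeries (Fin s.card) W)).map φ ≤ maximalIdeal C := by
    rw [maximalIdeal_powerSeries, Ideal.map_sup, Ideal.map_map, Ideal.map_span]
    refine sup_le ?_ (Ideal.span_le.mpr ?_)
    · rw [show φ.comp (MvPowerSeries.C : W →+* MvPowerSeries (Fin s.card) W) = w from RingHom.ext hC]
      exact ((local_hom_TFAE w).out 0 2).mp ‹_›
    · rintro _ ⟨_, ⟨i, rfl⟩, rfl⟩
      rw [SetLike.mem_coe, hX]
      exact hy i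
  have := isAdicComplete_powerSeries (W := W) s.card
  refine ⟨s.card, φ, ?_, ((local_hom_TFAE φ).out 2 0).mp hloc, hC⟩
  refine CAlg6.surjective_of_cotangent φ hloc (fun z => ?_) ?_
  · obtain ⟨a, rfl⟩ := hw z
    exact ⟨MvPowerSeries.C a, by simp only [RingHom.comp_apply, hC]⟩
  · refine le_sup_of_le_left (hs.ge.trans (Ideal.span_le.mpr fun x hx => ?_))
    rw [show x = φ (MvPowerSeries.X (s.equivFin ⟨x, hx⟩)) by simp [hX, y]]
    exact Ideal.mem_map_of_mem _ ((mem_maximalIdeal_powerSeries _).mpr (by simp))

/-- Quotients of complete Noetherian local rings are complete. -/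
theorem isAdicComplete_quotient {R : Type u} [CommRing R] [IsLocalRing R] [IsNoetherianRing R]
    [IsAdicComplete (maximalIdeal R) R] (I : Ideal R) [IsLocalRing (R ⧸ I)] :
    IsAdicComplete (maximalIdeal (R ⧸ I)) (R ⧸ I) := by
  have h := SGA3a.isAdicComplete_map_of_finite (A := R) (C := R ⧸ I)
  have e : (maximalIdeal R).map (algebraMap R (R ⧸ I)) = maximalIdeal (R ⧸ I) := by
    refine le_antisymm (Ideal.map_le_iff_le_comap.mpr fun a ha => ?_) fun x hx => ?_
    · rw [Ideal.mem_comap, mem_maximalIdeal]
      intro hu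
      obtain ⟨b, hb⟩ := hu.exists_right_inv
      obtain ⟨b, rfl⟩ := Ideal.Quotient.mk_surjective b
      have h1 : a * b - 1 ∈ maximalIdeal R := le_maximalIdeal (fun hI => by
        have := Ideal.Quotient.subsingleton_iff.mpr hI
        exact not_nontrivial (R ⧸ I) inferInstance) (Ideal.Quotient.eq.mp hb)
      have := sub_mem (Ideal.mul_mem_right b _ ha) h1
      rw [sub_sub_cancel] at this
      exact (mem_maximalIdeal _).mp this isUnit_one
    · obtain ⟨a, rfl⟩ := Ideal.Quotient.mk_surjective x
      exact Ideal.mem_map_of_mem _ ((mem_maximalIdeal _).mpr fun hu => (mem_maximalIdeal _).mp hx (hu.map _))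
  exact e ▸ h

end Groth.Agent.Cohen12
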