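import Groth.Agent.Cohen12.CohenFS
import Groth.Agent.Cohen12.GeomRegular
import Groth.Agent.EGA4Alg4.FlatReg
import Groth.Agent.EGA4Alg4.RegPow
import Groth.Agent.CAlg1.Regular

/-!
# Flat local homomorphisms with formally smooth closed fibre are formally smooth
-/

set_option autoImplicit false
set_option maxHeartbeats 800000

universe u

open IsLocalRing TensorProduct

namespace Groth.Agent.Cohen12

/-- Linear lifting out of a flat module into modules killed by a power of the maximal ideal. -/
theorem exists_lift_of_flat {A : Type u} [CommRing A] [IsLocalRing A] (M : Type u) [AddCommGroup M] [Module A M]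
    [Module.Flat A M] {N : ℕ} (hN : N ≠ 0) {P Q : Type u} [AddCommGroup P] [Module A P] [AddCommGroup Q] [Module A Q]
    (hP : ∀ a ∈ maximalIdeal A ^ N, ∀ y : P, a • y = 0) (hQ : ∀ a ∈ maximalIdeal A ^ N, ∀ y : Q, a • y = 0)
    (f : P →ₗ[A] Q) (hf : Function.Surjective f) (v : M →ₗ[A] Q) : ∃ w : M →ₗ[A] P, f ∘ₗ w = v := by
  let A₀ := A ⧸ maximalIdeal A ^ N
  have : Nontrivial A₀ := Ideal.Quotient.nontrivial_iff.mpr fun h0 =>
    (maximalIdeal.isMaximal A).ne_top (top_le_iff.mp (h0.ge.trans (Ideal.pow_le_self hN)))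
  have : IsLocalRing A₀ := IsLocalRing.of_surjective' (Ideal.Quotient.mk _) Ideal.Quotient.mk_surjective
  have hnil : IsNilpotent (maximalIdeal A₀) := ⟨N, by
    refine eq_bot_iff.mpr ((Ideal.pow_right_mono ?_ N).trans
      (le_of_eq ((Ideal.map_pow _ _ _).symm.trans (Ideal.map_quotient_self (maximalIdeal A ^ N)))))
    intro z hz
    obtain ⟨a, rfl⟩ := Ideal.Quotient.mk_surjective z
    exact Ideal.mem_map_of_mem _ ((mem_maximalIdeal _).mpr fun hau => (mem_maximalIdeal _).mp hz (hau.map _))⟩
  let : Module A₀ P := Module.IsTorsionBySet.module (R := A) (M := P) (I := maximalIdeal A ^ N) fun y a => hP a.1 a.2 y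
  let : Module A₀ Q := Module.IsTorsionBySet.module (R := A) (M := Q) (I := maximalIdeal A ^ N) fun y a => hQ a.1 a.2 y
  have : IsScalarTower A A₀ P := Module.IsTorsionBySet.isScalarTower _
  have : IsScalarTower A A₀ Q := Module.IsTorsionBySet.isScalarTower _
  let f₀ : P →ₗ[A₀] Q := f.extendScalarsOfSurjective Ideal.Quotient.mk_surjective
  let v₀ : A₀ ⊗[A] M →ₗ[A₀] Q := v.liftBaseChange A₀
  have : Module.Free A₀ (A₀ ⊗[A] M) := free_of_flat_of_nilpotent hnil
  obtain ⟨w₀, hw₀⟩ := Module.projective_lifting_property f₀ v₀ hf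
  refine ⟨(w₀.restrictScalars A) ∘ₗ TensorProduct.mk A A₀ M 1, LinearMap.ext fun x => ?_⟩
  refine (LinearMap.congr_fun hw₀ ((1 : A₀) ⊗ₜ[A] x)).trans ?_
  simp [v₀]

theorem isFormallySmoothAdic_of_flat_fibre {A B : Type u} [CommRing A] [IsLocalRing A]
    [CommRing B] [IsLocalRing B] [IsNoetherianRing B] [Algebra A B] [IsLocalHom (algebraMap A B)] [Module.Flat A B]
    (h : CAlgX.IsAdicFormallySmooth (A ⧸ maximalIdeal A) (B ⧸ (maximalIdeal A).map (algebraMap A B))
      ((maximalIdeal B).map (Ideal.Quotient.mk ((maximalIdeal A).map (algebraMap A B))))) :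
    EGA41.IsFormallySmoothAdic A (maximalIdeal A) B (maximalIdeal B) := by
  classical
  have hle : (maximalIdeal A).map (algebraMap A B) ≤ maximalIdeal B :=
    ((local_hom_TFAE (algebraMap A B)).out 0 2).mp ‹_›
  let M₀ := (maximalIdeal A).map (algebraMap A B)
  let F := B ⧸ M₀
  have : Nontrivial F := Ideal.Quotient.nontrivial_iff.mpr fun ht =>
    (maximalIdeal.isMaximal B).ne_top (top_le_iff.mp (ht ▸ hle))
  have : IsLocalRing F := IsLocalRing.of_surjective' (Ideal.Quotient.mk _) Ideal.Quotient.mk_surjective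
  have hloc : IsLocalHom (Ideal.Quotient.mk M₀) := IsLocalHom.of_surjective _ Ideal.Quotient.mk_surjective
  have hmF : (maximalIdeal B).map (Ideal.Quotient.mk M₀) = maximalIdeal F := by
    refine le_antisymm (Ideal.map_le_iff_le_comap.mpr fun b hb => map_nonunit _ b hb) fun x hx => ?_
    obtain ⟨b, rfl⟩ := Ideal.Quotient.mk_surjective x
    exact Ideal.mem_map_of_mem _ ((mem_maximalIdeal _).mpr fun hu => (mem_maximalIdeal _).mp hx (hu.map _))
  let : Field (A ⧸ maximalIdeal A) := Ideal.Quotient.field _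
  have hreg : IsRegularLocalRing F :=
    (regular_of_formallySmooth_field (k := A ⧸ maximalIdeal A) (A := F) (hmF ▸ h)).1
  obtain ⟨s, hs, hspan⟩ := Submodule.FG.exists_span_finset_card_eq_spanFinrank
    (IsNoetherian.noetherian (maximalIdeal F))
  let ys : List F := s.toList
  have hys : Ideal.ofList ys = maximalIdeal F := by
    rw [← hspan]
    show Ideal.span {x | x ∈ s.toList} = Ideal.span (s : Set F)
    congr 1
    ext x; simp
  let lift := Function.surjInv (Ideal.Quotient.mk_surjective (I := M₀))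
  let xs : List B := ys.map lift
  have hxs : xs.map (algebraMap B F) = ys := by
    simp only [xs, List.map_map]
    refine List.map_id'' ?_ _ 
    intro y
    exact Function.surjInv_eq Ideal.Quotient.mk_surjective y
  have hwr : RingTheory.Sequence.IsWeaklyRegular F xs := by
    refine (RingTheory.Sequence.isWeaklyRegular_map_algebraMap_iff F F xs).mp ?_
    rw [hxs]
    exact CAlg1.isWeaklyRegular_params F ys hys (by rw [Finset.length_toList, hs])
  have hxm : ∀ x ∈ xs, x ∈ maximalIdeal B := fun x hx => by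
    refine (mem_maximalIdeal _).mpr fun hu => ?_
    have h1 : algebraMap B F x ∈ maximalIdeal F := by
      rw [← hys]
      exact Ideal.subset_span (hxs ▸ List.mem_map_of_mem hx)
    exact (mem_maximalIdeal _).mp h1 (hu.map _)
  refine (S4553.result (maximalIdeal A) (maximalIdeal B) ⟨1, by rw [pow_one]; exact hle⟩ ?_).mpr ?_
  · intro n P Q _ _ _ _ hP hQ f hf v ⟨m, hv⟩
    let N := n + 1
    let e := List.replicate xs.length (m + 1)
    let fs : List B := List.zipWith (· ^ ·) xs e
    have hfs : RingTheory.Sequence.IsWeaklyRegular F fs :=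
      EGA4Alg4.isWeaklyRegular_pow xs e (by simp [e]) (fun a ha => by simp [e, List.mem_replicate] at ha; omega) hwr
    let eF : (B ⧸ (M₀ • (⊤ : Submodule B B))) ≃ₗ[B] F := Submodule.quotEquivOfEq _ M₀ (by rw [smul_eq_mul, Ideal.mul_top])
    have hfs' : RingTheory.Sequence.IsWeaklyRegular (B ⧸ (M₀ • (⊤ : Submodule B B))) fs :=
      (LinearEquiv.isWeaklyRegular_congr eF fs).mpr hfs
    have hflat : Module.Flat A (B ⧸ (Ideal.ofList (fs.take fs.length) • (⊤ : Submodule B B))) :=
      (EGA4Alg4.FlatReg13.regular_and_flat fs B hfs').2 fs.length le_rfl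
    rw [List.take_length] at hflat
    let I : Ideal B := Ideal.ofList fs • (⊤ : Submodule B B)
    have hI : I = Ideal.ofList fs := by
      show Ideal.ofList fs • (⊤ : Submodule B B) = _
      rw [smul_eq_mul, Ideal.mul_top]
    have hflat' : Module.Flat A (B ⧸ I) := hflat
    have hfsmem : ∀ x ∈ fs, x ∈ maximalIdeal B ^ m := fun x hx => by
      obtain ⟨i, hi, rfl⟩ := List.mem_iff_getElem.mp hx
      simp only [fs, List.getElem_zipWith, e, List.getElem_replicate]
      exact Ideal.pow_le_pow_right (Nat.le_succ m) (Ideal.pow_mem_pow (hxm _ (List.getElem_mem _)) (m + 1))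
    have hIm : I ≤ maximalIdeal B ^ m := by
      rw [hI]
      exact Ideal.span_le.mpr hfsmem
    let v' : (B ⧸ I) →ₗ[A] Q := (I.restrictScalars A).liftQ v (fun x hx => hv x (hIm hx)) ∘ₗ
      (Submodule.Quotient.restrictScalarsEquiv A I).symm.toLinearMap
    have hP' : ∀ a ∈ maximalIdeal A ^ N, ∀ y : P, a • y = 0 := fun a ha y =>
      hP a (Ideal.pow_le_pow_right (Nat.le_succ n) ha) y
    have hQ' : ∀ a ∈ maximalIdeal A ^ N, ∀ y : Q, a • y = 0 := fun a ha y =>
      hQ a (Ideal.pow_le_pow_right (Nat.le_succ n) ha) y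
    obtain ⟨w', hw'⟩ := exists_lift_of_flat (B ⧸ I) (Nat.succ_ne_zero n) hP' hQ' f hf v'
    let q : B →ₗ[A] B ⧸ I := (Submodule.mkQ I).restrictScalars A
    let w : B →ₗ[A] P := w' ∘ₗ q
    have hrad : maximalIdeal B ≤ (I ⊔ (maximalIdeal A ^ N).map (algebraMap A B)).radical := by
      have h1 : M₀ ≤ (I ⊔ (maximalIdeal A ^ N).map (algebraMap A B)).radical := fun x hx =>
        ⟨N, Submodule.mem_sup_right (by rw [Ideal.map_pow]; exact Ideal.pow_mem_pow hx N)⟩
      have h2 : Ideal.ofList xs ≤ (I ⊔ (maximalIdeal A ^ N).map (algebraMap A B)).radical := by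
        refine Ideal.span_le.mpr fun x hx => ⟨m + 1, Submodule.mem_sup_left ?_⟩
        rw [hI]
        obtain ⟨i, hi, rfl⟩ := List.mem_iff_getElem.mp hx
        refine Ideal.subset_span (List.mem_iff_getElem.mpr ⟨i, by simpa [fs, e] using hi, ?_⟩)
        simp [fs, e]
      intro b hb
      have h3 : Ideal.Quotient.mk M₀ b ∈ (Ideal.ofList xs).map (Ideal.Quotient.mk M₀) := by
        rw [Ideal.map_ofList, show xs.map (Ideal.Quotient.mk M₀) = ys from hxs, hys]
        exact hmF ▸ Ideal.mem_map_of_mem _ hb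
      rw [← Ideal.mem_comap, Ideal.comap_map_of_surjective' _ Ideal.Quotient.mk_surjective, Ideal.mk_ker] at h3
      exact sup_le h2 h1 h3
    obtain ⟨L, hL⟩ := Ideal.exists_pow_le_of_le_radical_of_fg hrad (IsNoetherian.noetherian _)
    refine ⟨w, ⟨L, fun x hx => ?_⟩, LinearMap.ext fun x => ?_⟩
    · obtain ⟨a, ha, c, hc, rfl⟩ := Submodule.mem_sup.mp (hL hx)
      have hqa : q a = 0 := (Submodule.Quotient.mk_eq_zero I).mpr ha
      have hc' : c ∈ ((maximalIdeal A ^ N).map (algebraMap A B)).restrictScalars A := hc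
      rw [← Ideal.smul_top_eq_map] at hc'
      have hwc : w c = 0 := by
        refine Submodule.smul_induction_on hc' (fun r hr y _ => ?_) (fun y z hy hz => by rw [map_add, hy, hz, add_zero])
        rw [map_smul]
        exact hP' r hr _
      rw [map_add, hwc, add_zero]
      show w' (q a) = 0
      rw [hqa, map_zero]
    · exact LinearMap.congr_fun hw' (q x)
  · exact (FSAdic12.isAdicFormallySmooth_iff _).mp h

end Groth.Agent.Cohen12
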