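import Groth.Agent.Helper62.FlatNil
import Groth.Agent.S4553
import Groth.Agent.FSAdic12.Basic
import Groth.Agent.Sep12.Basic
import Mathlib.RingTheory.Flat.Stability
import Mathlib.RingTheory.Flat.TorsionFree

/-!
# Cohen algebras are formally smooth
-/

set_option autoImplicit false
set_option maxHeartbeats 800000

universe u

open IsLocalRing TensorProduct

namespace Groth.Agent.Cohen12

theorem free_of_flat_of_nilpotent {R P : Type u} [CommRing R] [IsLocalRing R]
    (hm : IsNilpotent (maximalIdeal R)) [AddCommGroup P] [Module R P] [Module.Flat R P] :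
    Module.Free R P := by
  classical
  let : Field (R ⧸ maximalIdeal R) := Ideal.Quotient.field _
  obtain ⟨ι, φ, hφ, hker⟩ := FlatNil62.exists_cover (M := P) hm (Module.Free.of_divisionRing _ _)
  have hle : LinearMap.ker φ ≤ maximalIdeal R • LinearMap.ker φ := fun x hx => by
    refine FlatNil62.mem_smul_of_flat_range φ hφ _ hx ?_
    rw [← x.sum_single]
    refine sum_mem fun i _ => ?_
    rw [show Finsupp.single i (x i) = x i • Finsupp.single i (1 : R) by simp]
    exact Submodule.smul_mem_smul (hker x hx i) trivial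
  have hinj : Function.Injective φ :=
    LinearMap.ker_eq_bot.mp (FlatNil62.eq_bot_of_le_smul_self hm hle)
  exact Module.Free.of_equiv (LinearEquiv.ofBijective φ ⟨hinj, hφ⟩)

theorem isAdicFormallySmooth_of_formallySmooth {k B : Type u} [CommRing k] [CommRing B] [Algebra k B]
    [Algebra.FormallySmooth k B] (𝔫 : Ideal B) : CAlgX.IsAdicFormallySmooth k B 𝔫 := by
  intro C _ _ J hJ ψ _
  exact ⟨Algebra.FormallySmooth.lift J ⟨2, hJ⟩ ψ, AlgHom.ext fun x => Algebra.FormallySmooth.mk_lift J ⟨2, hJ⟩ ψ x⟩

theorem isFormallySmoothAdic_of_cohenAlgebra {A B : Type u} [CommRing A] [IsLocalRing A] [CommRing B]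
    [IsLocalRing B] [Algebra A B] [IsLocalHom (algebraMap A B)] (h : EGA41.IsCohenAlgebra A B) :
    EGA41.IsFormallySmoothAdic A (maximalIdeal A) B (maximalIdeal B) := by
  obtain ⟨hA, hB, hc, hflat, hmax, hsep⟩ := h
  refine (S4553.result (maximalIdeal A) (maximalIdeal B) ⟨1, by rw [pow_one]; exact hmax.le⟩ ?_).mpr ?_
  · intro n P Q _ _ _ _ hP hQ f hf v ⟨m, hv⟩
    let N := n + m + 1
    have hP' : ∀ a ∈ maximalIdeal A ^ N, ∀ y : P, a • y = 0 := fun a ha y =>
      hP a (Ideal.pow_le_pow_right (by omega) ha) y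
    have hQ' : ∀ a ∈ maximalIdeal A ^ N, ∀ y : Q, a • y = 0 := fun a ha y =>
      hQ a (Ideal.pow_le_pow_right (by omega) ha) y
    let A₀ := A ⧸ maximalIdeal A ^ N
    have : Nontrivial A₀ := Ideal.Quotient.nontrivial_iff.mpr fun h0 =>
      (maximalIdeal.isMaximal A).ne_top (top_le_iff.mp (h0.ge.trans (Ideal.pow_le_self (by omega))))
    have : IsLocalRing A₀ := IsLocalRing.of_surjective' (Ideal.Quotient.mk _) Ideal.Quotient.mk_surjective
    have hnil : IsNilpotent (maximalIdeal A₀) := ⟨N, by
      refine eq_bot_iff.mpr ((Ideal.pow_right_mono ?_ N).trans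
        (le_of_eq ((Ideal.map_pow _ _ _).symm.trans (Ideal.map_quotient_self (maximalIdeal A ^ N)))))
      intro z hz
      obtain ⟨a, rfl⟩ := Ideal.Quotient.mk_surjective z
      exact Ideal.mem_map_of_mem _ ((mem_maximalIdeal _).mpr fun hau => (mem_maximalIdeal _).mp hz (hau.map _))⟩
    let : Module A₀ P := Module.IsTorsionBySet.module (R := A) (M := P) (I := maximalIdeal A ^ N) fun y a => hP' a.1 a.2 y
    let : Module A₀ Q := Module.IsTorsionBySet.module (R := A) (M := Q) (I := maximalIdeal A ^ N) fun y a => hQ' a.1 a.2 y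
    have : IsScalarTower A A₀ P := Module.IsTorsionBySet.isScalarTower _
    have : IsScalarTower A A₀ Q := Module.IsTorsionBySet.isScalarTower _
    let f₀ : P →ₗ[A₀] Q := f.extendScalarsOfSurjective Ideal.Quotient.mk_surjective
    let v₀ : A₀ ⊗[A] B →ₗ[A₀] Q := v.liftBaseChange A₀
    have : Module.Free A₀ (A₀ ⊗[A] B) := free_of_flat_of_nilpotent hnil
    obtain ⟨w₀, hw₀⟩ := Module.projective_lifting_property f₀ v₀ hf
    refine ⟨(w₀.restrictScalars A) ∘ₗ TensorProduct.mk A A₀ B 1, ⟨N, fun x hx => ?_⟩, ?_⟩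
    · rw [← hmax, ← Ideal.map_pow] at hx
      have key : ((1 : A₀) ⊗ₜ[A] x) = 0 := by
        induction hx using Submodule.span_induction with
        | mem y hy =>
          obtain ⟨a, ha, rfl⟩ := hy
          rw [Algebra.algebraMap_eq_smul_one, TensorProduct.tmul_smul, TensorProduct.smul_tmul',
            Algebra.smul_def, mul_one]
          show Ideal.Quotient.mk _ a ⊗ₜ[A] _ = 0
          rw [Ideal.Quotient.eq_zero_iff_mem.mpr ha, TensorProduct.zero_tmul]
        | zero => exact TensorProduct.tmul_zero _ _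
        | add y z _ _ h1 h2 => rw [TensorProduct.tmul_add, h1, h2, add_zero]
        | smul b y _ h1 =>
          have := congrArg (LinearMap.lTensor A₀ (LinearMap.mulLeft A b)) h1
          rw [map_zero, LinearMap.lTensor_tmul] at this
          exact this
      show w₀ ((1 : A₀) ⊗ₜ[A] x) = 0
      rw [key, map_zero]
    · refine LinearMap.ext fun x => ?_
      refine (LinearMap.congr_fun hw₀ ((1 : A₀) ⊗ₜ[A] x)).trans ?_
      simp [v₀]
  · let : Algebra (A ⧸ maximalIdeal A) (B ⧸ (maximalIdeal A).map (algebraMap A B)) := inferInstance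
    refine (FSAdic12.isAdicFormallySmooth_iff _).mp ?_
    have e : (maximalIdeal B) = (maximalIdeal A).map (algebraMap A B) := hmax.symm
    have hFS : Algebra.FormallySmooth (ResidueField A) (ResidueField B) :=
      (Sep12.formallySmooth_iff_isGeometricallyReduced (k := ResidueField A) (K := ResidueField B)).mpr hsep
    let : Algebra (A ⧸ maximalIdeal A) (ResidueField B) :=
      inferInstanceAs (Algebra (ResidueField A) (ResidueField B))
    let f : ResidueField B ≃ₐ[A ⧸ maximalIdeal A] (B ⧸ (maximalIdeal A).map (algebraMap A B)) :=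
      { Ideal.quotEquivOfEq e with
        commutes' := fun r => by
          obtain ⟨a, rfl⟩ := Ideal.Quotient.mk_surjective r
          rfl }
    have : Algebra.FormallySmooth (A ⧸ maximalIdeal A) (ResidueField B) := hFS
    have : Algebra.FormallySmooth (A ⧸ maximalIdeal A) (B ⧸ (maximalIdeal A).map (algebraMap A B)) :=
      Algebra.FormallySmooth.of_equiv f
    exact isAdicFormallySmooth_of_formallySmooth _

end Groth.Agent.Cohen12
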