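import Groth.Agent.Cohen12.CohenRing
import Groth.Agent.Cohen12.CohenFS
import Groth.Agent.FSAdic12.LiftComplete
import Mathlib.RingTheory.DedekindDomain.PID
import Mathlib.Algebra.Ring.ULift
import Mathlib.RingTheory.AdicCompletion.Noetherian

/-!
# Lifting maps out of Cohen rings
-/

set_option autoImplicit false
set_option maxHeartbeats 800000

universe u

open IsLocalRing

namespace Groth.Agent.Cohen12

theorem isPrime_span_natCast_of_charP {K : Type u} [Field K] (p : ℕ) [CharP K p] :
    (Ideal.span {(p : ℤ)}).IsPrime := by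
  have : Ideal.span {(p : ℤ)} = RingHom.ker (Int.castRingHom K) := by
    ext z
    rw [Ideal.mem_span_singleton, RingHom.mem_ker, eq_intCast, CharP.intCast_eq_zero_iff K p]
  rw [this]
  exact RingHom.ker_isPrime _

abbrev PrimeRing (p : ℕ) [(Ideal.span {(p : ℤ)}).IsPrime] : Type u := ULift.{u} (primeLocalRing p)

theorem isLocalRing_primeRing (p : ℕ) [(Ideal.span {(p : ℤ)}).IsPrime] : IsLocalRing (PrimeRing.{u} p) :=
  IsLocalRing.of_surjective' (ULift.ringEquiv (R := primeLocalRing p)).symm.toRingHom
    (ULift.ringEquiv (R := primeLocalRing p)).symm.surjective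

attribute [instance] isLocalRing_primeRing

theorem maximalIdeal_primeRing (p : ℕ) [(Ideal.span {(p : ℤ)}).IsPrime] :
    maximalIdeal (PrimeRing.{u} p) = Ideal.span {(p : PrimeRing.{u} p)} := by
  let e := (ULift.ringEquiv (R := primeLocalRing p)).symm
  have : (maximalIdeal (primeLocalRing p)).map e = maximalIdeal (PrimeRing.{u} p) :=
    IsLocalRing.eq_maximalIdeal (Ideal.map_isMaximal_of_equiv e)
  rw [← this, maximalIdeal_primeLocalRing, Ideal.map_span, Set.image_singleton, map_natCast]

theorem isNoetherianRing_primeRing (p : ℕ) [(Ideal.span {(p : ℤ)}).IsPrime] :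
    IsNoetherianRing (PrimeRing.{u} p) :=
  have : IsNoetherianRing (primeLocalRing p) :=
    IsLocalization.isNoetherianRing (Ideal.span {(p : ℤ)}).primeCompl _ inferInstance
  isNoetherianRing_of_ringEquiv (primeLocalRing p) (ULift.ringEquiv (R := primeLocalRing p)).symm

theorem perfectField_residue_primeRing (p : ℕ) [(Ideal.span {(p : ℤ)}).IsPrime] :
    PerfectField (ResidueField (PrimeRing.{u} p)) := by
  let e := (ULift.ringEquiv (R := primeLocalRing p)).symm
  have := perfectField_residue_primeLocalRing p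
  let r := IsLocalRing.ResidueField.mapEquiv e
  rcases CharP.exists' (ResidueField (primeLocalRing p)) with h | ⟨q, hq, hc⟩
  · have : CharZero (ResidueField (PrimeRing.{u} p)) := charZero_of_injective_ringHom (f := r.toRingHom) r.injective
    exact PerfectField.ofCharZero
  · have : ExpChar (ResidueField (primeLocalRing p)) q := .prime hq.out
    have : CharP (ResidueField (PrimeRing.{u} p)) q := charP_of_injective_ringHom (f := r.toRingHom) r.injective q
    have : ExpChar (ResidueField (PrimeRing.{u} p)) q := .prime hq.out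
    have : PerfectRing (ResidueField (PrimeRing.{u} p)) q := PerfectRing.ofSurjective _ q fun x => by
      obtain ⟨y, hy⟩ := surjective_frobenius (ResidueField (primeLocalRing p)) q (r.symm x)
      refine ⟨r y, r.symm.injective ?_⟩
      rw [← hy, frobenius_def, frobenius_def, map_pow, r.symm_apply_apply]
    exact PerfectRing.toPerfectField _ q

theorem exists_primeRing_hom (p : ℕ) [(Ideal.span {(p : ℤ)}).IsPrime] (A : Type u) [CommRing A] [IsLocalRing A]
    [CharP (ResidueField A) p] : ∃ ι : PrimeRing.{u} p →+* A, IsLocalHom ι := by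
  have hres : ∀ z : ℤ, IsUnit (Int.castRingHom A z) ↔ z ∉ Ideal.span {(p : ℤ)} := fun z => by
    rw [← notMem_maximalIdeal, ← residue_eq_zero_iff, eq_intCast, map_intCast,
      CharP.intCast_eq_zero_iff (ResidueField A) p, Ideal.mem_span_singleton]
  have hu : ∀ z : (Ideal.span {(p : ℤ)}).primeCompl, IsUnit (Int.castRingHom A (z : ℤ)) := fun z => (hres _).mpr z.2
  refine ⟨(IsLocalization.lift (S := primeLocalRing p) hu).comp (ULift.ringEquiv (R := primeLocalRing p)).toRingHom,
    ⟨fun x hx => ?_⟩⟩
  obtain ⟨⟨z, s⟩, hzs⟩ := IsLocalization.surj (Ideal.span {(p : ℤ)}).primeCompl (ULift.ringEquiv x)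
  have h1 : IsUnit (Int.castRingHom A z) := by
    have := congrArg (IsLocalization.lift (S := primeLocalRing p) hu) hzs
    rw [map_mul, IsLocalization.lift_eq, IsLocalization.lift_eq] at this
    rw [← this]
    exact hx.mul (hu s)
  have h2 : IsUnit (algebraMap ℤ (primeLocalRing p) z) :=
    IsLocalization.map_units (primeLocalRing p) (⟨z, (hres z).mp h1⟩ : (Ideal.span {(p : ℤ)}).primeCompl)
  rw [← hzs] at h2
  have h3 := isUnit_of_mul_isUnit_left h2
  simpa using h3.map (ULift.ringEquiv.{0, u} (R := primeLocalRing p)).symm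

theorem cohen_struct {W : Type u} [CommRing W] [IsLocalRing W] (hW : EGA41.IsCohenRingEGA W) :
    IsNoetherianRing W ∧ IsAdicComplete (maximalIdeal W) W ∧ IsDomain W ∧ CharZero W ∧
      ∃ p : ℕ, CharP (ResidueField W) p ∧ maximalIdeal W = Ideal.span {(p : W)} := by
  rcases hW with ⟨hf, hz⟩ | ⟨hd, hdvr, hc, q, hq, hm⟩
  · let := hf.toField
    have hb : maximalIdeal W = ⊥ := isField_iff_maximalIdeal_eq.mp hf
    have hinj : Function.Injective (residue W) := by
      rw [RingHom.injective_iff_ker_eq_bot, ker_residue, hb]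
    have : CharZero (ResidueField W) := charZero_of_injective_ringHom hinj
    exact ⟨inferInstance, hb ▸ inferInstance, inferInstance, hz, 0, CharP.ofCharZero _, by rw [hb]; simp⟩
  · have hpR : CharP (ResidueField W) q := (CharP.charP_iff_prime_eq_zero hq).mpr (by
      rw [← map_natCast (residue W), residue_eq_zero_iff, hm]
      exact Ideal.mem_span_singleton_self _)
    refine ⟨inferInstance, hc, hd, ?_, q, hpR, hm⟩
    obtain ⟨r, hr⟩ := CharP.exists W
    rcases CharP.char_is_prime_or_zero W r with hrp | rfl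
    · have h0 : ((r : ℕ) : ResidueField W) = 0 := by rw [← map_natCast (residue W), CharP.cast_eq_zero, map_zero]
      rcases hrp.eq_one_or_self_of_dvd q ((CharP.cast_eq_zero_iff (ResidueField W) q r).mp h0) with h1 | h1
      · exact absurd h1 hq.ne_one
      · refine absurd ?_ hdvr.not_a_field'
        rw [hm, h1, CharP.cast_eq_zero]; simp
    · exact CharP.charP_to_charZero _

theorem isCohenAlgebra_primeRing {W : Type u} [CommRing W] [IsLocalRing W] (p : ℕ)
    [(Ideal.span {(p : ℤ)}).IsPrime] [Algebra (PrimeRing.{u} p) W] [IsLocalHom (algebraMap (PrimeRing.{u} p) W)]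
    (hW : IsNoetherianRing W) (hc : IsAdicComplete (maximalIdeal W) W) [IsDomain W] [CharZero W]
    (hm : maximalIdeal W = Ideal.span {(p : W)}) : EGA41.IsCohenAlgebra (PrimeRing.{u} p) W := by
  have hle := Ideal.primeCompl_le_nonZeroDivisors (Ideal.span {(p : ℤ)})
  let e := (ULift.ringEquiv (R := primeLocalRing p)).symm
  have : IsDomain (primeLocalRing p) := IsLocalization.isDomain_localization hle
  have : IsDedekindDomain (primeLocalRing p) := IsLocalization.isDedekindDomain ℤ hle _
  have : IsNoetherianRing (primeLocalRing p) :=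
    IsLocalization.isNoetherianRing (Ideal.span {(p : ℤ)}).primeCompl _ inferInstance
  have : IsPrincipalIdealRing (primeLocalRing p) :=
    ((tfae_of_isNoetherianRing_of_isLocalRing_of_isDomain (primeLocalRing p)).out 2 0).mp ‹_›
  have : IsPrincipalIdealRing (PrimeRing.{u} p) := IsPrincipalIdealRing.of_surjective e.toRingHom e.surjective
  have : IsDomain (PrimeRing.{u} p) := e.symm.toMulEquiv.isDomain
  have hinjP : Function.Injective (algebraMap (PrimeRing.{u} p) W) := by
    refine (injective_iff_map_eq_zero _).mpr fun x hx => ?_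
    obtain ⟨⟨z, s⟩, hzs⟩ := IsLocalization.surj (Ideal.span {(p : ℤ)}).primeCompl (e.symm x)
    let g : ℤ →+* W := (algebraMap (PrimeRing.{u} p) W).comp (e.toRingHom.comp (algebraMap ℤ (primeLocalRing p)))
    have h1 : g z = 0 := by
      have := congrArg e hzs
      rw [map_mul, e.apply_symm_apply] at this
      show algebraMap _ W (e (algebraMap ℤ _ z)) = 0
      rw [← this, map_mul, hx, zero_mul]
    rw [eq_intCast g, Int.cast_eq_zero] at h1
    rw [h1, map_zero] at hzs
    exact e.symm.injective (((IsLocalization.map_units (primeLocalRing p) s).mul_left_eq_zero.mp hzs).trans (map_zero _).symm)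
  have : Module.IsTorsionFree (PrimeRing.{u} p) W := Module.isTorsionFree_iff_algebraMap_injective.mpr hinjP
  have := perfectField_residue_primeRing.{u} p
  refine ⟨isNoetherianRing_primeRing p, hW, hc, inferInstance, ?_,
    Sep12.formallySmooth_iff_isGeometricallyReduced.mp (Sep12.formallySmooth_of_perfectField _ _)⟩
  rw [maximalIdeal_primeRing, Ideal.map_span, Set.image_singleton, map_natCast, hm]

/-- Maps from a Cohen ring into a quotient of a complete Noetherian local ring lift. -/
theorem exists_lift_cohen {W C : Type u} [CommRing W] [IsLocalRing W] (hW : EGA41.IsCohenRingEGA W)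
    [CommRing C] [IsLocalRing C] [IsNoetherianRing C] [IsAdicComplete (maximalIdeal C) C]
    (J : Ideal C) [IsLocalRing (C ⧸ J)] (u : W →+* C ⧸ J) [IsLocalHom u] :
    ∃ v : W →+* C, IsLocalHom v ∧ (Ideal.Quotient.mk J).comp v = u := by
  obtain ⟨hWN, hWc, hWd, hW0, p, hpR, hm⟩ := cohen_struct hW
  have hJ : J ≤ maximalIdeal C := le_maximalIdeal fun hJ => by
    have := Ideal.Quotient.subsingleton_iff.mpr hJ
    exact not_nontrivial (C ⧸ J) inferInstance
  have : IsLocalHom (Ideal.Quotient.mk J) := ⟨fun c hc => by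
    by_contra hcu
    obtain ⟨d, hd⟩ := hc.exists_right_inv
    obtain ⟨d, rfl⟩ := Ideal.Quotient.mk_surjective d
    have h1 := hJ (Ideal.Quotient.eq.mp ((map_mul _ c d).trans (hd.trans (map_one _).symm)))
    have := sub_mem (Ideal.mul_mem_right d _ ((mem_maximalIdeal c).mpr hcu)) h1
    rw [sub_sub_cancel] at this
    exact (mem_maximalIdeal _).mp this isUnit_one⟩
  have : (Ideal.span {(p : ℤ)}).IsPrime := isPrime_span_natCast_of_charP (K := ResidueField W) p
  have : CharP (ResidueField C) p := by
    have hC : CharP (ResidueField (C ⧸ J)) p :=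
      charP_of_injective_ringHom (f := ResidueField.map u) (RingHom.injective _) p
    exact ((ResidueField.map (Ideal.Quotient.mk J)).charP_iff (RingHom.injective _) p).mpr hC
  obtain ⟨ι, hι⟩ := exists_primeRing_hom.{u} p W
  obtain ⟨κ, hκ⟩ := exists_primeRing_hom.{u} p C
  let : Algebra (PrimeRing.{u} p) W := ι.toAlgebra
  let : Algebra (PrimeRing.{u} p) C := κ.toAlgebra
  have : IsLocalHom (algebraMap (PrimeRing.{u} p) W) := hι
  have huP : ∀ x : PrimeRing.{u} p, u (algebraMap (PrimeRing.{u} p) W x) = Ideal.Quotient.mk J (algebraMap _ C x) := fun x => by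
    have hP : ∀ f g : PrimeRing.{u} p →+* C ⧸ J, f = g := fun f g => by
      have h := IsLocalization.ringHom_ext (Ideal.span {(p : ℤ)}).primeCompl
        (j := f.comp (ULift.ringEquiv (R := primeLocalRing p)).symm.toRingHom)
        (k := g.comp (ULift.ringEquiv (R := primeLocalRing p)).symm.toRingHom) (RingHom.ext_int _ _)
      exact RingHom.ext fun y => RingHom.congr_fun h y.down
    exact RingHom.congr_fun (hP (u.comp (algebraMap _ W)) ((Ideal.Quotient.mk J).comp (algebraMap _ C))) x
  let u' : W →ₐ[PrimeRing.{u} p] C ⧸ J := { u with commutes' := huP }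
  have hFS := isFormallySmoothAdic_of_cohenAlgebra (isCohenAlgebra_primeRing p hWN hWc hm)
  have hmaxmap : (maximalIdeal C).map (Ideal.Quotient.mk J) = maximalIdeal (C ⧸ J) := by
    refine le_antisymm (Ideal.map_le_iff_le_comap.mpr fun c hc => (mem_maximalIdeal _).mpr fun hu =>
      (mem_maximalIdeal _).mp hc (isUnit_of_map_unit _ _ hu)) fun x hx => ?_
    obtain ⟨c, rfl⟩ := Ideal.Quotient.mk_surjective x
    exact Ideal.mem_map_of_mem _ ((mem_maximalIdeal _).mpr fun hu => (mem_maximalIdeal _).mp hx (hu.map _))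
  have : IsNoetherianRing (C ⧸ J) := inferInstance
  have : IsHausdorff ((maximalIdeal C).map (Ideal.Quotient.mk J)) (C ⧸ J) := by
    rw [hmaxmap]; exact IsHausdorff.of_isLocalRing _ _ (maximalIdeal.isMaximal _).ne_top
  have hAC : ∃ k : ℕ, ((maximalIdeal (PrimeRing.{u} p)) ^ k).map (algebraMap _ C) ≤ maximalIdeal C := ⟨1, by
    rw [pow_one]
    exact ((local_hom_TFAE κ).out 0 2).mp hκ⟩
  obtain ⟨v, ⟨k, hk⟩, hv⟩ := FSAdic12.lift_to_complete (maximalIdeal (PrimeRing.{u} p)) (maximalIdeal W) (maximalIdeal C)
    hFS hAC J ⟨1, by rwa [pow_one]⟩ u' ⟨1, by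
      rw [pow_one, hmaxmap]
      exact ((local_hom_TFAE u).out 0 2).mp ‹_›⟩
  refine ⟨v.toRingHom, ((local_hom_TFAE v.toRingHom).out 2 0).mp ?_, RingHom.ext fun w => AlgHom.congr_fun hv w⟩
  rw [Ideal.map_le_iff_le_comap]
  intro a ha
  have h1 := hk (Ideal.mem_map_of_mem _ (Ideal.pow_mem_pow ha k))
  rw [map_pow] at h1
  exact (maximalIdeal.isMaximal C).isPrime.mem_of_pow_mem k h1

end Groth.Agent.Cohen12
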