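import Groth.Agent.CAlg6.CompleteSurj
import Groth.Agent.CAlg1.Complete
import Groth.Agent.CAlg1.Regular
import Groth.Agent.FSPow12.Basic
import Groth.Agent.Cohen12.CohenLift
import Mathlib.RingTheory.AdicCompletion.Topology

/-!
# Power series rings over Cohen rings
-/

set_option autoImplicit false
set_option maxHeartbeats 800000

universe u

open IsLocalRing

namespace Groth.Agent.Cohen12

variable {W : Type u} [CommRing W] [IsLocalRing W] (n : ℕ)

omit [IsLocalRing W] in
theorem isLocalHom_constantCoeff :
    IsLocalHom (MvPowerSeries.constantCoeff : MvPowerSeries (Fin n) W →+* W) :=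
  ⟨fun _ hf => MvPowerSeries.isUnit_iff_constantCoeff.2 hf⟩

theorem mem_maximalIdeal_powerSeries {f : MvPowerSeries (Fin n) W} :
    f ∈ maximalIdeal (MvPowerSeries (Fin n) W) ↔ MvPowerSeries.constantCoeff f ∈ maximalIdeal W := by
  rw [mem_maximalIdeal, mem_maximalIdeal, mem_nonunits_iff, mem_nonunits_iff,
    MvPowerSeries.isUnit_iff_constantCoeff]

theorem maximalIdeal_powerSeries :
    maximalIdeal (MvPowerSeries (Fin n) W) =
      (maximalIdeal W).map (MvPowerSeries.C : W →+* MvPowerSeries (Fin n) W) ⊔
        Ideal.span (Set.range MvPowerSeries.X) := by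
  refine le_antisymm (fun f hf => ?_) (sup_le (Ideal.map_le_iff_le_comap.mpr fun a ha => ?_) (Ideal.span_le.mpr ?_))
  · rw [← sub_add_cancel f (MvPowerSeries.C (MvPowerSeries.constantCoeff f))]
    refine add_mem (Submodule.mem_sup_right (FSPow12.mem_span_X (by simp)))
      (Submodule.mem_sup_left (Ideal.mem_map_of_mem _ ((mem_maximalIdeal_powerSeries n).mp hf)))
  · rw [Ideal.mem_comap, mem_maximalIdeal_powerSeries]
    simpa using ha
  · rintro _ ⟨i, rfl⟩
    rw [SetLike.mem_coe, mem_maximalIdeal_powerSeries, MvPowerSeries.constantCoeff_X]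
    exact zero_mem _

/-- `W[[T]]/(T) ≅ W`. -/
noncomputable def quotXEquiv (W : Type u) [CommRing W] (n : ℕ) :
    (MvPowerSeries (Fin n) W ⧸ Ideal.span (Set.range (MvPowerSeries.X : Fin n → MvPowerSeries (Fin n) W))) ≃+* W :=
  (Ideal.quotEquivOfEq (FSPow12.ker_constantCoeff (A := W) (n := n)).symm).trans
    (RingHom.quotientKerEquivOfSurjective (fun a => ⟨MvPowerSeries.C a, MvPowerSeries.constantCoeff_C a⟩))

theorem isNoetherianRing_powerSeries (W : Type u) [CommRing W] [IsNoetherianRing W] (n : ℕ) :
    IsNoetherianRing (MvPowerSeries (Fin n) W) := by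
  have : IsNoetherianRing (MvPowerSeries (Fin n) W ⧸ Ideal.span (Set.range MvPowerSeries.X)) :=
    isNoetherianRing_of_ringEquiv W (quotXEquiv W n).symm
  exact CAlg1.isNoetherianRing_of_isAdicComplete (Ideal.span (Set.range MvPowerSeries.X))
    (Submodule.fg_span (Set.finite_range _))

theorem isAdicComplete_powerSeries [IsNoetherianRing W] [IsAdicComplete (maximalIdeal W) W] :
    IsAdicComplete (maximalIdeal (MvPowerSeries (Fin n) W)) (MvPowerSeries (Fin n) W) := by
  have := isNoetherianRing_powerSeries W n
  let I : Ideal (MvPowerSeries (Fin n) W) := Ideal.span (Set.range MvPowerSeries.X)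
  have : IsAdicComplete I (MvPowerSeries (Fin n) W) := inferInstance
  let e := quotXEquiv W n
  have : IsAdicComplete ((maximalIdeal (MvPowerSeries (Fin n) W)).map (Ideal.Quotient.mk I)) (MvPowerSeries (Fin n) W ⧸ I) := by
    rw [← IsAdicComplete.congr_ringEquiv _ e]
    have h : ((maximalIdeal (MvPowerSeries (Fin n) W)).map (Ideal.Quotient.mk I)).map (e : _ →+* W) = maximalIdeal W := by
      rw [Ideal.map_map]
      refine le_antisymm (Ideal.map_le_iff_le_comap.mpr fun f hf => (mem_maximalIdeal_powerSeries n).mp hf) fun a ha => ?_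
      have h1 : (MvPowerSeries.C a : MvPowerSeries (Fin n) W) ∈ maximalIdeal _ :=
        (mem_maximalIdeal_powerSeries n).mpr (by simpa using ha)
      have h2 := Ideal.mem_map_of_mem ((e : _ →+* W).comp (Ideal.Quotient.mk I)) h1
      exact (MvPowerSeries.constantCoeff_C (σ := Fin n) a) ▸ h2
    exact h.symm ▸ ‹IsAdicComplete (maximalIdeal W) W›
  exact CAlg1.isAdicComplete_of_isAdicComplete_quotient I _

open Classical in
/-- Structure of `W[[T]]` for a complete local principal ideal domain `W` with maximal ideal `(π)`. -/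
theorem regular_powerSeries [IsDomain W] [IsPrincipalIdealRing W] [IsAdicComplete (maximalIdeal W) W] (π : W)
    (hπ : maximalIdeal W = Ideal.span {π}) :
    IsRegularLocalRing (MvPowerSeries (Fin n) W) ∧
      ringKrullDim (MvPowerSeries (Fin n) W) = ((n + if π = 0 then 0 else 1 : ℕ) : WithBot ℕ∞) := by
  classical
  have := isNoetherianRing_powerSeries W n
  let R := MvPowerSeries (Fin n) W
  let d := n + if π = 0 then 0 else 1
  have hgen : (maximalIdeal R).spanFinrank ≤ d := by
    let s : Finset R := Finset.univ.image MvPowerSeries.X ∪ (if π = 0 then ∅ else {MvPowerSeries.C π})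
    have hs : maximalIdeal R = Ideal.span (s : Set R) := by
      rw [maximalIdeal_powerSeries, hπ, Ideal.map_span, Set.image_singleton, Finset.coe_union, Ideal.span_union, sup_comm]
      congr 1
      · simp
        rfl
      · split_ifs with h <;> simp [h] <;> rfl
    rw [hs]
    refine (Submodule.spanFinrank_span_le_ncard_of_finite s.finite_toSet).trans ?_
    rw [Set.ncard_coe_finset]
    refine (Finset.card_union_le _ _).trans (Nat.add_le_add (Finset.card_image_le.trans (by simp)) ?_)
    split_ifs <;> simp
  have hdim : ((d : ℕ) : WithBot ℕ∞) ≤ ringKrullDim R := by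
    let K := ResidueField W
    let f : R →+* MvPowerSeries (Fin n) K := MvPowerSeries.map (residue W)
    have hf : Function.Surjective f := fun g => ⟨fun i => Function.surjInv residue_surjective (g i),
      MvPowerSeries.ext fun i => by rw [MvPowerSeries.coeff_map]; exact Function.surjInv_eq residue_surjective _⟩
    have h1 : ((n : ℕ) : WithBot ℕ∞) ≤ ringKrullDim (MvPowerSeries (Fin n) K) := CAlg6.le_ringKrullDim
    by_cases h : π = 0
    · simp only [d, if_pos h, add_zero]
      exact h1.trans (ringKrullDim_le_of_surjective f hf)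
    · simp only [d, if_neg h]
      have : IsDomain R := NoZeroDivisors.to_isDomain R
      let I : Ideal R := Ideal.span {MvPowerSeries.C π}
      have hI : I ≠ ⊥ := by
        rw [Ne, Ideal.span_singleton_eq_bot]
        exact fun h0 => h (MvPowerSeries.C_injective (h0.trans (map_zero _).symm))
      have hfI : ∀ x ∈ I, f x = 0 := by
        intro x hx
        obtain ⟨y, rfl⟩ := Ideal.mem_span_singleton'.mp hx
        rw [map_mul, show f (MvPowerSeries.C π) = MvPowerSeries.C (residue W π) from MvPowerSeries.map_C _ _,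
          (residue_eq_zero_iff π).mpr (hπ ▸ Ideal.mem_span_singleton_self π), map_zero, mul_zero]
      have h2 := ringKrullDim_le_of_surjective (Ideal.Quotient.lift I f hfI)
        (Ideal.Quotient.lift_surjective_of_surjective I hfI hf)
      refine le_trans ?_ (CAlg1.ringKrullDim_quotient_succ_le_of_domain hI)
      rw [Nat.cast_add, Nat.cast_one]
      exact add_le_add (h1.trans h2) le_rfl
  have hreg : IsRegularLocalRing R :=
    IsRegularLocalRing.of_spanFinrank_maximalIdeal_le R ((Nat.cast_le.mpr hgen).trans hdim)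
  refine ⟨hreg, le_antisymm ?_ hdim⟩
  rw [← IsRegularLocalRing.spanFinrank_maximalIdeal (R := R)]
  exact Nat.cast_le.mpr hgen

theorem regular_powerSeries_cohen (hW : EGA41.IsCohenRingEGA W) :
    IsRegularLocalRing (MvPowerSeries (Fin n) W) ∧
      IsAdicComplete (maximalIdeal (MvPowerSeries (Fin n) W)) (MvPowerSeries (Fin n) W) ∧
      ∀ p : ℕ, CharP (ResidueField W) p →
        ringKrullDim (MvPowerSeries (Fin n) W) = ((n + if p = 0 then 0 else 1 : ℕ) : WithBot ℕ∞) := by
  obtain ⟨hN, hc, hd, h0, p, hp, hm⟩ := cohen_struct hW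
  have : IsPrincipalIdealRing W :=
    ((tfae_of_isNoetherianRing_of_isLocalRing_of_isDomain W).out 4 0).mp (⟨⟨(p : W), hm⟩⟩ : (maximalIdeal W).IsPrincipal)
  obtain ⟨h1, h2⟩ := regular_powerSeries n (p : W) hm
  refine ⟨h1, isAdicComplete_powerSeries n, fun q hq => ?_⟩
  rw [h2, CharP.eq (ResidueField W) hq hp]
  by_cases h : p = 0
  · subst h; simp
  · rw [if_neg (Nat.cast_ne_zero.mpr h), if_neg h]

end Groth.Agent.Cohen12
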