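import Groth.Agent.Helper62.FlatNil
import Groth.Agent.CAlg6.CompleteSurj

/-!
# Isomorphisms of flat algebras detected on the closed fibre
-/

set_option autoImplicit false

universe u

open IsLocalRing

namespace Groth.Agent.Cohen12

theorem bijective_of_flat_fibre {A B B' : Type u} [CommRing A] [IsLocalRing A] [CommRing B] [IsLocalRing B]
    [IsNoetherianRing B] [IsAdicComplete (maximalIdeal B) B] [CommRing B'] [IsLocalRing B'] [IsNoetherianRing B']
    [Algebra A B] [Algebra A B'] [IsLocalHom (algebraMap A B)] [IsLocalHom (algebraMap A B')] [Module.Flat A B']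
    (f : B →ₐ[A] B') [IsLocalHom f.toRingHom]
    (hsurj : ∀ y : B', ∃ x : B, y - f x ∈ (maximalIdeal A).map (algebraMap A B'))
    (hinj : ∀ x : B, f x ∈ (maximalIdeal A).map (algebraMap A B') → x ∈ (maximalIdeal A).map (algebraMap A B)) :
    Function.Bijective f := by
  let m := maximalIdeal A
  have hmB : m.map (algebraMap A B) ≤ maximalIdeal B := ((local_hom_TFAE (algebraMap A B)).out 0 2).mp ‹_›
  have hmB' : m.map (algebraMap A B') ≤ maximalIdeal B' := ((local_hom_TFAE (algebraMap A B')).out 0 2).mp ‹_›
  have hfm : (maximalIdeal B).map f.toRingHom ≤ maximalIdeal B' := ((local_hom_TFAE f.toRingHom).out 0 2).mp ‹_›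
  have hmf : m.map (algebraMap A B') ≤ (maximalIdeal B).map f.toRingHom := by
    rw [← f.comp_algebraMap, ← Ideal.map_map]
    exact Ideal.map_mono hmB
  have hs : Function.Surjective f := by
    refine CAlg6.surjective_of_cotangent f.toRingHom hfm (fun z => ?_) fun y hy => ?_
    · obtain ⟨y, rfl⟩ := residue_surjective z
      obtain ⟨x, hx⟩ := hsurj y
      refine ⟨x, ?_⟩
      rw [RingHom.comp_apply, eq_comm, ← sub_eq_zero, ← map_sub, residue_eq_zero_iff]
      exact hmB' hx
    · obtain ⟨x, hx⟩ := hsurj y
      refine Submodule.mem_sup_left ?_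
      rw [← sub_add_cancel y (f x)]
      refine add_mem (hmf hx) (Ideal.mem_map_of_mem f.toRingHom ((mem_maximalIdeal _).mpr fun hu => ?_))
      have h1 := sub_mem hy (hmB' hx)
      rw [sub_sub_cancel] at h1
      exact (mem_maximalIdeal _).mp h1 (hu.map f)
  refine ⟨(injective_iff_map_eq_zero f).mpr fun x hx => ?_, hs⟩
  let K : Ideal B := RingHom.ker f.toRingHom
  have hK : K ≤ maximalIdeal B • K := by
    intro y hy
    have h1 : y ∈ (m.map (algebraMap A B)).restrictScalars A := hinj y (by
      rw [show f y = 0 from hy]; exact zero_mem _)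
    rw [← Ideal.smul_top_eq_map] at h1
    have h2 := FlatNil62.mem_smul_of_flat_range f.toLinearMap hs m (show y ∈ LinearMap.ker f.toLinearMap from hy) h1
    refine Submodule.smul_induction_on h2 (fun a ha z hz => ?_) (fun _ _ => add_mem)
    rw [← algebraMap_smul B a z]
    exact Submodule.smul_mem_smul (hmB (Ideal.mem_map_of_mem _ ha)) hz
  have hK0 : K = ⊥ := Submodule.eq_bot_of_le_smul_of_le_jacobson_bot (maximalIdeal B) K
    (IsNoetherian.noetherian _) hK (IsLocalRing.maximalIdeal_le_jacobson _)
  exact (Submodule.mem_bot B).mp (hK0 ▸ hx : x ∈ (⊥ : Ideal B))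

end Groth.Agent.Cohen12
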