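import Groth.Agent.Cohen12.FlatFS
import Groth.Agent.Cohen12.FlatLift
import Groth.Agent.Cohen12.FlatIso
import Groth.Agent.Cohen12.Fibre
import Groth.Agent.FSAdic12.LiftComplete

/-!
# Lifting formally smooth algebras along quotients
-/

set_option autoImplicit false
set_option maxHeartbeats 800000

universe u

open IsLocalRing TensorProduct

namespace Groth.Agent.Cohen12

/-- The closed fibre of a formally smooth algebra is formally smooth. -/
theorem formallySmooth_fibre {A A₀ B B₀ : Type u} [CommRing A] [IsLocalRing A] [CommRing A₀] [IsLocalRing A₀]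
    [CommRing B] [IsLocalRing B] [CommRing B₀] [IsLocalRing B₀] [Algebra A A₀] [Algebra A B] [Algebra A₀ B₀]
    (hA₀ : Function.Surjective (algebraMap A A₀)) (π : B →+* B₀) (hπ : Function.Surjective π)
    (hker : RingHom.ker π ≤ (maximalIdeal A).map (algebraMap A B))
    (hcomm : ∀ a, π (algebraMap A B a) = algebraMap A₀ B₀ (algebraMap A A₀ a))
    (hfs : EGA41.IsFormallySmoothAdic A₀ (maximalIdeal A₀) B₀ (maximalIdeal B₀)) :
    CAlgX.IsAdicFormallySmooth (A ⧸ maximalIdeal A) (B ⧸ (maximalIdeal A).map (algebraMap A B))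
      ((maximalIdeal B).map (Ideal.Quotient.mk ((maximalIdeal A).map (algebraMap A B)))) := by
  have : IsLocalHom (algebraMap A A₀) := IsLocalHom.of_surjective _ hA₀
  have hm : maximalIdeal A₀ ≤ (maximalIdeal A).map (algebraMap A A₀) := fun x hx => by
    obtain ⟨a, rfl⟩ := hA₀ x
    exact Ideal.mem_map_of_mem _ ((mem_maximalIdeal _).mpr fun hu => (mem_maximalIdeal _).mp hx (hu.map _))
  have hk : RingHom.ker (algebraMap A A₀) ≤ maximalIdeal A := le_maximalIdeal (RingHom.ker_ne_top _)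
  intro C _ _ J hJ ψ hψ
  obtain ⟨N, hN⟩ := hψ
  let c₀ : A₀ →+* C := (algebraMap (A ⧸ maximalIdeal A) C).comp
    ((Ideal.Quotient.factor hk).comp (RingHom.quotientKerEquivOfSurjective hA₀).symm.toRingHom)
  have hc₀ : ∀ a, c₀ (algebraMap A A₀ a) = algebraMap (A ⧸ maximalIdeal A) C (Ideal.Quotient.mk _ a) := fun a => by
    show algebraMap (A ⧸ maximalIdeal A) C (Ideal.Quotient.factor hk ((RingHom.quotientKerEquivOfSurjective hA₀).symm (algebraMap A A₀ a))) = _
    rw [show (RingHom.quotientKerEquivOfSurjective hA₀).symm (algebraMap A A₀ a) = Ideal.Quotient.mk _ a from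
      (RingEquiv.symm_apply_eq _).mpr rfl]
    rfl
  let : Algebra A₀ C := c₀.toAlgebra
  let M := (maximalIdeal A).map (algebraMap A B)
  let u : B →+* C ⧸ J := ψ.toRingHom.comp (Ideal.Quotient.mk M)
  have hu : ∀ x ∈ RingHom.ker π, u x = 0 := fun x hx => by
    show ψ (Ideal.Quotient.mk M x) = 0
    rw [Ideal.Quotient.eq_zero_iff_mem.mpr (hker hx), map_zero]
  let eπ := RingHom.quotientKerEquivOfSurjective hπ
  let u₀' : B₀ →+* C ⧸ J := (Ideal.Quotient.lift (RingHom.ker π) u hu).comp eπ.symm.toRingHom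
  have hu₀ : ∀ b, u₀' (π b) = u b := fun b => by
    show Ideal.Quotient.lift (RingHom.ker π) u hu (eπ.symm (π b)) = u b
    rw [show eπ.symm (π b) = Ideal.Quotient.mk _ b from eπ.symm_apply_eq.mpr rfl]
    rfl
  let u₀ : B₀ →ₐ[A₀] C ⧸ J :=
    { u₀' with
      commutes' := fun x => by
        obtain ⟨a, rfl⟩ := hA₀ x
        show u₀' _ = _
        rw [← hcomm, hu₀]
        show ψ (algebraMap (A ⧸ maximalIdeal A) (B ⧸ M) (Ideal.Quotient.mk _ a)) = Ideal.Quotient.mk J (c₀ (algebraMap A A₀ a))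
        rw [AlgHom.commutes, hc₀]
        rfl }
  obtain ⟨v, hv⟩ := hfs C J ⟨2, hJ⟩ ⟨1, by
    rw [pow_one, eq_bot_iff, Ideal.map_le_iff_le_comap]
    intro x hx
    have : x ∈ (maximalIdeal A).map (algebraMap A A₀) := hm hx
    rw [Ideal.mem_map_iff_of_surjective _ hA₀] at this
    obtain ⟨a, ha, rfl⟩ := this
    show c₀ (algebraMap A A₀ a) ∈ (⊥ : Ideal C)
    rw [hc₀, Ideal.Quotient.eq_zero_iff_mem.mpr ha, map_zero]
    exact zero_mem _⟩ u₀ ⟨N, fun x hx => by
    have hsurjm : maximalIdeal B₀ ≤ (maximalIdeal B).map π := fun y hy => by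
      obtain ⟨b, rfl⟩ := hπ y
      exact Ideal.mem_map_of_mem _ ((mem_maximalIdeal _).mpr fun hu' => (mem_maximalIdeal _).mp hy (hu'.map π))
    have h1 : x ∈ (maximalIdeal B ^ N).map π := by
      rw [Ideal.map_pow]; exact Ideal.pow_right_mono hsurjm N hx
    rw [Ideal.mem_map_iff_of_surjective _ hπ] at h1
    obtain ⟨b, hb, rfl⟩ := h1
    show u₀' (π b) = 0
    rw [hu₀]
    exact hN _ (by rw [← Ideal.map_pow]; exact Ideal.mem_map_of_mem _ hb)⟩
  have hvM : ∀ x ∈ M, v (π x) = 0 := by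
    intro x hx
    have : M ≤ RingHom.ker (v.toRingHom.comp π) := by
      rw [Ideal.map_le_iff_le_comap]
      intro a ha
      show v (π (algebraMap A B a)) = 0
      rw [hcomm, AlgHom.commutes]
      show c₀ (algebraMap A A₀ a) = 0
      rw [hc₀, Ideal.Quotient.eq_zero_iff_mem.mpr ha, map_zero]
    exact this hx
  let χ : (B ⧸ M) →ₐ[A ⧸ maximalIdeal A] C :=
    { Ideal.Quotient.lift M (v.toRingHom.comp π) hvM with
      commutes' := fun x => by
        obtain ⟨a, rfl⟩ := Ideal.Quotient.mk_surjective x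
        show v (π (algebraMap A B a)) = _
        rw [hcomm, AlgHom.commutes]
        exact hc₀ a }
  refine ⟨χ, AlgHom.ext fun x => ?_⟩
  obtain ⟨b, rfl⟩ := Ideal.Quotient.mk_surjective x
  exact (AlgHom.congr_fun hv (π b)).trans (hu₀ b)

theorem ker_includeRight {A B : Type u} [CommRing A] [CommRing B] [Algebra A B] (J : Ideal A) :
    RingHom.ker ((Algebra.TensorProduct.includeRight : B →ₐ[A] (A ⧸ J) ⊗[A] B) : B →+* (A ⧸ J) ⊗[A] B) =
      J.map (algebraMap A B) := by
  obtain ⟨θ, hθ⟩ := exists_fibre_equiv (A₀ := A ⧸ J) (B₀ := B ⧸ J.map (algebraMap A B))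
    Ideal.Quotient.mk_surjective (Ideal.Quotient.mk (J.map (algebraMap A B))) Ideal.Quotient.mk_surjective
    (by rw [Ideal.mk_ker, Ideal.Quotient.algebraMap_eq, Ideal.mk_ker]) (fun a => rfl)
  ext b
  rw [RingHom.mem_ker, ← θ.injective.eq_iff, map_zero]
  show θ ((1 : A ⧸ J) ⊗ₜ[A] b) = 0 ↔ _
  rw [hθ]
  exact Ideal.Quotient.eq_zero_iff_mem

variable {A : Type u} [CommRing A] [IsLocalRing A] [IsNoetherianRing A] {J : Ideal A} [IsLocalRing (A ⧸ J)]
  {B₀ : Type u} [CommRing B₀] [IsLocalRing B₀] [IsNoetherianRing B₀]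
  [Algebra (A ⧸ J) B₀] [IsLocalHom (algebraMap (A ⧸ J) B₀)]

theorem exists_deformation [IsAdicComplete (maximalIdeal B₀) B₀] (hJ : J ≤ maximalIdeal A)
    (hfs : EGA41.IsFormallySmoothAdic (A ⧸ J) (maximalIdeal (A ⧸ J)) B₀ (maximalIdeal B₀)) :
    ∃ (B : Type u) (_ : CommRing B) (_ : IsLocalRing B) (_ : IsNoetherianRing B) (_ : Algebra A B)
      (_ : IsLocalHom (algebraMap A B)),
      IsAdicComplete (maximalIdeal B) B ∧ Module.Flat A B ∧ Nonempty ((A ⧸ J) ⊗[A] B ≃ₐ[A ⧸ J] B₀) := by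
  let m₀ := maximalIdeal (A ⧸ J)
  have hm₀ : m₀.map (algebraMap (A ⧸ J) B₀) ≤ maximalIdeal B₀ :=
    ((local_hom_TFAE (algebraMap (A ⧸ J) B₀)).out 0 2).mp ‹_›
  let Bb := B₀ ⧸ m₀.map (algebraMap (A ⧸ J) B₀)
  have : Nontrivial Bb := Ideal.Quotient.nontrivial_iff.mpr fun ht =>
    (maximalIdeal.isMaximal B₀).ne_top (top_le_iff.mp (ht ▸ hm₀))
  have : IsLocalRing Bb := IsLocalRing.of_surjective' (Ideal.Quotient.mk _) Ideal.Quotient.mk_surjective
  have : IsLocalHom (Ideal.Quotient.mk (m₀.map (algebraMap (A ⧸ J) B₀))) :=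
    IsLocalHom.of_surjective _ Ideal.Quotient.mk_surjective
  have hmb : (maximalIdeal B₀).map (Ideal.Quotient.mk (m₀.map (algebraMap (A ⧸ J) B₀))) = maximalIdeal Bb := by
    refine le_antisymm (Ideal.map_le_iff_le_comap.mpr fun b hb => map_nonunit _ b hb) fun x hx => ?_
    obtain ⟨b, rfl⟩ := Ideal.Quotient.mk_surjective x
    exact Ideal.mem_map_of_mem _ ((mem_maximalIdeal _).mpr fun hu => (mem_maximalIdeal _).mp hx (hu.map _))
  have hFSb := formallySmooth_fibre (A := A ⧸ J) (A₀ := A ⧸ J) (B := B₀) (B₀ := B₀) (fun x => ⟨x, rfl⟩)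
    (RingHom.id B₀) Function.surjective_id
    (by rw [(RingHom.injective_iff_ker_eq_bot (RingHom.id B₀)).mp Function.injective_id]; exact bot_le)
    (fun a => rfl) hfs
  let : Field ((A ⧸ J) ⧸ m₀) := Ideal.Quotient.field _
  have hreg : IsRegularLocalRing Bb :=
    (regular_of_formallySmooth_field (k := (A ⧸ J) ⧸ m₀) (A := Bb) (hmb ▸ hFSb)).1
  have : IsAdicComplete (maximalIdeal Bb) Bb := isAdicComplete_quotient _
  have : IsLocalHom (Ideal.Quotient.mk J) := IsLocalHom.of_surjective _ Ideal.Quotient.mk_surjective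
  let c₀ : ResidueField A →+* Bb := Ideal.Quotient.lift (maximalIdeal A)
    ((Ideal.Quotient.mk _).comp ((algebraMap (A ⧸ J) B₀).comp (Ideal.Quotient.mk J))) fun a ha =>
      Ideal.Quotient.eq_zero_iff_mem.mpr (Ideal.mem_map_of_mem _ (map_nonunit _ a ha))
  obtain ⟨B, _, _, hBN, f, π, hf, hc, hflat, hπ, hker, hcomm⟩ := exists_flat_lift Bb c₀
  let : Algebra A B := f.toAlgebra
  have : IsLocalHom (algebraMap A B) := hf
  have hflat' : Module.Flat A B := hflat
  refine ⟨B, inferInstance, inferInstance, hBN, inferInstance, inferInstance, hc, hflat', ?_⟩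
  let C := B ⧸ J.map (algebraMap A B)
  have hJB : J.map (algebraMap A B) ≤ RingHom.ker π := by rw [hker]; exact Ideal.map_mono hJ
  have : Nontrivial C := Ideal.Quotient.nontrivial_iff.mpr fun ht => (RingHom.ker_ne_top π) (top_le_iff.mp (ht ▸ hJB))
  have : IsLocalRing C := IsLocalRing.of_surjective' (Ideal.Quotient.mk _) Ideal.Quotient.mk_surjective
  have : IsAdicComplete (maximalIdeal C) C := isAdicComplete_quotient _
  have hCflat : Module.Flat (A ⧸ J) C := RingHom.flat_algebraMap_iff.mp (flat_quotient_algebraMap J)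
  let πb : C →+* Bb := Ideal.Quotient.lift _ π hJB
  have hπb : Function.Surjective πb := Ideal.Quotient.lift_surjective_of_surjective _ hJB hπ
  have hkerb : RingHom.ker πb = m₀.map (algebraMap (A ⧸ J) C) := by
    have hm : m₀ = (maximalIdeal A).map (Ideal.Quotient.mk J) := by
      refine le_antisymm (fun x hx => ?_) (Ideal.map_le_iff_le_comap.mpr fun a ha => map_nonunit _ a ha)
      obtain ⟨a, rfl⟩ := Ideal.Quotient.mk_surjective x
      exact Ideal.mem_map_of_mem _ ((mem_maximalIdeal _).mpr fun hu => (mem_maximalIdeal _).mp hx (hu.map _))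
    rw [Ideal.ker_quotient_lift π hJB, hker, hm, Ideal.map_map, Ideal.map_map]
    rfl
  have : Nontrivial (C ⧸ RingHom.ker πb) := Ideal.Quotient.nontrivial_iff.mpr (RingHom.ker_ne_top πb)
  have : IsLocalRing (C ⧸ RingHom.ker πb) := IsLocalRing.of_surjective' (Ideal.Quotient.mk _) Ideal.Quotient.mk_surjective
  let ε := RingHom.quotientKerEquivOfSurjective hπb
  let u : B₀ →ₐ[A ⧸ J] C ⧸ RingHom.ker πb :=
    { ε.symm.toRingHom.comp (Ideal.Quotient.mk (m₀.map (algebraMap (A ⧸ J) B₀))) with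
      commutes' := fun x => by
        obtain ⟨a, rfl⟩ := Ideal.Quotient.mk_surjective x
        show ε.symm (Ideal.Quotient.mk _ (algebraMap (A ⧸ J) B₀ (Ideal.Quotient.mk J a))) = _
        rw [RingEquiv.symm_apply_eq]
        exact (hcomm a).symm }
  have hmC : (maximalIdeal C).map (Ideal.Quotient.mk (RingHom.ker πb)) = maximalIdeal (C ⧸ RingHom.ker πb) := by
    have : IsLocalHom (Ideal.Quotient.mk (RingHom.ker πb)) := IsLocalHom.of_surjective _ Ideal.Quotient.mk_surjective
    refine le_antisymm (Ideal.map_le_iff_le_comap.mpr fun b hb => map_nonunit _ b hb) fun x hx => ?_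
    obtain ⟨b, rfl⟩ := Ideal.Quotient.mk_surjective x
    exact Ideal.mem_map_of_mem _ ((mem_maximalIdeal _).mpr fun hu => (mem_maximalIdeal _).mp hx (hu.map _))
  have : IsHausdorff ((maximalIdeal C).map (Ideal.Quotient.mk (RingHom.ker πb))) (C ⧸ RingHom.ker πb) := by
    rw [hmC]; exact IsHausdorff.of_isLocalRing _ _ (maximalIdeal.isMaximal _).ne_top
  have hmC₀ : m₀.map (algebraMap (A ⧸ J) C) ≤ maximalIdeal C :=
    hkerb ▸ le_maximalIdeal (RingHom.ker_ne_top πb)
  obtain ⟨v, -, hv⟩ := FSAdic12.lift_to_complete m₀ (maximalIdeal B₀) (maximalIdeal C) hfs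
    ⟨1, by rw [pow_one]; exact hmC₀⟩ (RingHom.ker πb)
    ⟨1, by rw [pow_one]; exact le_maximalIdeal (RingHom.ker_ne_top πb)⟩ u ⟨1, by
      rw [pow_one, hmC, Ideal.map_le_iff_le_comap]
      intro b hb
      refine (mem_maximalIdeal _).mpr fun hu => ?_
      have h1 := hu.map ε
      rw [show ε (u.toRingHom b) = Ideal.Quotient.mk _ b from ε.apply_symm_apply _] at h1
      exact (mem_maximalIdeal _).mp (map_nonunit _ b hb) h1⟩
  have hvb : ∀ b, πb (v b) = Ideal.Quotient.mk _ b := fun b => by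
    have h1 : ε (Ideal.Quotient.mk _ (v b)) = ε (u b) := congrArg ε (AlgHom.congr_fun hv b)
    exact h1.trans (ε.apply_symm_apply _)
  have : IsLocalHom (algebraMap (A ⧸ J) C) := ((local_hom_TFAE (algebraMap (A ⧸ J) C)).out 2 0).mp hmC₀
  have : IsLocalHom v.toRingHom := ⟨fun b hb => isUnit_of_map_unit (Ideal.Quotient.mk (m₀.map (algebraMap (A ⧸ J) B₀))) b
    (hvb b ▸ hb.map πb)⟩
  have hbij : Function.Bijective v := by
    refine bijective_of_flat_fibre v (fun y => ?_) fun x hx => ?_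
    · obtain ⟨x, hx⟩ := Ideal.Quotient.mk_surjective (πb y)
      refine ⟨x, ?_⟩
      have h1 : y - v x ∈ RingHom.ker πb := by rw [RingHom.mem_ker, map_sub, hvb, hx, sub_self]
      rwa [hkerb] at h1
    · rw [← Ideal.Quotient.eq_zero_iff_mem, ← hvb]
      exact (RingHom.mem_ker).mp (hkerb ▸ hx)
  let e := AlgEquiv.ofBijective v hbij
  obtain ⟨θ, -⟩ := exists_fibre_equiv (A₀ := A ⧸ J) (B₀ := B₀) Ideal.Quotient.mk_surjective
    (e.symm.toRingEquiv.toRingHom.comp (Ideal.Quotient.mk (J.map (algebraMap A B))))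
    (e.symm.surjective.comp Ideal.Quotient.mk_surjective)
    (by
      rw [Ideal.Quotient.algebraMap_eq, Ideal.mk_ker]
      refine Ideal.ext fun b => ?_
      rw [RingHom.mem_ker, RingHom.comp_apply]
      exact (map_eq_zero_iff _ e.symm.injective).trans Ideal.Quotient.eq_zero_iff_mem)
    (fun a => e.symm.commutes (Ideal.Quotient.mk J a))
  exact ⟨θ⟩

omit [IsNoetherianRing A] [IsNoetherianRing B₀] [IsLocalHom (algebraMap (A ⧸ J) B₀)] in
theorem deformation_unique
    (hfs : EGA41.IsFormallySmoothAdic (A ⧸ J) (maximalIdeal (A ⧸ J)) B₀ (maximalIdeal B₀)) (hJ : J ≤ maximalIdeal A)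
    (B B' : Type u) [CommRing B] [IsLocalRing B] [IsNoetherianRing B] [Algebra A B] [IsLocalHom (algebraMap A B)]
    [CommRing B'] [IsLocalRing B'] [IsNoetherianRing B'] [Algebra A B'] [IsLocalHom (algebraMap A B')]
    [IsAdicComplete (maximalIdeal B) B] [Module.Flat A B] [IsAdicComplete (maximalIdeal B') B'] [Module.Flat A B']
    (u : (A ⧸ J) ⊗[A] B ≃ₐ[A ⧸ J] B₀) (u' : (A ⧸ J) ⊗[A] B' ≃ₐ[A ⧸ J] B₀) :
    ∃ v : B ≃ₐ[A] B', (u' : (A ⧸ J) ⊗[A] B' →ₐ[A ⧸ J] B₀).comp
        (Algebra.TensorProduct.map (AlgHom.id (A ⧸ J) (A ⧸ J)) (v : B →ₐ[A] B')) =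
          (u : (A ⧸ J) ⊗[A] B →ₐ[A ⧸ J] B₀) := by
  let π : B →+* B₀ := u.toRingEquiv.toRingHom.comp (Algebra.TensorProduct.includeRight : B →ₐ[A] (A ⧸ J) ⊗[A] B).toRingHom
  let π' : B' →+* B₀ := u'.toRingEquiv.toRingHom.comp (Algebra.TensorProduct.includeRight : B' →ₐ[A] (A ⧸ J) ⊗[A] B').toRingHom
  have hcomm : ∀ a, π (algebraMap A B a) = algebraMap (A ⧸ J) B₀ (Ideal.Quotient.mk J a) := fun a => by
    show u ((1 : A ⧸ J) ⊗ₜ[A] algebraMap A B a) = _
    rw [Algebra.algebraMap_eq_smul_one, TensorProduct.tmul_smul, TensorProduct.smul_tmul', Algebra.smul_def, mul_one]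
    exact u.commutes _
  have hcomm' : ∀ a, π' (algebraMap A B' a) = algebraMap (A ⧸ J) B₀ (Ideal.Quotient.mk J a) := fun a => by
    show u' ((1 : A ⧸ J) ⊗ₜ[A] algebraMap A B' a) = _
    rw [Algebra.algebraMap_eq_smul_one, TensorProduct.tmul_smul, TensorProduct.smul_tmul', Algebra.smul_def, mul_one]
    exact u'.commutes _
  have hsurj : ∀ (X : Type u) [CommRing X] [Algebra A X], Function.Surjective
      (Algebra.TensorProduct.includeRight : X →ₐ[A] (A ⧸ J) ⊗[A] X) := fun X _ _ z => by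
    induction z with
    | zero => exact ⟨0, map_zero _⟩
    | tmul c b =>
      obtain ⟨a, rfl⟩ := Ideal.Quotient.mk_surjective c
      refine ⟨a • b, ?_⟩
      rw [Algebra.TensorProduct.includeRight_apply, TensorProduct.tmul_smul, TensorProduct.smul_tmul', Algebra.smul_def, mul_one]
      rfl
    | add x y hx hy =>
      obtain ⟨b, rfl⟩ := hx
      obtain ⟨b', rfl⟩ := hy
      exact ⟨b + b', map_add _ _ _⟩
  have hπ : Function.Surjective π := u.surjective.comp (hsurj B)
  have hπ' : Function.Surjective π' := u'.surjective.comp (hsurj B')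
  have hk : RingHom.ker π = J.map (algebraMap A B) := by
    rw [← ker_includeRight J]
    refine Ideal.ext fun b => ?_
    rw [RingHom.mem_ker, RingHom.mem_ker]
    exact map_eq_zero_iff _ u.injective
  have hk' : RingHom.ker π' = J.map (algebraMap A B') := by
    rw [← ker_includeRight J]
    refine Ideal.ext fun b => ?_
    rw [RingHom.mem_ker, RingHom.mem_ker]
    exact map_eq_zero_iff _ u'.injective
  have hFS : EGA41.IsFormallySmoothAdic A (maximalIdeal A) B (maximalIdeal B) :=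
    isFormallySmoothAdic_of_flat_fibre (formallySmooth_fibre (A₀ := A ⧸ J) Ideal.Quotient.mk_surjective π hπ
      (hk ▸ Ideal.map_mono hJ) hcomm hfs)
  let K := RingHom.ker π'
  have : IsLocalHom π' := IsLocalHom.of_surjective π' hπ'
  have : IsLocalHom π := IsLocalHom.of_surjective π hπ
  have : Nontrivial (B' ⧸ K) := Ideal.Quotient.nontrivial_iff.mpr (RingHom.ker_ne_top π')
  have : IsLocalRing (B' ⧸ K) := IsLocalRing.of_surjective' (Ideal.Quotient.mk _) Ideal.Quotient.mk_surjective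
  let ε := RingHom.quotientKerEquivOfSurjective hπ'
  let w : B →ₐ[A] B' ⧸ K :=
    { ε.symm.toRingHom.comp π with
      commutes' := fun a => by
        show ε.symm (π (algebraMap A B a)) = _
        rw [RingEquiv.symm_apply_eq, hcomm]
        exact (hcomm' a).symm }
  have hmC : (maximalIdeal B').map (Ideal.Quotient.mk K) = maximalIdeal (B' ⧸ K) := by
    have : IsLocalHom (Ideal.Quotient.mk K) := IsLocalHom.of_surjective _ Ideal.Quotient.mk_surjective
    refine le_antisymm (Ideal.map_le_iff_le_comap.mpr fun b hb => map_nonunit _ b hb) fun x hx => ?_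
    obtain ⟨b, rfl⟩ := Ideal.Quotient.mk_surjective x
    exact Ideal.mem_map_of_mem _ ((mem_maximalIdeal _).mpr fun hu => (mem_maximalIdeal _).mp hx (hu.map _))
  have : IsHausdorff ((maximalIdeal B').map (Ideal.Quotient.mk K)) (B' ⧸ K) := by
    rw [hmC]; exact IsHausdorff.of_isLocalRing _ _ (maximalIdeal.isMaximal _).ne_top
  obtain ⟨v, -, hv⟩ := FSAdic12.lift_to_complete (maximalIdeal A) (maximalIdeal B) (maximalIdeal B') hFS
    ⟨1, by rw [pow_one]; exact ((local_hom_TFAE (algebraMap A B')).out 0 2).mp ‹_›⟩ K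
    ⟨1, by rw [pow_one]; exact le_maximalIdeal (RingHom.ker_ne_top π')⟩ w ⟨1, by
      rw [pow_one, hmC, Ideal.map_le_iff_le_comap]
      intro b hb
      refine (mem_maximalIdeal _).mpr fun hu => ?_
      have h1 := hu.map ε
      rw [show ε (w.toRingHom b) = π b from ε.apply_symm_apply _] at h1
      exact (mem_maximalIdeal _).mp hb (isUnit_of_map_unit π b h1)⟩
  have hvb : ∀ b, π' (v b) = π b := fun b => by
    have h1 : ε (Ideal.Quotient.mk _ (v b)) = ε (w b) := congrArg ε (AlgHom.congr_fun hv b)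
    exact h1.trans (ε.apply_symm_apply _)
  have : IsLocalHom v.toRingHom := ⟨fun b hb => isUnit_of_map_unit π b (hvb b ▸ hb.map π')⟩
  have hbij : Function.Bijective v := by
    refine bijective_of_flat_fibre v (fun y => ?_) fun x hx => ?_
    · obtain ⟨x, hx⟩ := hπ (π' y)
      refine ⟨x, Ideal.map_mono hJ ?_⟩
      rw [← hk', RingHom.mem_ker, map_sub, hvb, hx, sub_self]
    · -- push the membership forward to `B₀` and pull it back
      have hmm : ((maximalIdeal A).map (algebraMap A B')).map π' = ((maximalIdeal A).map (algebraMap A B)).map π := by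
        rw [Ideal.map_map, Ideal.map_map]
        congr 1
        exact RingHom.ext fun a => (hcomm' a).trans (hcomm a).symm
      have h1 : π x ∈ ((maximalIdeal A).map (algebraMap A B)).map π := hmm ▸ hvb x ▸ Ideal.mem_map_of_mem π' hx
      rw [← Ideal.mem_comap, Ideal.comap_map_of_surjective' _ hπ, sup_eq_left.mpr (hk ▸ Ideal.map_mono hJ)] at h1
      exact h1
  refine ⟨AlgEquiv.ofBijective v hbij, AlgHom.ext fun z => ?_⟩
  obtain ⟨b, rfl⟩ := hsurj B z
  exact hvb b

end Groth.Agent.Cohen12
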