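import Groth.Prelude
import Groth.Agent.Cohen12.RegularFlat
import Groth.Agent.EGA4H10.NormalFlat
import Groth.Agent.CAlg1.Complete
import Mathlib.RingTheory.AdicCompletion.AsTensorProduct
import Mathlib.RingTheory.AdicCompletion.LocalRing
import Mathlib.RingTheory.Ideal.GoingDown

/-!
# The completion along an ideal `J` and the localization at `1 + J`
-/

set_option autoImplicit false
universe u

namespace Groth.Agent.Cohen12

variable {A : Type u} [CommRing A] [IsNoetherianRing A] (J : Ideal A)

omit [IsNoetherianRing A] in
theorem mem_mker_mk {t : A} : t ∈ MonoidHom.mker (Ideal.Quotient.mk J) ↔ t - 1 ∈ J := by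
  rw [MonoidHom.mem_mker, ← map_one (Ideal.Quotient.mk J), Ideal.Quotient.eq]

/-- Elements of `1 + J` are invertible in the completion. -/
theorem isUnit_algebraMap_completion {t : A} (ht : t ∈ MonoidHom.mker (Ideal.Quotient.mk J)) :
    IsUnit (algebraMap A (AdicCompletion J A) t) := by
  have := AdicCompletion.isAdicComplete_self J (IsNoetherian.noetherian _)
  have h1 : algebraMap A (AdicCompletion J A) (t - 1) ∈ J.map (algebraMap A (AdicCompletion J A)) :=
    Ideal.mem_map_of_mem _ ((mem_mker_mk J).mp ht)
  have h2 := IsAdicComplete.le_jacobson_bot _ h1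
  rw [Ideal.mem_jacobson_bot] at h2
  simpa using h2 1

/-- Primes of the completion contract to primes disjoint from `1 + J`. -/
theorem disjoint_comap (q : Ideal (AdicCompletion J A)) [q.IsPrime] :
    Disjoint (MonoidHom.mker (Ideal.Quotient.mk J) : Set A)
      (q.comap (algebraMap A (AdicCompletion J A)) : Set A) :=
  Set.disjoint_left.mpr fun _ ht htq =>
    Ideal.IsPrime.ne_top ‹q.IsPrime› (Ideal.eq_top_of_isUnit_mem q htq (isUnit_algebraMap_completion J ht))

/-- Every prime disjoint from `1 + J` is the contraction of a prime of the completion. -/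
theorem exists_over_of_disjoint (p : Ideal A) [p.IsPrime]
    (h : Disjoint (MonoidHom.mker (Ideal.Quotient.mk J) : Set A) (p : Set A)) :
    ∃ q : Ideal (AdicCompletion J A), q.IsPrime ∧ q.comap (algebraMap A (AdicCompletion J A)) = p := by
  have hne : p ⊔ J ≠ ⊤ := fun htop => by
    obtain ⟨a, ha, b, hb, hab⟩ := Submodule.mem_sup.mp ((Ideal.eq_top_iff_one _).mp htop)
    refine Set.disjoint_left.mp h ((mem_mker_mk J).mpr ?_) ha
    rw [← hab, sub_add_cancel_left]
    exact neg_mem hb
  obtain ⟨m, hm, hle⟩ := Ideal.exists_le_maximal _ hne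
  have hfg : J.FG := IsNoetherian.noetherian _
  have hmmax := AdicCompletion.isMaximal_map_of_le J m (le_sup_right.trans hle) hfg
  have hcomap : (m.map (algebraMap A (AdicCompletion J A))).comap (algebraMap A (AdicCompletion J A)) = m :=
    (hm.eq_of_le (Ideal.comap_ne_top _ hmmax.ne_top) Ideal.le_comap_map).symm
  have : Module.Flat A (AdicCompletion J A) := AdicCompletion.flat_of_isNoetherian J
  have : (m.map (algebraMap A (AdicCompletion J A))).LiesOver m := ⟨hcomap.symm⟩
  obtain ⟨q, -, hq, hover⟩ := Ideal.exists_ideal_le_liesOver_of_le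
    (p := p) (q := m) (m.map (algebraMap A (AdicCompletion J A))) (le_sup_left.trans hle)
  exact ⟨q, hq, hover.over.symm⟩

omit [IsNoetherianRing A] in
/-- Localizations of `(1 + J)⁻¹ A` at primes are local rings of `A`. -/
theorem exists_localization_equiv (T : Submonoid A) (p : Ideal A) [p.IsPrime]
    (h : Disjoint (T : Set A) (p : Set A)) :
    ∃ (P : Ideal (Localization T)) (_ : P.IsPrime),
      Nonempty (Localization.AtPrime P ≃+* Localization.AtPrime p) := by
  have hP : (p.map (algebraMap A (Localization T))).IsPrime :=
    IsLocalization.isPrime_of_isPrime_disjoint T _ p ‹_› h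
  refine ⟨_, hP, ?_⟩
  have hc : (p.map (algebraMap A (Localization T))).comap (algebraMap A (Localization T)) = p :=
    IsLocalization.under_map_of_isPrime_disjoint T _ ‹_› h
  have key : ∀ (r : Ideal A) [r.IsPrime],
      (p.map (algebraMap A (Localization T))).comap (algebraMap A (Localization T)) = r →
      Nonempty (Localization.AtPrime (p.map (algebraMap A (Localization T))) ≃+* Localization.AtPrime r) := by
    intro r _ hr
    subst hr
    exact ⟨((IsLocalization.localizationLocalizationAtPrimeIsoLocalization T
      (p.map (algebraMap A (Localization T)))).symm).toRingEquiv⟩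
  exact key p hc

omit [IsNoetherianRing A] in
/-- Every prime of `(1 + J)⁻¹ A` comes from a prime of `A` disjoint from `1 + J`. -/
theorem exists_prime_equiv (T : Submonoid A) (P : Ideal (Localization T)) [P.IsPrime] :
    Disjoint (T : Set A) (P.comap (algebraMap A (Localization T)) : Set A) ∧
      Nonempty (Localization.AtPrime P ≃+* Localization.AtPrime (P.comap (algebraMap A (Localization T)))) :=
  ⟨((IsLocalization.isPrime_iff_isPrime_disjoint T (Localization T) P).mp ‹_›).2,
    ⟨((IsLocalization.localizationLocalizationAtPrimeIsoLocalization T P).symm).toRingEquiv⟩⟩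

/-- Regularity is preserved along flat maps with regular fibres. -/
theorem regular_localization_of_flat (A B : Type u) [CommRing A] [CommRing B] [IsNoetherianRing A]
    [IsNoetherianRing B] [Algebra A B] [Module.Flat A B]
    (q : Ideal B) [q.IsPrime] (hfib : IsRegularLocalRing (EGA4.FibLocRing A B q))
    (hA : IsRegularLocalRing (Localization.AtPrime (q.comap (algebraMap A B)))) :
    IsRegularLocalRing (Localization.AtPrime q) := by
  let p := q.comap (algebraMap A B)
  have : q.LiesOver p := ⟨rfl⟩
  let := Localization.AtPrime.algebraOfLiesOver p q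
  let Ap := Localization.AtPrime p
  let L := Localization.AtPrime q
  have : IsNoetherianRing L := IsLocalization.isNoetherianRing q.primeCompl _ inferInstance
  have : IsNoetherianRing Ap := IsLocalization.isNoetherianRing p.primeCompl _ inferInstance
  have : IsLocalHom (algebraMap Ap L) := inferInstance
  have : Module.Flat Ap L := by
    have : Module.Flat A L := Module.Flat.trans A B L
    exact (Module.flat_iff_of_isLocalization Ap p.primeCompl L).mpr this
  have hM : (IsLocalRing.maximalIdeal Ap).map (algebraMap Ap L) = p.map (algebraMap A L) := by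
    rw [← Localization.AtPrime.map_eq_maximalIdeal, Ideal.map_map, ← IsScalarTower.algebraMap_eq]
  let e := Ideal.quotEquivOfEq hM
  have hF : IsRegularLocalRing (L ⧸ (IsLocalRing.maximalIdeal Ap).map (algebraMap Ap L)) :=
    IsRegularLocalRing.of_ringEquiv (R := EGA4.FibLocRing A B q) e.symm
  have : IsLocalRing (L ⧸ (IsLocalRing.maximalIdeal Ap).map (algebraMap Ap L)) := hF.toIsLocalRing
  have h := (regular_flat_tfae (A := Ap) (B := L)).out 1 2 rfl rfl
  exact (h.mpr ⟨hA, hF, inferInstance⟩).1

/-- Geometrically regular fibres have regular local rings. -/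
theorem fibLocRing_regular {A B : Type u} [CommRing A] [CommRing B] [Algebra A B]
    (h : CAlg.IsRegularHom A B) (q : Ideal B) [q.IsPrime] :
    IsRegularLocalRing (EGA4.FibLocRing A B q) := by
  let p := q.comap (algebraMap A B)
  obtain ⟨Q, ⟨e⟩⟩ := EGA4H10.exists_fiber_equiv (A := A) q
  have h1 := (h.2 p).2 p.ResidueField (Module.Finite.self _)
  have h2 : IsRegularRing (p.Fiber B) :=
    IsRegularRing.of_ringEquiv (R := TensorProduct p.ResidueField p.ResidueField (p.Fiber B))
      (Algebra.TensorProduct.lid p.ResidueField (p.Fiber B)).toRingEquiv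
  exact IsRegularLocalRing.of_ringEquiv (R := Localization.AtPrime Q.asIdeal) e

end Groth.Agent.Cohen12
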