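import Mathlib

/-!
# Subalgebras of finite codimension in a product of power series rings
-/

set_option autoImplicit false
universe u
open PowerSeries

namespace Groth.Agent.Cohen12.Branches

variable {k : Type u} [Field k] {s : ℕ}

theorem le_order_iff {f : PowerSeries k} {n : ℕ} :
    (n : ℕ∞) ≤ f.order ↔ (X : PowerSeries k) ^ n ∣ f := by
  rw [X_pow_dvd_iff]
  exact ⟨fun h m hm => coeff_of_lt_order m (lt_of_lt_of_le (by exact_mod_cast hm) h),
    fun h => nat_le_order f n h⟩

theorem eq_mul_isUnit_of_order_eq {f : PowerSeries k} {n : ℕ} (h : f.order = (n : ℕ∞)) :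
    ∃ u : PowerSeries k, IsUnit u ∧ f = X ^ n * u := by
  have hf : f ≠ 0 := by rintro rfl; simp at h
  refine ⟨divXPowOrder f, isUnit_divided_by_X_pow_order hf, ?_⟩
  conv_lhs => rw [← X_pow_order_mul_divXPowOrder (f := f)]
  rw [h, ENat.toNat_natCast]

section Conductor

variable (R : Subalgebra k (Fin s → PowerSeries k)) (c : Fin s → ℕ)
  (hc : ∀ f : Fin s → PowerSeries k,
    (∀ g : Fin s → PowerSeries k, g * f ∈ R) ↔ ∀ i, ((c i : ℕ) : ℕ∞) ≤ (f i).order)

include hc

theorem mem_of_le_order {f : Fin s → PowerSeries k} (h : ∀ i, ((c i : ℕ) : ℕ∞) ≤ (f i).order) :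
    f ∈ R := by
  simpa using (hc f).2 h 1

theorem single_mem (i : Fin s) {q : PowerSeries k} (h : ((c i : ℕ) : ℕ∞) ≤ q.order) :
    Pi.single i q ∈ R :=
  mem_of_le_order R c hc fun j => by
    rcases eq_or_ne j i with rfl | hne
    · simpa using h
    · simp [hne]

/-- an ideal containing elements of the orders `l` contains everything of order `≥ l + c` -/
theorem mem_ideal (J : Ideal ↥R) (l : Fin s → ℕ)
    (hl : ∀ i : Fin s, ∃ f ∈ J, ((f : Fin s → PowerSeries k) i).order = ((l i : ℕ) : ℕ∞))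
    (g : Fin s → PowerSeries k) (hg : ∀ i : Fin s, ((l i + c i : ℕ) : ℕ∞) ≤ (g i).order) :
    ∃ hgR : g ∈ R, (⟨g, hgR⟩ : ↥R) ∈ J := by
  classical
  have key : ∀ i, ∃ h : ↥R, h ∈ J ∧ (h : Fin s → PowerSeries k) = Pi.single i (g i) := by
    intro i
    obtain ⟨f, hf, hord⟩ := hl i
    obtain ⟨u, hu, hfu⟩ := eq_mul_isUnit_of_order_eq hord
    obtain ⟨w, hw⟩ := le_order_iff.1 (hg i)
    obtain ⟨u, rfl⟩ := hu
    have hq : ((c i : ℕ) : ℕ∞) ≤ (X ^ (c i) * w * ((u⁻¹ : (PowerSeries k)ˣ) : PowerSeries k)).order :=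
      le_order_iff.2 ⟨w * ((u⁻¹ : (PowerSeries k)ˣ) : PowerSeries k), by ring⟩
    refine ⟨⟨_, single_mem R c hc i hq⟩ * f, Ideal.mul_mem_left _ _ hf, ?_⟩
    funext j
    rcases eq_or_ne j i with rfl | hne
    · simp only [MulMemClass.coe_mul, Pi.mul_apply, Pi.single_eq_same, hfu, hw, pow_add]
      calc _ = X ^ l j * X ^ c j * w *
            (((u⁻¹ : (PowerSeries k)ˣ) : PowerSeries k) * (u : PowerSeries k)) := by ring
        _ = _ := by simp
    · simp [hne]
  choose h hJ hval using key
  have hsum : ((∑ i, h i : ↥R) : Fin s → PowerSeries k) = g := by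
    simp only [AddSubmonoidClass.coe_finsetSum, hval, Finset.univ_sum_single]
  refine ⟨hsum ▸ (∑ i, h i).2, ?_⟩
  have : (⟨g, hsum ▸ (∑ i, h i).2⟩ : ↥R) = ∑ i, h i := Subtype.ext hsum.symm
  rw [this]
  exact sum_mem fun i _ => hJ i

end Conductor

/-- the branch lengths of an ideal -/
theorem branch_orders (R : Subalgebra k (Fin s → PowerSeries k)) (I : Ideal ↥R) (a : Fin s → ℕ)
    (ha : ∀ i : Fin s, Ideal.map ((Pi.evalAlgHom k (fun _ : Fin s => PowerSeries k) i).comp R.val) I =
      Ideal.span {PowerSeries.X ^ (a i)}) :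
    (∀ f ∈ I, ∀ i : Fin s, ((a i : ℕ) : ℕ∞) ≤ ((f : Fin s → PowerSeries k) i).order) ∧
    ∀ i : Fin s, ∃ f ∈ I, ((f : Fin s → PowerSeries k) i).order = ((a i : ℕ) : ℕ∞) := by
  have hle : ∀ f ∈ I, ∀ i : Fin s, ((a i : ℕ) : ℕ∞) ≤ ((f : Fin s → PowerSeries k) i).order := by
    intro f hf i
    refine le_order_iff.2 (Ideal.mem_span_singleton.1 ?_)
    rw [← ha i]
    exact Ideal.mem_map_of_mem _ hf
  refine ⟨hle, fun i => ?_⟩
  by_contra hne
  push Not at hne
  have h1 : Ideal.map ((Pi.evalAlgHom k (fun _ : Fin s => PowerSeries k) i).comp R.val) I ≤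
      Ideal.span {PowerSeries.X ^ (a i + 1)} := by
    refine Ideal.map_le_iff_le_comap.2 fun f hf => ?_
    refine Ideal.mem_span_singleton.2 (le_order_iff.1 ?_)
    push_cast
    exact Order.add_one_le_of_lt (lt_of_le_of_ne (hle f hf i) (Ne.symm (hne f hf)))
  rw [ha i, Ideal.span_singleton_le_span_singleton, ← le_order_iff, order_X_pow, Nat.cast_le] at h1
  omega

/-- truncation coefficients -/
noncomputable def lowCoeff (a : Fin s → ℕ) :
    (Fin s → PowerSeries k) →ₗ[k] ((i : Fin s) → Fin (a i) → k) :=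
  LinearMap.pi fun i => LinearMap.pi fun n => (coeff (R := k) (n : ℕ)).comp (LinearMap.proj i)

theorem lowCoeff_surjective (a : Fin s → ℕ) : Function.Surjective (lowCoeff (k := k) a) := fun v =>
  ⟨fun i => PowerSeries.mk fun n => if h : n < a i then v i ⟨n, h⟩ else 0, by
    funext i n; simp [lowCoeff]⟩

theorem mem_ker_lowCoeff (a : Fin s → ℕ) (f : Fin s → PowerSeries k) :
    f ∈ LinearMap.ker (lowCoeff (k := k) a) ↔ ∀ i, ((a i : ℕ) : ℕ∞) ≤ (f i).order := by
  simp only [le_order_iff, X_pow_dvd_iff]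
  constructor
  · intro h i m hm
    exact congr_fun (congr_fun (LinearMap.mem_ker.1 h) i) ⟨m, hm⟩
  · intro h
    rw [LinearMap.mem_ker]
    funext i n
    exact h i n n.2

theorem finite_quot_ker (a : Fin s → ℕ) :
    Module.Finite k ((Fin s → PowerSeries k) ⧸ LinearMap.ker (lowCoeff (k := k) a)) :=
  Module.Finite.equiv ((lowCoeff (k := k) a).quotKerEquivOfSurjective (lowCoeff_surjective a)).symm

theorem finrank_quot_ker (a : Fin s → ℕ) :
    Module.finrank k ((Fin s → PowerSeries k) ⧸ LinearMap.ker (lowCoeff (k := k) a)) = ∑ i, a i := by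
  rw [((lowCoeff (k := k) a).quotKerEquivOfSurjective (lowCoeff_surjective a)).finrank_eq,
    Module.finrank_pi_fintype]
  simp

/-- an ideal of `R` as a subspace of the product -/
noncomputable def img (R : Subalgebra k (Fin s → PowerSeries k)) (I : Ideal ↥R) :
    Submodule k (Fin s → PowerSeries k) :=
  (I.restrictScalars k).map R.val.toLinearMap

theorem img_le (R : Subalgebra k (Fin s → PowerSeries k)) (I : Ideal ↥R) :
    img R I ≤ Subalgebra.toSubmodule R := by
  rintro _ ⟨x, -, rfl⟩
  exact x.2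

theorem mem_img {R : Subalgebra k (Fin s → PowerSeries k)} {I : Ideal ↥R}
    {f : Fin s → PowerSeries k} : f ∈ img R I ↔ ∃ h : f ∈ R, (⟨f, h⟩ : ↥R) ∈ I :=
  ⟨by rintro ⟨x, hx, rfl⟩; exact ⟨x.2, hx⟩, fun ⟨_, hI⟩ => ⟨_, hI, rfl⟩⟩

/-- the inclusion `R/I → P/I` -/
noncomputable def quotToImg (R : Subalgebra k (Fin s → PowerSeries k)) (I : Ideal ↥R) :
    (↥R ⧸ I) →ₗ[k] (Fin s → PowerSeries k) ⧸ img R I :=
  Submodule.mapQ _ _ R.val.toLinearMap (Submodule.map_le_iff_le_comap.1 le_rfl) ∘ₗ
    (Submodule.Quotient.restrictScalarsEquiv k I).symm.toLinearMap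

theorem quot_exact (R : Subalgebra k (Fin s → PowerSeries k)) (I : Ideal ↥R) :
    Function.Injective (quotToImg R I) ∧ Function.Surjective (Submodule.factor (img_le R I)) ∧
      Function.Exact (quotToImg R I) (Submodule.factor (img_le R I)) := by
  refine ⟨?_, Submodule.factor_surjective _, ?_⟩
  · rw [injective_iff_map_eq_zero]
    intro z hz
    obtain ⟨x, rfl⟩ := Ideal.Quotient.mk_surjective z
    have hz' : (Submodule.Quotient.mk (x : Fin s → PowerSeries k) :
        (Fin s → PowerSeries k) ⧸ img R I) = 0 := hz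
    obtain ⟨y, hy, hyx⟩ := (Submodule.Quotient.mk_eq_zero _).1 hz'
    rw [← Subtype.ext hyx]
    exact Ideal.Quotient.eq_zero_iff_mem.2 hy
  · intro z
    obtain ⟨x, rfl⟩ := Submodule.Quotient.mk_surjective _ z
    refine (Submodule.Quotient.mk_eq_zero (Subalgebra.toSubmodule R)).trans ?_
    constructor
    · intro hx
      exact ⟨Ideal.Quotient.mk I ⟨x, hx⟩, rfl⟩
    · rintro ⟨w, hw⟩
      obtain ⟨y, rfl⟩ := Ideal.Quotient.mk_surjective w
      have hw' : (Submodule.Quotient.mk (y : Fin s → PowerSeries k) :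
          (Fin s → PowerSeries k) ⧸ img R I) = Submodule.Quotient.mk x := hw
      have := img_le R I ((Submodule.Quotient.eq _).1 hw')
      simpa using sub_mem (y.2 : (y : Fin s → PowerSeries k) ∈ Subalgebra.toSubmodule R) this

theorem finite_img (R : Subalgebra k (Fin s → PowerSeries k))
    (hfin : Module.Finite k ((Fin s → PowerSeries k) ⧸ Subalgebra.toSubmodule R))
    (I : Ideal ↥R) (hI : Module.Finite k (↥R ⧸ I)) :
    Module.Finite k ((Fin s → PowerSeries k) ⧸ img R I) := by
  obtain ⟨-, h2, h3⟩ := quot_exact R I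
  exact Module.Finite.of_exact h3 h2

theorem finite_of_img (R : Subalgebra k (Fin s → PowerSeries k))
    (I : Ideal ↥R) (h : Module.Finite k ((Fin s → PowerSeries k) ⧸ img R I)) :
    Module.Finite k (↥R ⧸ I) :=
  Module.Finite.of_injective _ (quot_exact R I).1

theorem finrank_img (R : Subalgebra k (Fin s → PowerSeries k))
    (I : Ideal ↥R) (h : Module.Finite k ((Fin s → PowerSeries k) ⧸ img R I)) :
    Module.finrank k ((Fin s → PowerSeries k) ⧸ img R I) =
      Module.finrank k (↥R ⧸ I) +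
        Module.finrank k ((Fin s → PowerSeries k) ⧸ Subalgebra.toSubmodule R) := by
  obtain ⟨h1, h2, h3⟩ := quot_exact R I
  rw [← LinearMap.finrank_range_add_finrank_ker (Submodule.factor (img_le R I)),
    LinearMap.range_eq_top.2 h2, finrank_top, LinearMap.exact_iff.1 h3,
    LinearMap.finrank_range_of_inj h1, add_comm]

section Twist

variable (j : Fin s)

/-- multiplication by `x` on the `j`-th branch -/
noncomputable def xi : (Fin s → PowerSeries k) →ₗ[k] (Fin s → PowerSeries k) :=
  LinearMap.mulLeft k (Pi.mulSingle j PowerSeries.X)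

@[simp] theorem xi_apply (f : Fin s → PowerSeries k) : xi j f = Pi.mulSingle j PowerSeries.X * f :=
  rfl

theorem xi_self (f : Fin s → PowerSeries k) : (xi j f) j = X * f j := by simp

theorem xi_of_ne {i : Fin s} (h : i ≠ j) (f : Fin s → PowerSeries k) : (xi j f) i = f i := by
  simp [h]

theorem xi_injective : Function.Injective (xi (k := k) j) := by
  intro f g h
  funext i
  have := congr_fun h i
  rcases eq_or_ne i j with rfl | hne
  · rw [xi_self, xi_self] at this
    exact mul_left_cancel₀ X_ne_zero this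
  · rwa [xi_of_ne j hne, xi_of_ne j hne] at this

theorem range_xi : LinearMap.range (xi (k := k) j) = LinearMap.ker (lowCoeff (k := k) (Pi.single j 1)) := by
  ext f
  rw [mem_ker_lowCoeff]
  constructor
  · rintro ⟨g, rfl⟩ i
    rcases eq_or_ne i j with rfl | hne
    · rw [xi_self, Pi.single_eq_same]
      exact le_order_iff.2 ⟨g i, by rw [pow_one]⟩
    · simp [hne]
  · intro h
    obtain ⟨q, hq⟩ := le_order_iff.1 ((Pi.single_eq_same j 1 : Pi.single (M := fun _ => ℕ) j 1 j = 1) ▸ h j)
    refine ⟨Function.update f j q, funext fun i => ?_⟩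
    rcases eq_or_ne i j with rfl | hne
    · rw [xi_self, Function.update_self, hq, pow_one]
    · rw [xi_of_ne j hne, Function.update_of_ne hne]

/-- colengths of the image under the twist -/
theorem finrank_map_xi (W : Submodule k (Fin s → PowerSeries k)) :
    (Module.Finite k ((Fin s → PowerSeries k) ⧸ W.map (xi j)) ↔
      Module.Finite k ((Fin s → PowerSeries k) ⧸ W)) ∧
    (Module.Finite k ((Fin s → PowerSeries k) ⧸ W) →
      Module.finrank k ((Fin s → PowerSeries k) ⧸ W.map (xi j)) =
        Module.finrank k ((Fin s → PowerSeries k) ⧸ W) + 1) := by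
  let φ : ((Fin s → PowerSeries k) ⧸ W) →ₗ[k] (Fin s → PowerSeries k) ⧸ W.map (xi j) :=
    Submodule.mapQ W _ (xi j) (Submodule.map_le_iff_le_comap.1 le_rfl)
  have hle : W.map (xi j) ≤ LinearMap.range (xi (k := k) j) := LinearMap.map_le_range
  have h1 : Function.Injective φ := by
    rw [injective_iff_map_eq_zero]
    intro z hz
    obtain ⟨x, rfl⟩ := Submodule.Quotient.mk_surjective _ z
    obtain ⟨y, hy, hyx⟩ := (Submodule.Quotient.mk_eq_zero _).1 hz
    rw [Submodule.Quotient.mk_eq_zero, ← xi_injective j hyx]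
    exact hy
  have h2 : Function.Exact φ (Submodule.factor hle) := by
    rw [LinearMap.exact_iff]
    simp only [φ, Submodule.range_mapQ, Submodule.factor, Submodule.ker_mapQ]
    rfl
  have hfinR : Module.Finite k ((Fin s → PowerSeries k) ⧸ LinearMap.range (xi (k := k) j)) := by
    rw [range_xi]; exact finite_quot_ker _
  refine ⟨⟨fun h => Module.Finite.of_injective φ h1,
    fun h => Module.Finite.of_exact h2 (Submodule.factor_surjective _)⟩,
    fun h => ?_⟩
  have : Module.Finite k ((Fin s → PowerSeries k) ⧸ W.map (xi j)) :=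
    Module.Finite.of_exact h2 (Submodule.factor_surjective _)
  rw [← LinearMap.finrank_range_add_finrank_ker (Submodule.factor hle),
    LinearMap.range_eq_top.2 (Submodule.factor_surjective _), finrank_top, LinearMap.exact_iff.1 h2,
    LinearMap.finrank_range_of_inj h1, add_comm]
  congr 1
  rw [range_xi, finrank_quot_ker, Finset.sum_pi_single']
  simp

end Twist

end Groth.Agent.Cohen12.Branches
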