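import Groth.Agent.Cohen12.FlatLift
import Groth.Agent.Cohen12.FlatIso
import Groth.Agent.Cohen12.CohenFS
import Groth.Agent.FSAdic12.LiftComplete

/-!
# Existence and uniqueness of Cohen algebras
-/

set_option autoImplicit false
set_option maxHeartbeats 800000

universe u

open IsLocalRing

namespace Groth.Agent.Cohen12

theorem exists_cohenAlgebra {A : Type u} [CommRing A] [IsLocalRing A] [IsNoetherianRing A]
    (K : Type u) [Field K] [Algebra (ResidueField A) K] [Algebra.IsGeometricallyReduced (ResidueField A) K] :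
    ∃ (B : Type u) (_ : CommRing B) (_ : IsLocalRing B) (_ : Algebra A B) (_ : IsLocalHom (algebraMap A B)),
      EGA41.IsCohenAlgebra A B ∧ Nonempty (ResidueField B ≃ₐ[ResidueField A] K) := by
  have : IsAdicComplete (maximalIdeal K) K := by rw [IsLocalRing.maximalIdeal_eq_bot]; infer_instance
  obtain ⟨B, _, _, hBN, f, π, hf, hc, hflat, hπ, hker, hcomm⟩ := exists_flat_lift K (algebraMap (ResidueField A) K)
  let : Algebra A B := f.toAlgebra
  have : IsLocalHom (algebraMap A B) := hf
  have hmax : maximalIdeal B = (maximalIdeal A).map (algebraMap A B) := by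
    have : (RingHom.ker π).IsMaximal := RingHom.ker_isMaximal_of_surjective π hπ
    exact (IsLocalRing.eq_maximalIdeal this).symm.trans hker
  have hkerπ : RingHom.ker π = maximalIdeal B := hker.trans hmax.symm
  let π₀ : ResidueField B →+* K := Ideal.Quotient.lift (maximalIdeal B) π fun x hx => (hkerπ.ge hx : x ∈ RingHom.ker π)
  have hπ₀ : Function.Bijective π₀ :=
    ⟨RingHom.injective π₀, fun z => (hπ z).elim fun b hb => ⟨residue B b, hb⟩⟩
  let e : ResidueField B ≃ₐ[ResidueField A] K :=
    { RingEquiv.ofBijective π₀ hπ₀ with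
      commutes' := fun c => by
        obtain ⟨a, rfl⟩ := residue_surjective c
        exact hcomm a }
  refine ⟨B, inferInstance, inferInstance, inferInstance, inferInstance, ⟨inferInstance, hBN, hc, hflat, hmax.symm, ?_⟩, ⟨e⟩⟩
  have : Algebra.FormallySmooth (ResidueField A) K :=
    (Sep12.formallySmooth_iff_isGeometricallyReduced (k := ResidueField A) (K := K)).mpr ‹_›
  have : Algebra.FormallySmooth (ResidueField A) (ResidueField B) := Algebra.FormallySmooth.of_equiv e.symm
  exact Sep12.formallySmooth_iff_isGeometricallyReduced.mp this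

theorem exists_equiv_cohenAlgebra {A B B' : Type u} [CommRing A] [IsLocalRing A] [CommRing B] [IsLocalRing B]
    [Algebra A B] [IsLocalHom (algebraMap A B)] [CommRing B'] [IsLocalRing B'] [Algebra A B']
    [IsLocalHom (algebraMap A B')] (hB : EGA41.IsCohenAlgebra A B) (hB' : EGA41.IsCohenAlgebra A B')
    (e : ResidueField B ≃ₐ[ResidueField A] ResidueField B') : Nonempty (B ≃ₐ[A] B') := by
  have hFS := isFormallySmoothAdic_of_cohenAlgebra hB
  obtain ⟨hA, hBN, hBc, -, hmB, -⟩ := hB
  obtain ⟨-, hBN', hBc', hflat', hmB', -⟩ := hB'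
  let u : B →ₐ[A] B' ⧸ maximalIdeal B' :=
    { (e : ResidueField B →+* ResidueField B').comp (residue B) with
      commutes' := fun a => e.commutes (residue A a) }
  have : IsHausdorff ((maximalIdeal B').map (Ideal.Quotient.mk (maximalIdeal B'))) (B' ⧸ maximalIdeal B') := by
    rw [Ideal.map_quotient_self]; infer_instance
  obtain ⟨v, -, hv⟩ := FSAdic12.lift_to_complete (maximalIdeal A) (maximalIdeal B) (maximalIdeal B') hFS
    ⟨1, by rw [pow_one]; exact hmB'.le⟩ (maximalIdeal B') ⟨1, (pow_one _).le⟩ u ⟨1, by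
      rw [pow_one, Ideal.map_quotient_self, le_bot_iff, Ideal.map_eq_bot_iff_le_ker]
      intro x hx
      show e (residue B x) = 0
      rw [(residue_eq_zero_iff x).mpr hx, map_zero]⟩
  have hres : ∀ x, residue B' (v x) = e (residue B x) := fun x => AlgHom.congr_fun hv x
  have : IsLocalHom v.toRingHom := ⟨fun x hx => notMem_maximalIdeal.mp fun h => (hx.map (residue B')).ne_zero (by
    show residue B' (v x) = 0
    rw [hres, (residue_eq_zero_iff x).mpr h, map_zero])⟩
  refine ⟨AlgEquiv.ofBijective v (bijective_of_flat_fibre v (fun y => ?_) fun x hx => ?_)⟩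
  · obtain ⟨x, hx⟩ := residue_surjective (e.symm (residue B' y))
    refine ⟨x, ?_⟩
    rw [hmB', ← residue_eq_zero_iff, map_sub, hres, hx, e.apply_symm_apply, sub_self]
  · rw [hmB] 
    rw [hmB', ← residue_eq_zero_iff, hres, map_eq_zero, residue_eq_zero_iff] at hx
    exact hx

end Groth.Agent.Cohen12
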