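import Groth.Agent.Cohen12.FlatIso
import Groth.Agent.Cohen12.CohenFS
import Groth.Agent.FSAdic12.LiftComplete
import Mathlib.RingTheory.Flat.TorsionFree
import Mathlib.RingTheory.RingHom.Flat
import Mathlib.RingTheory.DiscreteValuationRing.Basic

/-!
# Maps out of Cohen algebras, with prescribed residue map
-/

set_option autoImplicit false
set_option maxHeartbeats 800000

universe u

open IsLocalRing

namespace Groth.Agent.Cohen12

/-- An isomorphism of residue fields lifts to an isomorphism of Cohen algebras. -/
theorem exists_equiv_cohenAlgebra_residue {A B B' : Type u} [CommRing A] [IsLocalRing A] [CommRing B] [IsLocalRing B]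
    [Algebra A B] [IsLocalHom (algebraMap A B)] [CommRing B'] [IsLocalRing B'] [Algebra A B']
    [IsLocalHom (algebraMap A B')] (hB : EGA41.IsCohenAlgebra A B) (hB' : EGA41.IsCohenAlgebra A B')
    (e : ResidueField B ≃+* ResidueField B')
    (he : ∀ a : A, e (residue B (algebraMap A B a)) = residue B' (algebraMap A B' a)) :
    ∃ w : B ≃ₐ[A] B', ∀ b, residue B' (w b) = e (residue B b) := by
  have hFS := isFormallySmoothAdic_of_cohenAlgebra hB
  obtain ⟨hA, hBN, hBc, -, hmB, -⟩ := hB
  obtain ⟨-, hBN', hBc', hflat', hmB', -⟩ := hB'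
  let u : B →ₐ[A] B' ⧸ maximalIdeal B' :=
    { (e : ResidueField B →+* ResidueField B').comp (residue B) with
      commutes' := he }
  have : IsHausdorff ((maximalIdeal B').map (Ideal.Quotient.mk (maximalIdeal B'))) (B' ⧸ maximalIdeal B') := by
    rw [Ideal.map_quotient_self]; infer_instance
  obtain ⟨v, -, hv⟩ := FSAdic12.lift_to_complete (maximalIdeal A) (maximalIdeal B) (maximalIdeal B') hFS
    ⟨1, by rw [pow_one]; exact hmB'.le⟩ (maximalIdeal B') ⟨1, (pow_one _).le⟩ u ⟨1, by
      rw [pow_one, Ideal.map_quotient_self, le_bot_iff, Ideal.map_eq_bot_iff_le_ker]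
      intro x hx
      show e (residue B x) = 0
      rw [(residue_eq_zero_iff x).mpr hx, map_zero]⟩
  have hres : ∀ x, residue B' (v x) = e (residue B x) := fun x => AlgHom.congr_fun hv x
  have : IsLocalHom v.toRingHom := ⟨fun x hx => notMem_maximalIdeal.mp fun h => (hx.map (residue B')).ne_zero (by
    show residue B' (v x) = 0
    rw [hres, (residue_eq_zero_iff x).mpr h, map_zero])⟩
  have hbij : Function.Bijective v := by
    refine bijective_of_flat_fibre v (fun y => ?_) fun x hx => ?_
    · obtain ⟨x, hx⟩ := residue_surjective (e.symm (residue B' y))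
      exact ⟨x, by rw [hmB', ← residue_eq_zero_iff, map_sub, hres, hx, e.apply_symm_apply, sub_self]⟩
    · rw [hmB]
      rw [hmB', ← residue_eq_zero_iff, hres, map_eq_zero, residue_eq_zero_iff] at hx
      exact hx
  exact ⟨AlgEquiv.ofBijective v hbij, hres⟩

theorem flat_of_map_maximalIdeal {A B : Type u} [CommRing A] [IsDomain A] [IsDiscreteValuationRing A]
    [CommRing B] [IsDomain B] [IsDiscreteValuationRing B] (u : A →+* B)
    (hu : (maximalIdeal A).map u = maximalIdeal B) : u.Flat := by
  let : Algebra A B := u.toAlgebra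
  have hinj : Function.Injective u := by
    refine (injective_iff_map_eq_zero u).mpr fun a ha => ?_
    by_contra hne
    obtain ⟨ϖ, hϖ⟩ := IsDiscreteValuationRing.exists_irreducible A
    obtain ⟨n, c, rfl⟩ := IsDiscreteValuationRing.eq_unit_mul_pow_irreducible hne hϖ
    rw [map_mul, map_pow, mul_eq_zero] at ha
    have h0 : u ϖ = 0 := eq_zero_of_pow_eq_zero (ha.resolve_left (c.isUnit.map u).ne_zero)
    refine IsDiscreteValuationRing.not_a_field B ?_
    rw [← hu, hϖ.maximalIdeal_eq, Ideal.map_span, Set.image_singleton, h0]
    simp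
  have : Module.IsTorsionFree A B := Module.isTorsionFree_iff_algebraMap_injective.mpr hinj
  exact (inferInstance : Module.Flat A B)

theorem exists_equiv_dvr {A B B' : Type u} [CommRing A] [IsDomain A] [IsDiscreteValuationRing A]
    [CommRing B] [IsDomain B] [IsDiscreteValuationRing B] [IsAdicComplete (maximalIdeal B) B]
    [CommRing B'] [IsDomain B'] [IsDiscreteValuationRing B'] [IsAdicComplete (maximalIdeal B') B']
    (u : A →+* B) [IsLocalHom u] (hu : (maximalIdeal A).map u = maximalIdeal B)
    (hsep : letI := (ResidueField.map u).toAlgebra; Algebra.IsGeometricallyReduced (ResidueField A) (ResidueField B))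
    (u' : A →+* B') [IsLocalHom u'] (hu' : (maximalIdeal A).map u' = maximalIdeal B')
    (σ : ResidueField B ≃+* ResidueField B')
    (hσ : (σ : ResidueField B →+* ResidueField B').comp (ResidueField.map u) = ResidueField.map u') :
    ∃ w : B ≃+* B', (w : B →+* B').comp u = u' ∧ ∀ b : B, residue B' (w b) = σ (residue B b) := by
  let : Algebra A B := u.toAlgebra
  let : Algebra A B' := u'.toAlgebra
  have : IsLocalHom (algebraMap A B) := ‹IsLocalHom u›
  have : IsLocalHom (algebraMap A B') := ‹IsLocalHom u'›
  have hres : ∀ a : A, σ (residue B (algebraMap A B a)) = residue B' (algebraMap A B' a) :=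
    fun a => RingHom.congr_fun hσ (residue A a)
  have hsepB : Algebra.IsGeometricallyReduced (ResidueField A) (ResidueField B) := by
    convert hsep
    exact Algebra.algebra_ext _ _ fun c => by obtain ⟨a, rfl⟩ := residue_surjective c; rfl
  have hB : EGA41.IsCohenAlgebra A B :=
    ⟨inferInstance, inferInstance, inferInstance, flat_of_map_maximalIdeal u hu, hu, hsepB⟩
  let σ' : ResidueField B ≃ₐ[ResidueField A] ResidueField B' :=
    { σ with commutes' := fun c => by obtain ⟨a, rfl⟩ := residue_surjective c; exact hres a }
  have hsepB' : Algebra.IsGeometricallyReduced (ResidueField A) (ResidueField B') := by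
    have : Algebra.FormallySmooth (ResidueField A) (ResidueField B) :=
      (Sep12.formallySmooth_iff_isGeometricallyReduced (k := ResidueField A) (K := ResidueField B)).mpr hsepB
    have : Algebra.FormallySmooth (ResidueField A) (ResidueField B') := Algebra.FormallySmooth.of_equiv σ'
    exact Sep12.formallySmooth_iff_isGeometricallyReduced.mp this
  have hB' : EGA41.IsCohenAlgebra A B' :=
    ⟨inferInstance, inferInstance, inferInstance, flat_of_map_maximalIdeal u' hu', hu', hsepB'⟩
  obtain ⟨w, hw⟩ := exists_equiv_cohenAlgebra_residue hB hB' σ hres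
  exact ⟨w.toRingEquiv, RingHom.ext fun a => w.commutes a, hw⟩

end Groth.Agent.Cohen12
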