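import Groth.Agent.Cohen12.CohenLift
import Mathlib.RingTheory.AdicCompletion.Functoriality

/-!
# Uniqueness of Cohen rings
-/

set_option autoImplicit false
set_option maxHeartbeats 800000

universe u

open IsLocalRing

namespace Groth.Agent.Cohen12

theorem exists_equiv_cohen {W W' : Type u} [CommRing W] [IsLocalRing W] [CommRing W'] [IsLocalRing W']
    (hW : EGA41.IsCohenRingEGA W) (hW' : EGA41.IsCohenRingEGA W') (u : ResidueField W ≃+* ResidueField W') :
    ∃ v : W ≃+* W', ∀ x : W, residue W' (v x) = u (residue W x) := by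
  obtain ⟨hWN, hWc, hWd, hW0, p, hpR, hm⟩ := cohen_struct hW
  obtain ⟨hWN', hWc', hWd', hW0', p', hpR', hm'⟩ := cohen_struct hW'
  have hpp : p = p' := CharP.eq (ResidueField W') (charP_of_injective_ringHom (f := u.toRingHom) u.injective p) hpR'
  subst hpp
  have : IsLocalRing (W' ⧸ maximalIdeal W') := inferInstanceAs (IsLocalRing (ResidueField W'))
  let u₀ : W →+* W' ⧸ maximalIdeal W' := u.toRingHom.comp (residue W)
  have : IsLocalHom u₀ := ⟨fun x hx => notMem_maximalIdeal.mp fun h => by
    have : u₀ x = 0 := by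
      show u (residue W x) = 0
      rw [(residue_eq_zero_iff x).mpr h, map_zero]
    exact hx.ne_zero this⟩
  obtain ⟨v, hv, hvu⟩ := exists_lift_cohen hW (maximalIdeal W') u₀
  have hres : ∀ x, residue W' (v x) = u (residue W x) := fun x => RingHom.congr_fun hvu x
  have hmap : (maximalIdeal W).map v = maximalIdeal W' := by
    rw [hm, hm', Ideal.map_span, Set.image_singleton, map_natCast]
  have hsurj : Function.Surjective v := by
    have : IsHausdorff ((maximalIdeal W).map v) W' := by
      rw [hmap]; exact IsHausdorff.of_isLocalRing _ _ (maximalIdeal.isMaximal _).ne_top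
    refine surjective_of_mk_map_comp_surjective (I := maximalIdeal W) v ?_
    rw [hmap]
    intro z
    obtain ⟨z, rfl⟩ := Ideal.Quotient.mk_surjective z
    obtain ⟨a, ha⟩ := residue_surjective (u.symm (residue W' z))
    exact ⟨a, by show residue W' (v a) = _; rw [hres, ha, u.apply_symm_apply]; rfl⟩
  have hker : RingHom.ker v = ⊥ := by
    rcases eq_or_ne p 0 with rfl | hp
    · refine eq_bot_iff.mpr ((le_maximalIdeal (RingHom.ker_ne_top v)).trans ?_)
      rw [hm]; simp
    · refine Submodule.eq_bot_of_le_smul_of_le_jacobson_bot (maximalIdeal W) _ (IsNoetherian.noetherian _) ?_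
        (IsLocalRing.maximalIdeal_le_jacobson _)
      intro x hx
      have h1 : x ∈ maximalIdeal W := le_maximalIdeal (RingHom.ker_ne_top v) hx
      rw [hm, Ideal.mem_span_singleton'] at h1
      obtain ⟨y, rfl⟩ := h1
      rw [RingHom.mem_ker, map_mul, map_natCast, mul_eq_zero] at hx
      rw [mul_comm, smul_eq_mul]
      exact Ideal.mul_mem_mul (hm ▸ Ideal.mem_span_singleton_self _)
        (RingHom.mem_ker.mpr (hx.resolve_right (Nat.cast_ne_zero.mpr hp)))
  exact ⟨RingEquiv.ofBijective v ⟨(RingHom.injective_iff_ker_eq_bot v).mpr hker, hsurj⟩, hres⟩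

end Groth.Agent.Cohen12
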