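import Groth.Prelude.Def_EGA4b
import Mathlib.RingTheory.Spectrum.Prime.Topology
import Mathlib.RingTheory.Henselian
import Mathlib.RingTheory.AdicCompletion.LocalRing
import Mathlib.RingTheory.LocalProperties.IntegrallyClosed
import Mathlib.RingTheory.LocalProperties.Reduced
import Mathlib.RingTheory.Spectrum.Prime.Noetherian

/-!
Normal rings with connected spectrum; idempotents of adic completions.
-/

set_option autoImplicit false

universe u

namespace Groth.Agent.Cohen12

/-- The spectrum is connected iff there are exactly two idempotents. -/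
theorem connectedSpace_iff_idempotents (R : Type u) [CommRing R] :
    ConnectedSpace (PrimeSpectrum R) ↔ Nontrivial R ∧ ∀ e : R, IsIdempotentElem e → e = 0 ∨ e = 1 := by
  constructor
  · intro h
    refine ⟨PrimeSpectrum.nonempty_iff_nontrivial.mp h.toNonempty, fun e he => ?_⟩
    rcases isClopen_iff.mp (PrimeSpectrum.isClopen_iff.mpr ⟨e, he, rfl⟩) with h0 | h1
    · refine Or.inl (PrimeSpectrum.basicOpen_injOn_isIdempotentElem he IsIdempotentElem.zero (SetLike.ext' ?_))
      rw [h0, PrimeSpectrum.basicOpen_zero]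
      rfl
    · refine Or.inr (PrimeSpectrum.basicOpen_injOn_isIdempotentElem he IsIdempotentElem.one (SetLike.ext' ?_))
      rw [h1, PrimeSpectrum.basicOpen_one]
      rfl
  · rintro ⟨hn, h⟩
    have : Nonempty (PrimeSpectrum R) := PrimeSpectrum.nonempty_iff_nontrivial.mpr hn
    rw [connectedSpace_iff_clopen]
    refine ⟨inferInstance, fun s hs => ?_⟩
    obtain ⟨e, he, rfl⟩ := PrimeSpectrum.isClopen_iff.mp hs
    rcases h e he with rfl | rfl <;> simp

/-- A Noetherian normal ring with connected spectrum is an integrally closed domain. -/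
theorem isDomain_of_normal (R : Type u) [CommRing R] [IsNoetherianRing R] (h : EGA4.IsNormalRing R)
    (hc : ConnectedSpace (PrimeSpectrum R)) : IsDomain R ∧ IsIntegrallyClosed R := by
  obtain ⟨hnt, hidem⟩ := (connectedSpace_iff_idempotents R).mp hc
  have hred : IsReduced R := isReduced_ofLocalizationMaximal R fun m _ => by
    have := (h m).1
    infer_instance
  have hdom : IsDomain R := by
    classical
    have hfin := minimalPrimes.finite_of_isNoetherianRing R
    obtain ⟨P, hP⟩ : (minimalPrimes R).Nonempty := by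
      obtain ⟨m, hm⟩ := Ideal.exists_maximal R
      obtain ⟨P, hP, -⟩ := Ideal.exists_minimalPrimes_le (bot_le : (⊥ : Ideal R) ≤ m)
      exact ⟨P, hP⟩
    have huniq : ∀ m : Ideal R, m.IsPrime → ∀ Q ∈ minimalPrimes R, ∀ Q' ∈ minimalPrimes R, Q ≤ m → Q' ≤ m → Q = Q' := by
      intro m hm Q hQ Q' hQ' hle hle'
      have := (h m).1
      have := hQ.1.1
      have := hQ'.1.1
      have key : ∀ J ∈ minimalPrimes R, J ≤ m → J = RingHom.ker (algebraMap R (Localization.AtPrime m)) := by
        intro J hJ hJm
        have := hJ.1.1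
        have hker : (RingHom.ker (algebraMap R (Localization.AtPrime m))).IsPrime := RingHom.ker_isPrime _
        refine le_antisymm (hJ.2 ⟨hker, bot_le⟩ fun x hx => ?_) fun x hx => ?_
        · obtain ⟨s, hs⟩ := (IsLocalization.map_eq_zero_iff m.primeCompl _ x).mp hx
          exact ((hJ.1.1.mem_or_mem (hs ▸ zero_mem J))).resolve_left fun hsJ => s.2 (hJm hsJ)
        · obtain ⟨s, hs⟩ := (IsLocalization.map_eq_zero_iff m.primeCompl _ x).mp hx
          exact ((hJ.1.1.mem_or_mem (hs ▸ zero_mem J))).resolve_left fun hsJ => s.2 (hJm hsJ)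
      rw [key Q hQ hle, key Q' hQ' hle']
    let I : Ideal R := ⨅ Q ∈ (hfin.toFinset.erase P), Q
    have hco : I ⊔ P = ⊤ := by
      by_contra hne
      obtain ⟨m, hm, hle⟩ := Ideal.exists_le_maximal _ hne
      have hI : (hfin.toFinset.erase P).inf id ≤ m := by
        rw [Finset.inf_eq_iInf]
        exact le_sup_left.trans hle
      obtain ⟨Q, hQ, hQm⟩ := (Ideal.IsPrime.inf_le' hm.isPrime).mp hI
      exact (Finset.mem_erase.mp hQ).1 (huniq m hm.isPrime Q (hfin.mem_toFinset.mp (Finset.mem_erase.mp hQ).2) P hP
        hQm (le_sup_right.trans hle))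
    obtain ⟨a, ha, b, hb, hab⟩ := Submodule.mem_sup.mp ((Ideal.eq_top_iff_one _).mp hco)
    have hae : IsIdempotentElem a := by
      have hzero : a * b ∈ nilradical R := by
        rw [nilradical_eq_sInf, Submodule.mem_sInf]
        intro J (hJ : Ideal.IsPrime J)
        obtain ⟨Q, hQ, hQJ⟩ := Ideal.exists_minimalPrimes_le (bot_le : (⊥ : Ideal R) ≤ J)
        refine hQJ ?_
        rcases eq_or_ne Q P with rfl | hne
        · exact Ideal.mul_mem_left _ _ hb
        · exact Ideal.mul_mem_right _ _ ((Submodule.mem_iInf _).mp ((Submodule.mem_iInf _).mp ha Q)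
            (Finset.mem_erase.mpr ⟨hne, hfin.mem_toFinset.mpr hQ⟩))
      rw [nilradical_eq_zero, Ideal.zero_eq_bot, Ideal.mem_bot] at hzero
      have hb' : b = 1 - a := eq_sub_of_add_eq' hab
      rw [hb', mul_sub, mul_one, sub_eq_zero] at hzero
      exact hzero.symm
    have hbot : P = ⊥ := by
      rcases hidem a hae with rfl | rfl
      · rw [zero_add] at hab
        exact absurd ((Ideal.eq_top_iff_one _).mpr (hab ▸ hb)) hP.1.1.ne_top
      · refine eq_bot_iff.mpr fun x hx => ?_
        have hx0 : x ∈ nilradical R := by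
          rw [nilradical_eq_sInf, Submodule.mem_sInf]
          intro J (hJ : Ideal.IsPrime J)
          obtain ⟨Q, hQ, hQJ⟩ := Ideal.exists_minimalPrimes_le (bot_le : (⊥ : Ideal R) ≤ J)
          refine hQJ ?_
          rcases eq_or_ne Q P with rfl | hne
          · exact hx
          · exact absurd ((Ideal.eq_top_iff_one _).mpr ((Submodule.mem_iInf _).mp ((Submodule.mem_iInf _).mp ha Q)
              (Finset.mem_erase.mpr ⟨hne, hfin.mem_toFinset.mpr hQ⟩))) hQ.1.1.ne_top
        rwa [nilradical_eq_zero] at hx0
    have : (⊥ : Ideal R).IsPrime := hbot ▸ hP.1.1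
    exact IsDomain.of_bot_isPrime R
  exact ⟨hdom, IsIntegrallyClosed.of_localization_maximal fun m _ _ => (h m).2⟩

/-- Completion does not change connectedness: `Spec Â` is connected iff `Spec (A/J)` is. -/
theorem connectedSpace_completion_iff (A : Type u) [CommRing A] [IsNoetherianRing A] (J : Ideal A) :
    ConnectedSpace (PrimeSpectrum (AdicCompletion J A)) ↔ ConnectedSpace (PrimeSpectrum (A ⧸ J)) := by
  have hfg : J.FG := IsNoetherian.noetherian _
  have := AdicCompletion.isAdicComplete_self J hfg
  let C := AdicCompletion J A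
  let JC := J.map (algebraMap A C)
  let π : C →+* A ⧸ J := (AdicCompletion.evalOneₐ J).toRingHom
  have hπ : Function.Surjective π := AdicCompletion.evalOneₐ_surjective J
  have hker : RingHom.ker π = JC := AdicCompletion.ker_evalOneₐ_eq_map J hfg
  have hjac : JC ≤ (⊥ : Ideal C).jacobson := IsAdicComplete.le_jacobson_bot _
  have hinj0 : ∀ e : C, IsIdempotentElem e → π e = 0 → e = 0 := fun e he h0 => by
    have h1 := hjac (hker ▸ (RingHom.mem_ker.mpr h0))
    have h2 := Ideal.mem_jacobson_bot.mp h1 (-1)
    refine h2.mul_left_eq_zero.mp ?_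
    rw [mul_neg_one, mul_add, mul_neg, he.eq, mul_one]
    ring
  have hnt : Nontrivial C ↔ Nontrivial (A ⧸ J) := by
    refine ⟨fun hC => ?_, fun _ => π.domain_nontrivial⟩
    refine not_subsingleton_iff_nontrivial.mp fun hsub => one_ne_zero (α := C)
      (hinj0 1 IsIdempotentElem.one (Subsingleton.elim _ _))
  rw [connectedSpace_iff_idempotents, connectedSpace_iff_idempotents, hnt]
  refine and_congr_right fun _ => ⟨fun h e he => ?_, fun h e he => ?_⟩
  · obtain ⟨a, ha⟩ := hπ e
    let f : Polynomial C := Polynomial.X ^ 2 - Polynomial.X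
    have hmk : a * a - a ∈ JC := by
      rw [← hker, RingHom.mem_ker, map_sub, map_mul, ha, he.eq, sub_self]
    obtain ⟨c, hc, hca⟩ := HenselianRing.is_henselian (I := JC) f
      (Polynomial.monic_X_pow_sub (Polynomial.degree_X_le.trans_lt (by norm_num))) a (by simpa [f, pow_two] using hmk) (by
        have hsq : (2 * a - 1) * (2 * a - 1) = 4 * (a * a - a) + 1 := by ring
        refine IsUnit.of_mul_eq_one (Ideal.Quotient.mk JC (2 * a - 1)) ?_
        have he' : f.derivative.eval a = 2 * a - 1 := by simp [f, pow_two]; ring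
        rw [he', ← map_mul, hsq, map_add, map_mul, Ideal.Quotient.eq_zero_iff_mem.mpr hmk, mul_zero, zero_add, map_one])
    have hπc : π c = e := by
      rw [← sub_add_cancel c a, map_add, ← ha, show π (c - a) = 0 from RingHom.mem_ker.mp (hker ▸ hca), zero_add]
    have hcid : IsIdempotentElem c := by
      simpa [f, pow_two, sub_eq_zero, IsIdempotentElem] using hc
    rcases h c hcid with rfl | rfl
    · exact Or.inl (by rw [← hπc, map_zero])
    · exact Or.inr (by rw [← hπc, map_one])
  · rcases h (π e) (he.map π) with h0 | h1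
    · exact Or.inl (hinj0 e he h0)
    · refine Or.inr ?_
      have := hinj0 (1 - e) he.one_sub (by rw [map_sub, map_one, h1, sub_self])
      exact (sub_eq_zero.mp this).symm

end Groth.Agent.Cohen12
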