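import Groth.Prelude
import Groth.Agent.Cohen12.Field
import Mathlib.RingTheory.Kaehler.Basic
import Mathlib.RingTheory.Ideal.Cotangent
import Mathlib.RingTheory.Flat.Basic

/-!
# Independence in the cotangent space read off from absolute differentials

For a local ring `R` of residue characteristic `p` with `p ∈ m²`, the ring `R / m²` has a coefficient
field, so elements of `m` are independent modulo `m²` exactly when their absolute differentials are
independent at the closed point.
-/

set_option autoImplicit false

universe u

open IsLocalRing TensorProduct KaehlerDifferential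

namespace Groth.Agent.Cohen12

/-- A local ring whose maximal ideal has square zero is complete. -/
theorem isAdicComplete_of_sq_eq_bot {R : Type u} [CommRing R] (I : Ideal R) (h : I ^ 2 = ⊥) :
    IsAdicComplete I R := by
  have hI : ∀ n, 2 ≤ n → (I ^ n • ⊤ : Submodule R R) = ⊥ := fun n hn => by
    rw [smul_eq_mul, Ideal.mul_top, eq_bot_iff, ← h]
    exact Ideal.pow_le_pow_right hn
  have : IsHausdorff I R := ⟨fun x hx => by
    have := hx 2
    rwa [SModEq.zero, hI 2 le_rfl, Submodule.mem_bot] at this⟩
  have : IsPrecomplete I R := ⟨fun f hf => ⟨f 2, fun n => by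
    rcases le_total n 2 with hn | hn
    · exact hf hn
    · have := (hf hn).symm
      rw [SModEq.sub_mem, hI 2 le_rfl, Submodule.mem_bot, sub_eq_zero] at this
      rw [this]⟩⟩
  constructor

variable {R : Type u} [CommRing R] [IsLocalRing R]

/-- A retraction of `K ⊗ Ω[R⁄ℤ]` onto the cotangent space. -/
theorem exists_cotangent_retraction (p : ℕ) [CharP (ResidueField R) p]
    (hp : (p : R) ∈ maximalIdeal R ^ 2) :
    ∃ Φ : ResidueField R ⊗[R] Ω[R⁄ℤ] →ₗ[ResidueField R] CotangentSpace R,
      ∀ x : maximalIdeal R, Φ (1 ⊗ₜ D ℤ R x) = (maximalIdeal R).toCotangent x := by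
  let m := maximalIdeal R
  let Q := R ⧸ m ^ 2
  let q : R →+* Q := Ideal.Quotient.mk (m ^ 2)
  have : Nontrivial Q := Ideal.Quotient.nontrivial_iff.mpr
    (ne_top_of_le_ne_top (maximalIdeal.isMaximal R).ne_top (Ideal.pow_le_self two_ne_zero))
  have : IsLocalRing Q := .of_surjective' q Ideal.Quotient.mk_surjective
  have hmQ : maximalIdeal Q = m.map q :=
    (IsLocalRing.map_maximalIdeal_of_surjective _ Ideal.Quotient.mk_surjective).symm
  have : IsAdicComplete (maximalIdeal Q) Q := isAdicComplete_of_sq_eq_bot _ (by
    rw [hmQ, ← Ideal.map_pow]; exact Ideal.map_quotient_self _)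
  have : IsLocalHom q := IsLocalHom.of_surjective _ Ideal.Quotient.mk_surjective
  let ρ : ResidueField R →+* ResidueField Q := ResidueField.map q
  have : CharP (ResidueField Q) p := charP_of_injective_ringHom ρ.injective p
  obtain ⟨σ, hσ⟩ := exists_coefficientField Q p (by
    rw [← map_natCast q]; exact Ideal.Quotient.eq_zero_iff_mem.mpr hp)
  choose s hs using fun z => Ideal.Quotient.mk_surjective (I := m ^ 2) (σ (ρ z))
  have hmem : ∀ a : R, a - s (residue R a) ∈ m := fun a => by
    rw [← residue_eq_zero_iff]
    apply ρ.injective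
    rw [map_zero, map_sub (residue R), map_sub ρ]
    simp only [ρ, ResidueField.map_residue, q, hs, hσ]
    exact sub_self _
  have hq : ∀ z, q (s z) = σ (ρ z) := hs
  let δ : R →+ CotangentSpace R :=
    AddMonoidHom.mk' (fun a => m.toCotangent ⟨a - s (residue R a), hmem a⟩) fun a b => by
      rw [← map_add, Ideal.toCotangent_eq]
      simp only [Submodule.coe_add]
      rw [← Ideal.Quotient.eq]
      show q _ = q _
      simp only [map_sub, map_add, hq]
      ring
  let δD : Derivation ℤ R (CotangentSpace R) := Derivation.mk' δ.toIntLinearMap fun a b => by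
    show m.toCotangent _ = a • m.toCotangent _ + b • m.toCotangent _
    rw [← map_smul, ← map_smul, ← map_add, Ideal.toCotangent_eq]
    simp only [Submodule.coe_add, SetLike.val_smul, smul_eq_mul]
    have hprod : (a - s (residue R a)) * (b - s (residue R b)) ∈ m ^ 2 :=
      pow_two m ▸ Ideal.mul_mem_mul (hmem a) (hmem b)
    have hmul : s (residue R (a * b)) - s (residue R a) * s (residue R b) ∈ m ^ 2 := by
      rw [← Ideal.Quotient.eq]
      show q _ = q _
      simp only [map_mul, hq]
    have := sub_mem (neg_mem hprod) (sub_mem hmul (zero_mem _))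
    convert this using 1
    ring
  refine ⟨δD.liftKaehlerDifferential.liftBaseChange (ResidueField R), fun x => ?_⟩
  rw [LinearMap.liftBaseChange_tmul, one_smul, Derivation.liftKaehlerDifferential_comp_D]
  show m.toCotangent _ = _
  rw [Ideal.toCotangent_eq]
  show (x : R) - s (residue R (x : R)) - x ∈ m ^ 2
  rw [sub_sub_cancel_left]
  refine neg_mem ?_
  rw [← Ideal.Quotient.eq_zero_iff_mem]
  show q _ = 0
  rw [hq, (residue_eq_zero_iff (x : R)).mpr x.2, map_zero, map_zero]

/-- Independence in `m/m²` is independence of absolute differentials at the closed point. -/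
theorem linearIndependent_toCotangent_iff (p : ℕ) [CharP (ResidueField R) p]
    (hp : (p : R) ∈ maximalIdeal R ^ 2) {ι : Type} [Fintype ι] (x : ι → maximalIdeal R) :
    LinearIndependent (ResidueField R) (fun i => (maximalIdeal R).toCotangent (x i)) ↔
      LinearIndependent (ResidueField R) (fun i => (1 : ResidueField R) ⊗ₜ[R] D ℤ R (x i : R)) := by
  constructor
  · intro h
    obtain ⟨Φ, hΦ⟩ := exists_cotangent_retraction p hp
    exact LinearIndependent.of_comp Φ (by simpa [Function.comp_def, hΦ] using h)
  · intro h
    refine Fintype.linearIndependent_iff.mpr fun g hg => ?_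
    choose a ha using fun i => residue_surjective (g i)
    have h1 : (maximalIdeal R).toCotangent (∑ i, a i • x i) = 0 := by
      rw [map_sum, ← hg]
      refine Finset.sum_congr rfl fun i _ => ?_
      rw [map_smul, ← ha i]
      rfl
    rw [Ideal.toCotangent_eq_zero] at h1
    have h2 : ∀ y ∈ maximalIdeal R ^ 2, (1 : ResidueField R) ⊗ₜ[R] D ℤ R y = 0 := fun y hy => by
      rw [pow_two] at hy
      refine Submodule.mul_induction_on hy (fun b hb c hc => ?_) fun b c hb hc => by
        rw [map_add, TensorProduct.tmul_add, hb, hc, add_zero]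
      rw [Derivation.leibniz, TensorProduct.tmul_add, ← TensorProduct.smul_tmul, ← TensorProduct.smul_tmul,
        Algebra.smul_def, Algebra.smul_def,
        show algebraMap R (ResidueField R) b = 0 from (residue_eq_zero_iff b).mpr hb,
        show algebraMap R (ResidueField R) c = 0 from (residue_eq_zero_iff c).mpr hc]
      simp
    have h3 := h2 _ h1
    simp only [Submodule.coe_sum, SetLike.val_smul, smul_eq_mul, map_sum, Derivation.leibniz,
      TensorProduct.tmul_add, TensorProduct.tmul_sum] at h3
    refine Fintype.linearIndependent_iff.mp h g (Eq.trans ?_ h3)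
    refine Finset.sum_congr rfl fun i _ => ?_
    rw [← TensorProduct.smul_tmul (R := R) (a i), ← TensorProduct.smul_tmul (R := R) ((x i : R)),
      Algebra.smul_def, Algebra.smul_def, mul_one, mul_one,
      show algebraMap R (ResidueField R) (x i : R) = 0 from (residue_eq_zero_iff _).mpr (x i).2,
      TensorProduct.zero_tmul, add_zero, TensorProduct.smul_tmul', smul_eq_mul, mul_one, ← ha i]
    rfl

/-- Base change of independence to a field extension. -/
theorem linearIndependent_one_tmul_iff {A K L M : Type u} [CommRing A] [Field K] [Field L] [Algebra A K]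
    [Algebra A L] [Algebra K L] [IsScalarTower A K L] [AddCommGroup M] [Module A M] {ι : Type} (v : ι → M) :
    LinearIndependent K (fun i => (1 : K) ⊗ₜ[A] v i) ↔ LinearIndependent L (fun i => (1 : L) ⊗ₜ[A] v i) := by
  let e := AlgebraTensorModule.cancelBaseChange A K L L M
  have he : (fun i => (1 : L) ⊗ₜ[A] v i) = e ∘ fun i => (1 : L) ⊗ₜ[K] ((1 : K) ⊗ₜ[A] v i) := by
    funext i
    simp [e]
  rw [he]
  show _ ↔ LinearIndependent L (e.toLinearMap ∘ _)
  rw [e.toLinearMap.linearIndependent_iff (LinearEquiv.ker e)]
  constructor
  · intro h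
    exact Module.Flat.linearIndependent_one_tmul h
  · intro h
    have hK := h.restrict_scalars (R := K) (smul_left_injective K one_ne_zero)
    exact LinearIndependent.of_comp (TensorProduct.mk K L (K ⊗[A] M) 1) hK

end Groth.Agent.Cohen12
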