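import Groth.Agent.Hens22.PairHens
import Groth.Agent.Hensel20.PairEtale
import Mathlib.RingTheory.Etale.Descent
import Mathlib.RingTheory.Etale.Locus
import Mathlib.RingTheory.Unramified.Finite
import Mathlib.RingTheory.Flat.FaithfullyFlat.Algebra
import Mathlib.RingTheory.FinitePresentation
import Mathlib.RingTheory.Localization.Finiteness

/-!
Finite étale algebras over `A ⧸ I` lift to an étale neighbourhood of the pair `(A, I)`.
-/

set_option autoImplicit false

universe u

open TensorProduct CategoryTheory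

namespace Groth.Agent.Cohen12

open Henz21

variable {A : Type u} [CommRing A] {I : Ideal A}

/-- Finitely many elements of the henselization come from one pair-trivial stage. -/
theorem exists_trivial_stage {ι : Type*} (s : Finset ι) (x : ι → H A (A ⧸ I)) :
    ∃ (S : Type u) (_ : CommRing S) (_ : Algebra A S) (_ : Algebra.Etale A S) (j : S →ₐ[A] H A (A ⧸ I)),
      (∀ y : S, H.proj A (A ⧸ I) (j y) = 0 ↔ y ∈ I.map (algebraMap A S)) ∧ ∀ i ∈ s, ∃ y, j y = x i := by
  classical
  obtain ⟨i₀, hi₀⟩ : ∃ i₀ : Pt A (A ⧸ I), ∀ i ∈ s, ∃ y, H.incl i₀ y = x i := by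
    induction s using Finset.induction_on with
    | empty => exact ⟨(Pt.nonempty A (A ⧸ I)).some, fun i hi => absurd hi (Finset.notMem_empty i)⟩
    | @insert a t _ ih =>
      obtain ⟨i, hi⟩ := ih
      obtain ⟨k, y, hy⟩ := H.exists_rep (x a)
      refine ⟨IsFiltered.max i k, fun b hb => ?_⟩
      rcases Finset.mem_insert.mp hb with rfl | hb
      · exact ⟨(IsFiltered.rightToMax i k).φ y, (H.incl_φ _ _).trans hy⟩
      · obtain ⟨z, hz⟩ := hi b hb
        exact ⟨(IsFiltered.leftToMax i k).φ z, (H.incl_φ _ _).trans hz⟩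
  obtain ⟨S, _, _, _, g, σ, hσg, hbij⟩ := Hens22.exists_trivial_refinement I i₀
  obtain ⟨F, hF, hFg⟩ := H.exists_algHom_of_stage i₀ S σ g hσg
  refine ⟨S, inferInstance, inferInstance, inferInstance, F, fun y => ?_, fun i hi => ?_⟩
  · obtain ⟨σ', hσ'⟩ := Hens22.exists_pt_of_bijective I S hbij
    have hK : I.map (algebraMap A (A ⧸ I)) = ⊥ := by rw [Ideal.Quotient.algebraMap_eq, Ideal.map_quotient_self]
    rw [← AlgHom.comp_apply, hF, Hens22.pt_unique I S hbij.2 hK σ σ', hσ']
  · obtain ⟨z, hz⟩ := hi₀ i hi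
    exact ⟨g z, (DFunLike.congr_fun hFg z).trans hz⟩

/-- A finite algebra which is étale over `(1 + J)⁻¹ S` is étale over some `S_g`, `g ∈ 1 + J`. -/
theorem exists_etale_away {S B : Type u} [CommRing S] [CommRing B] [Algebra S B] [Module.Finite S B]
    [Algebra.FinitePresentation S B] (J : Ideal S)
    (h : ∀ q : Ideal B, (_ : q.IsPrime) → Disjoint (MonoidHom.mker (Ideal.Quotient.mk J) : Set S)
      (q.comap (algebraMap S B) : Set S) → Algebra.IsEtaleAt S q) :
    ∃ g : S, g - 1 ∈ J ∧ Algebra.Etale S (Localization.Away (algebraMap S B g)) := by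
  let Z := (Algebra.etaleLocus S B)ᶜ
  have hZ : IsClosed (PrimeSpectrum.comap (algebraMap S B) '' Z) :=
    PrimeSpectrum.isClosedMap_comap_of_isIntegral _
      (algebraMap_isIntegral_iff.mpr (Algebra.IsIntegral.of_finite S B)) _
      Algebra.isOpen_etaleLocus.isClosed_compl
  obtain ⟨K, hK⟩ := (PrimeSpectrum.isClosed_iff_zeroLocus_ideal _).mp hZ
  have htop : K ⊔ J = ⊤ := by
    by_contra hne
    obtain ⟨m, hm, hle⟩ := Ideal.exists_le_maximal _ hne
    have hmZ : (⟨m, hm.isPrime⟩ : PrimeSpectrum S) ∈ PrimeSpectrum.comap (algebraMap S B) '' Z := by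
      rw [hK]
      exact le_sup_left.trans hle
    obtain ⟨q, hq, hqm⟩ := hmZ
    refine hq (h q.asIdeal q.isPrime (Set.disjoint_left.mpr fun t ht htq => hm.ne_top ?_))
    have htm : t ∈ m := by
      have : q.asIdeal.comap (algebraMap S B) = m := congrArg PrimeSpectrum.asIdeal hqm
      exact this ▸ htq
    rw [Ideal.eq_top_iff_one]
    have h1 : t - 1 ∈ J := by
      rw [← Ideal.Quotient.eq_zero_iff_mem, map_sub, MonoidHom.mem_mker.mp ht, map_one, sub_self]
    simpa using sub_mem htm ((le_sup_right.trans hle) h1)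
  obtain ⟨g, hg, b, hb, hgb⟩ := Submodule.mem_sup.mp ((Ideal.eq_top_iff_one _).mp htop)
  refine ⟨g, ?_, Algebra.basicOpen_subset_etaleLocus_iff_etale.mp fun q hq => ?_⟩
  · rw [← hgb, sub_add_cancel_left]
    exact neg_mem hb
  · by_contra hqZ
    have : PrimeSpectrum.comap (algebraMap S B) q ∈ PrimeSpectrum.zeroLocus (K : Set S) :=
      hK ▸ ⟨q, hqZ, rfl⟩
    exact hq (this hg)

/-- A finite finitely presented algebra descends to any subring-like stage containing the coefficients
of one presentation with integral equations. -/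
theorem exists_model {H' C : Type u} [CommRing H'] [CommRing C] [Algebra H' C] [Module.Finite H' C]
    [Algebra.FinitePresentation H' C] :
    ∃ N : Finset H', ∀ (S : Type u) [CommRing S] [Algebra S H'], (∀ c ∈ N, ∃ s, algebraMap S H' s = c) →
      ∃ (BS : Type u) (_ : CommRing BS) (_ : Algebra S BS), Module.Finite S BS ∧
        Algebra.FinitePresentation S BS ∧ Nonempty (H' ⊗[S] BS ≃ₐ[H'] C) := by
  classical
  obtain ⟨n, f, hf, ⟨G, hG⟩⟩ := Algebra.FinitePresentation.out (R := H') (A := C)
  replace hG : Ideal.span (G : Set (MvPolynomial (Fin n) H')) = RingHom.ker f.toRingHom := hG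
  have : Algebra.IsIntegral H' C := Algebra.IsIntegral.of_finite H' C
  choose p hpm hp using fun i : Fin n => Algebra.IsIntegral.isIntegral (R := H') (f (MvPolynomial.X i))
  refine ⟨(G.biUnion fun q => q.support.image fun m => MvPolynomial.coeff m q) ∪
    Finset.univ.biUnion fun i => (p i).support.image (p i).coeff, fun S _ _ hN => ?_⟩
  have hliftG : ∀ q ∈ G, ∃ q' : MvPolynomial (Fin n) S, MvPolynomial.map (algebraMap S H') q' = q := by
    intro q hq
    refine MvPolynomial.mem_range_map_iff_coeffs_subset.mpr fun c hc => ?_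
    obtain ⟨m, hm, rfl⟩ := MvPolynomial.mem_coeffs_iff.mp hc
    exact hN _ (Finset.mem_union_left _ (Finset.mem_biUnion.mpr ⟨q, hq, Finset.mem_image_of_mem _ hm⟩))
  choose q' hq' using hliftG
  have hliftP : ∀ i, ∃ P : Polynomial S, P.map (algebraMap S H') = p i ∧ P.Monic := fun i => by
    have hl : p i ∈ Polynomial.lifts (algebraMap S H') := by
      refine (Polynomial.lifts_iff_coeff_lifts _).mpr fun k => ?_
      by_cases hk : k ∈ (p i).support
      · exact hN _ (Finset.mem_union_right _ (Finset.mem_biUnion.mpr ⟨i, Finset.mem_univ _, Finset.mem_image_of_mem _ hk⟩))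
      · exact ⟨0, by rw [map_zero, Polynomial.notMem_support_iff.mp hk]⟩
    rcases subsingleton_or_nontrivial H' with hsub | hnt
    · exact ⟨1, Subsingleton.elim _ _, Polynomial.monic_one⟩
    · obtain ⟨P, hP1, -, hP3⟩ := Polynomial.lifts_and_degree_eq_and_monic hl (hpm i)
      exact ⟨P, hP1, hP3⟩
  choose P hPmap hPm using hliftP
  let rels : Set (MvPolynomial (Fin n) S) :=
    (Set.range fun q : G => q' q.1 q.2) ∪ Set.range fun i => Polynomial.aeval (MvPolynomial.X i) (P i)
  let BS := MvPolynomial (Fin n) S ⧸ Ideal.span rels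
  have hrels : rels.Finite := (Set.finite_range _).union (Set.finite_range _)
  have : Algebra.FinitePresentation S BS := .quotient (Submodule.fg_span hrels)
  let : Algebra S C := ((algebraMap H' C).comp (algebraMap S H')).toAlgebra
  have : IsScalarTower S H' C := IsScalarTower.of_algebraMap_eq fun _ => rfl
  have hμS : ∀ z : MvPolynomial (Fin n) S,
      MvPolynomial.aeval (fun i => f (MvPolynomial.X i)) z = f (MvPolynomial.map (algebraMap S H') z) := by
    intro z
    have h := (MvPolynomial.aeval_map_algebraMap H' (fun i => f (MvPolynomial.X i)) z).symm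
    exact h.trans (DFunLike.congr_fun (MvPolynomial.aeval_unique f) _).symm
  have hfrels : ∀ z ∈ rels, MvPolynomial.aeval (fun i => f (MvPolynomial.X i)) z = 0 := by
    rintro _ (⟨⟨q, hq⟩, rfl⟩ | ⟨i, rfl⟩)
    · rw [hμS, hq' q hq]
      exact (hG ▸ Ideal.subset_span hq : q ∈ RingHom.ker f.toRingHom)
    · rw [← Polynomial.aeval_algHom_apply, MvPolynomial.aeval_X, ← Polynomial.aeval_map_algebraMap H', hPmap]
      exact hp i
  refine ⟨BS, inferInstance, inferInstance, ?_, inferInstance, ?_⟩
  · have hint : ∀ x ∈ Set.range fun i : Fin n => Ideal.Quotient.mk (Ideal.span rels) (MvPolynomial.X i),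
        IsIntegral S x := by
      rintro _ ⟨i, rfl⟩
      refine ⟨P i, hPm i, ?_⟩
      rw [← Polynomial.aeval_def, ← Ideal.Quotient.mkₐ_eq_mk S, Polynomial.aeval_algHom_apply,
        Ideal.Quotient.mkₐ_eq_mk, Ideal.Quotient.eq_zero_iff_mem]
      exact Ideal.subset_span (Or.inr ⟨i, rfl⟩)
    have htop : Algebra.adjoin S
        (Set.range fun i : Fin n => Ideal.Quotient.mk (Ideal.span rels) (MvPolynomial.X i)) = ⊤ := by
      rw [show (Set.range fun i : Fin n => Ideal.Quotient.mk (Ideal.span rels) (MvPolynomial.X i)) =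
        (Ideal.Quotient.mkₐ S (Ideal.span rels)) '' Set.range MvPolynomial.X by
          rw [← Set.range_comp]; rfl,
        Algebra.adjoin_image, MvPolynomial.adjoin_range_X, Algebra.map_top]
      exact AlgHom.range_eq_top _ |>.mpr (Ideal.Quotient.mkₐ_surjective S _)
    have h := fg_adjoin_of_finite (Set.finite_range _) hint
    rw [htop, Algebra.top_toSubmodule] at h
    exact Module.finite_def.mpr h
  let μ : BS →ₐ[S] C := Ideal.Quotient.liftₐ (Ideal.span rels) (MvPolynomial.aeval fun i => f (MvPolynomial.X i))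
    fun z hz => by
      have hle : Ideal.span rels ≤ RingHom.ker (MvPolynomial.aeval (R := S) fun i => f (MvPolynomial.X i)) :=
        Ideal.span_le.mpr hfrels
      exact hle hz
  let θ : H' ⊗[S] BS →ₐ[H'] C := Algebra.TensorProduct.lift (Algebra.ofId H' C) μ fun _ _ => .all _ _
  let ψ : MvPolynomial (Fin n) H' →ₐ[H'] H' ⊗[S] BS :=
    MvPolynomial.aeval fun i => (1 : H') ⊗ₜ[S] Ideal.Quotient.mk (Ideal.span rels) (MvPolynomial.X i)
  have hψmap : ∀ z, ψ (MvPolynomial.map (algebraMap S H') z) =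
      (1 : H') ⊗ₜ[S] Ideal.Quotient.mk (Ideal.span rels) z := by
    intro z
    induction z using MvPolynomial.induction_on with
    | C a =>
      rw [MvPolynomial.map_C, MvPolynomial.aeval_C, Algebra.TensorProduct.algebraMap_apply,
        Algebra.algebraMap_self, RingHom.id_apply, Algebra.algebraMap_eq_smul_one, TensorProduct.smul_tmul]
      congr 1
      rw [← Algebra.algebraMap_eq_smul_one]
      rfl
    | add a b ha hb => rw [map_add, map_add, ha, hb, map_add, tmul_add]
    | mul_X a i ha =>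
      rw [map_mul, map_mul, ha, MvPolynomial.map_X, MvPolynomial.aeval_X,
        Algebra.TensorProduct.tmul_mul_tmul, one_mul, map_mul]
  have hθψ : θ.comp ψ = f := MvPolynomial.algHom_ext fun i => by
    simp only [θ, ψ, μ, AlgHom.comp_apply, MvPolynomial.aeval_X, Algebra.TensorProduct.lift_tmul, map_one, one_mul]
    exact MvPolynomial.aeval_X _ _
  have hψker : ∀ z, f z = 0 → ψ z = 0 := fun z hz => by
    have hle : Ideal.span (G : Set (MvPolynomial (Fin n) H')) ≤ RingHom.ker ψ := Ideal.span_le.mpr fun q hq => by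
      have h0 : q' q hq ∈ Ideal.span rels := Ideal.subset_span (Or.inl ⟨⟨q, hq⟩, rfl⟩)
      rw [SetLike.mem_coe, RingHom.mem_ker, ← hq' q hq, hψmap, Ideal.Quotient.eq_zero_iff_mem.mpr h0, tmul_zero]
    exact hle (hG ▸ hz : z ∈ Ideal.span (G : Set (MvPolynomial (Fin n) H')))
  have hψsurj : Function.Surjective ψ := by
    intro z
    induction z using TensorProduct.induction_on with
    | zero => exact ⟨0, map_zero _⟩
    | tmul h x =>
      obtain ⟨x, rfl⟩ := Ideal.Quotient.mk_surjective x
      refine ⟨MvPolynomial.C h * MvPolynomial.map (algebraMap S H') x, ?_⟩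
      rw [map_mul, hψmap, MvPolynomial.aeval_C, Algebra.TensorProduct.algebraMap_apply,
        Algebra.TensorProduct.tmul_mul_tmul, Algebra.algebraMap_self, RingHom.id_apply, mul_one, one_mul]
    | add a b ha hb =>
      obtain ⟨a, rfl⟩ := ha
      obtain ⟨b, rfl⟩ := hb
      exact ⟨a + b, map_add _ _ _⟩
  refine ⟨AlgEquiv.ofBijective θ ⟨(injective_iff_map_eq_zero _).mpr fun z hz => ?_, fun c => ?_⟩⟩
  · obtain ⟨w, rfl⟩ := hψsurj z
    exact hψker w (by rw [← hθψ]; exact hz)
  · obtain ⟨w, rfl⟩ := hf c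
    exact ⟨ψ w, DFunLike.congr_fun hθψ w⟩

/-- Reduction modulo the ideal commutes with a base change which is an isomorphism modulo it. -/
theorem mod_baseChange {S H' B : Type u} [CommRing S] [CommRing H'] [CommRing B] [Algebra S H'] [Algebra S B]
    (IS : Ideal S) (J : Ideal H') (χ : H' →ₐ[S] S ⧸ IS) (hJ : ∀ h, h ∈ J ↔ χ h = 0) :
    (∀ b : B, ((1 : H') ⊗ₜ[S] b) ∈ J.map (algebraMap H' (H' ⊗[S] B)) → b ∈ IS.map (algebraMap S B)) ∧
    ∀ z : H' ⊗[S] B, ∃ b : B, z - (1 : H') ⊗ₜ[S] b ∈ J.map (algebraMap H' (H' ⊗[S] B)) := by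
  refine ⟨fun b hb => ?_, fun z => ?_⟩
  · let π : B →ₐ[S] B ⧸ IS.map (algebraMap S B) := Ideal.Quotient.mkₐ S _
    let bar : S ⧸ IS →ₐ[S] B ⧸ IS.map (algebraMap S B) :=
      Ideal.Quotient.liftₐ IS (Algebra.ofId S _) fun s hs => by
        show algebraMap S (B ⧸ IS.map (algebraMap S B)) s = 0
        rw [IsScalarTower.algebraMap_apply S B, Ideal.Quotient.algebraMap_eq, Ideal.Quotient.eq_zero_iff_mem]
        exact Ideal.mem_map_of_mem _ hs
    let ε : H' ⊗[S] B →ₐ[S] B ⧸ IS.map (algebraMap S B) :=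
      Algebra.TensorProduct.lift (bar.comp χ) π fun _ _ => .all _ _
    have h1 : J.map (algebraMap H' (H' ⊗[S] B)) ≤ RingHom.ker ε := by
      rw [Ideal.map_le_iff_le_comap]
      intro h hh
      show ε (h ⊗ₜ 1) = 0
      simp [ε, (hJ h).mp hh]
    have h2 : ε ((1 : H') ⊗ₜ b) = 0 := h1 hb
    simp only [ε, Algebra.TensorProduct.lift_tmul, map_one, one_mul] at h2
    exact Ideal.Quotient.eq_zero_iff_mem.mp h2
  · induction z using TensorProduct.induction_on with
    | zero => exact ⟨0, by simp⟩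
    | tmul h b =>
      obtain ⟨s, hs⟩ := Ideal.Quotient.mk_surjective (χ h)
      refine ⟨s • b, ?_⟩
      have : h - algebraMap S H' s ∈ J := (hJ _).mpr (by
        rw [map_sub, AlgHom.commutes, Ideal.Quotient.algebraMap_eq, hs, sub_self])
      rw [TensorProduct.tmul_smul, TensorProduct.smul_tmul', ← sub_tmul, ← Algebra.algebraMap_eq_smul_one]
      rw [show (h - algebraMap S H' s) ⊗ₜ[S] b = algebraMap H' (H' ⊗[S] B) (h - algebraMap S H' s) * ((1 : H') ⊗ₜ b) by
        rw [Algebra.TensorProduct.algebraMap_apply, Algebra.TensorProduct.tmul_mul_tmul, mul_one, one_mul]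
        rfl]
      exact Ideal.mul_mem_right _ _ (Ideal.mem_map_of_mem _ this)
    | add x y hx hy =>
      obtain ⟨a, ha⟩ := hx
      obtain ⟨b, hb⟩ := hy
      refine ⟨a + b, ?_⟩
      rw [tmul_add, add_sub_add_comm]
      exact add_mem ha hb

/-- A flat algebra over `(1 + IS)⁻¹ S` surjecting compatibly onto `S ⧸ IS` is faithfully flat. -/
theorem faithfullyFlat_of_mod {S ST H' : Type u} [CommRing S] [CommRing ST] [CommRing H'] [Algebra S ST]
    (IS : Ideal S) [IsLocalization (MonoidHom.mker (Ideal.Quotient.mk IS)) ST] [Algebra ST H'] [Algebra S H']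
    [IsScalarTower S ST H'] [Module.Flat ST H'] (χ : H' →ₐ[S] S ⧸ IS) : Module.FaithfullyFlat ST H' := by
  refine ⟨fun m hm htop => hm.ne_top ?_⟩
  have h1 : m.map (algebraMap ST H') = ⊤ := by
    rw [Ideal.smul_top_eq_map] at htop
    exact Submodule.restrictScalars_eq_top_iff ST H' H' |>.mp htop
  let ψ : ST →+* S ⧸ IS := χ.toRingHom.comp (algebraMap ST H')
  have hψ : ∀ s, ψ (algebraMap S ST s) = Ideal.Quotient.mk IS s := fun s => by
    show χ (algebraMap ST H' (algebraMap S ST s)) = _
    rw [← IsScalarTower.algebraMap_apply, AlgHom.commutes]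
    rfl
  have h2 := congrArg (Ideal.map χ.toRingHom) h1
  rw [Ideal.map_map, Ideal.map_top] at h2
  have hsurj : Function.Surjective ψ := fun z => by
    obtain ⟨s, rfl⟩ := Ideal.Quotient.mk_surjective z
    exact ⟨_, hψ s⟩
  obtain ⟨y, hy, hy1⟩ := (Ideal.mem_map_iff_of_surjective ψ hsurj).mp
    (show (1 : S ⧸ IS) ∈ m.map ψ by rw [h2]; trivial)
  obtain ⟨⟨s, t⟩, hst⟩ := IsLocalization.surj (MonoidHom.mker (Ideal.Quotient.mk IS)) y
  refine Ideal.eq_top_of_isUnit_mem _ hy (isUnit_of_mul_isUnit_left (y := algebraMap S ST t) ?_)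
  rw [hst]
  refine IsLocalization.map_units ST (⟨s, ?_⟩ : MonoidHom.mker (Ideal.Quotient.mk IS))
  have := congrArg ψ hst
  rw [map_mul, hy1, one_mul, hψ, hψ, MonoidHom.mem_mker.mp t.2] at this
  exact MonoidHom.mem_mker.mpr this.symm

/-- Étaleness over `(1 + IS)⁻¹ S`, seen at the primes of the finite model. -/
theorem isEtaleAt_of_disjoint {S ST B : Type u} [CommRing S] [CommRing ST] [CommRing B] [Algebra S ST]
    [Algebra S B] (T : Submonoid S) [IsLocalization T ST] [Algebra.Etale ST (ST ⊗[S] B)]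
    (q : Ideal B) [q.IsPrime] (hd : Disjoint (T : Set S) (q.comap (algebraMap S B) : Set S)) :
    Algebra.IsEtaleAt S q := by
  let := Algebra.TensorProduct.rightAlgebra (R := S) (A := ST) (B := B)
  let TB := Algebra.algebraMapSubmonoid B T
  have : IsLocalization TB (ST ⊗[S] B) := by
    have : IsLocalization TB (B ⊗[S] ST) := IsLocalization.tensor ST T
    exact IsLocalization.isLocalization_of_algEquiv TB
      ({ (Algebra.TensorProduct.comm S B ST).toRingEquiv with commutes' := fun b => rfl } :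
        B ⊗[S] ST ≃ₐ[B] ST ⊗[S] B)
  have hTB : TB ≤ q.primeCompl := by
    rintro _ ⟨t, ht, rfl⟩ htq
    exact Set.disjoint_left.mp hd ht htq
  let := IsLocalization.localizationAlgebraOfSubmonoidLe (ST ⊗[S] B) (Localization.AtPrime q) TB q.primeCompl hTB
  have := IsLocalization.localization_isScalarTower_of_submonoid_le (ST ⊗[S] B) (Localization.AtPrime q) TB q.primeCompl hTB
  have : IsLocalization (q.primeCompl.map (algebraMap B (ST ⊗[S] B))) (Localization.AtPrime q) :=
    IsLocalization.isLocalization_of_submonoid_le _ _ TB q.primeCompl hTB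
  have : IsScalarTower S (ST ⊗[S] B) (Localization.AtPrime q) := IsScalarTower.of_algebraMap_eq fun s => by
    rw [IsScalarTower.algebraMap_apply S B (Localization.AtPrime q),
      IsScalarTower.algebraMap_apply B (ST ⊗[S] B) (Localization.AtPrime q)]
    congr 1
    rw [Algebra.TensorProduct.algebraMap_apply, RingHom.algebraMap_toAlgebra]
    exact (Algebra.TensorProduct.includeRight : B →ₐ[S] ST ⊗[S] B).commutes s |>.trans (by
      rw [Algebra.TensorProduct.algebraMap_apply])
  have : Algebra.FormallyEtale S ST := Algebra.FormallyEtale.of_isLocalization T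
  have : Algebra.FormallyEtale S (ST ⊗[S] B) := Algebra.FormallyEtale.comp S ST _
  have : Algebra.FormallyEtale (ST ⊗[S] B) (Localization.AtPrime q) :=
    Algebra.FormallyEtale.of_isLocalization (q.primeCompl.map (algebraMap B (ST ⊗[S] B)))
  exact Algebra.FormallyEtale.comp S (ST ⊗[S] B) (Localization.AtPrime q)

/-- From a stage `S` with a model of the finite étale lift, the étale neighbourhood. -/
theorem exists_nbhd_of_model {S H' B₀ BS : Type u} [CommRing S] [Algebra A S] [Algebra.Etale A S]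
    [CommRing H'] [Algebra A H'] [Algebra S H'] [IsScalarTower A S H'] [Module.Flat A H']
    [CommRing B₀] [Algebra A B₀] [CommRing BS] [Algebra S BS] [Module.Finite S BS] [Algebra.FinitePresentation S BS]
    [Algebra A BS] [IsScalarTower A S BS]
    (χ : H' →ₐ[S] S ⧸ I.map (algebraMap A S)) (hunit : ∀ h, IsUnit (χ h) → IsUnit h)
    [Algebra.Etale H' (H' ⊗[S] BS)] (σ : S →ₐ[A] A ⧸ I) (hσ : ∀ y, σ y = 0 ↔ y ∈ I.map (algebraMap A S))
    [Algebra (A ⧸ I) B₀] [IsScalarTower A (A ⧸ I) B₀] (κ : BS →ₐ[A] B₀) (hκsurj : Function.Surjective κ)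
    (hκker : ∀ b, κ b = 0 → b ∈ I.map (algebraMap A BS))
    (hκS : ∀ s, κ (algebraMap S BS s) = algebraMap (A ⧸ I) B₀ (σ s)) :
    ∃ (A' : Type u) (_ : CommRing A') (_ : Algebra A A') (_ : Algebra.Etale A A')
      (π : A' →ₐ[A] A ⧸ I) (B : Type u) (_ : CommRing B) (_ : Algebra A B) (_ : Algebra A' B)
      (_ : IsScalarTower A A' B) (πB : B →ₐ[A] B₀),
      RingHom.ker π = I.map (algebraMap A A') ∧ Module.Finite A' B ∧ Algebra.Etale A' B ∧
      Function.Surjective πB ∧ RingHom.ker πB = I.map (algebraMap A B) ∧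
      ∀ a : A', πB (algebraMap A' B a) = algebraMap (A ⧸ I) B₀ (π a) := by
  let IS := I.map (algebraMap A S)
  let T := MonoidHom.mker (Ideal.Quotient.mk IS)
  let ST := Localization T
  have hTunit : ∀ t : T, IsUnit (algebraMap S H' t) := fun t => hunit _ (by
    rw [AlgHom.commutes, Ideal.Quotient.algebraMap_eq, MonoidHom.mem_mker.mp t.2]
    exact isUnit_one)
  let : Algebra ST H' := (IsLocalization.lift hTunit).toAlgebra
  have : IsScalarTower S ST H' := IsScalarTower.of_algebraMap_eq fun s => (IsLocalization.lift_eq hTunit s).symm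
  have : Module.Flat S H' := Algebra.FormallyUnramified.flat_of_restrictScalars A S H'
  have : Algebra.FormallyUnramified S ST := Algebra.FormallyUnramified.of_isLocalization T
  have : Module.Flat ST H' := Algebra.FormallyUnramified.flat_of_restrictScalars S ST H'
  have := faithfullyFlat_of_mod (ST := ST) IS χ
  have : Algebra.Etale H' (H' ⊗[ST] (ST ⊗[S] BS)) :=
    Algebra.Etale.of_equiv (Algebra.TensorProduct.cancelBaseChange S ST H' H' BS).symm
  have : Algebra.Etale ST (ST ⊗[S] BS) := Algebra.Etale.of_etale_tensorProduct_of_faithfullyFlat H'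
  obtain ⟨g, hg1, hgEt⟩ := exists_etale_away IS fun q _ hd => isEtaleAt_of_disjoint (B := BS) (ST := ST) T q hd
  let A' := Localization.Away g
  let B := Localization.Away (algebraMap S BS g)
  have : Algebra.Etale S A' := Algebra.Etale.of_isLocalizationAway g
  have : Algebra.Etale A A' := Algebra.Etale.comp A S A'
  let : Algebra A' B := (IsLocalization.Away.map A' B (algebraMap S BS) g).toAlgebra
  have : IsScalarTower S A' B := IsScalarTower.of_algebraMap_eq fun s => by
    rw [RingHom.algebraMap_toAlgebra, IsLocalization.Away.map, IsLocalization.map_eq]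
    rfl
  have : IsScalarTower A S B := IsScalarTower.of_algebraMap_eq fun a => by
    rw [IsScalarTower.algebraMap_apply A BS B, IsScalarTower.algebraMap_apply A S BS,
      ← IsScalarTower.algebraMap_apply S BS B]
  have : IsScalarTower A A' B := IsScalarTower.of_algebraMap_eq fun a => by
    rw [IsScalarTower.algebraMap_apply A S A', ← IsScalarTower.algebraMap_apply S A' B,
      ← IsScalarTower.algebraMap_apply]
  have : Module.Finite A' B := by
    have : IsLocalization (Algebra.algebraMapSubmonoid BS (Submonoid.powers g)) B := by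
      rw [show Algebra.algebraMapSubmonoid BS (Submonoid.powers g) = Submonoid.powers (algebraMap S BS g) from
        Submonoid.map_powers _ g]
      infer_instance
    exact Module.Finite.of_isLocalization S BS (Submonoid.powers g)
  have : Algebra.Etale A' B := Algebra.Etale.of_restrictScalars S A' B
  have hσg : σ g = 1 := by
    have h := (hσ _).mpr hg1
    rwa [map_sub, map_one, sub_eq_zero] at h
  let π : A' →ₐ[A] A ⧸ I := IsLocalization.liftAlgHom (M := Submonoid.powers g) (f := σ) (by
    rintro ⟨_, k, rfl⟩; simp [hσg])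
  have hπ : ∀ s, π (algebraMap S A' s) = σ s := fun s => IsLocalization.lift_eq _ s
  let πB : B →ₐ[A] B₀ := IsLocalization.liftAlgHom (M := Submonoid.powers (algebraMap S BS g)) (f := κ) (by
    rintro ⟨_, k, rfl⟩; simp [hκS, hσg])
  have hπB : ∀ b, πB (algebraMap BS B b) = κ b := fun b => IsLocalization.lift_eq _ b
  refine ⟨A', inferInstance, inferInstance, inferInstance, π, B, inferInstance, inferInstance, inferInstance,
    inferInstance, πB, ?_, inferInstance, inferInstance, fun y => ?_, ?_, fun a => ?_⟩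
  · refine le_antisymm (fun x hx => ?_) (Ideal.map_le_iff_le_comap.mpr fun a ha => ?_)
    · obtain ⟨s, t, rfl⟩ := IsLocalization.exists_mk'_eq (Submonoid.powers g) x
      have h1 : σ s = 0 := by
        rw [← hπ, ← IsLocalization.mk'_spec A' s t, map_mul, RingHom.mem_ker.mp hx, zero_mul]
      rw [IsLocalization.mk'_eq_mul_mk'_one]
      refine Ideal.mul_mem_right _ _ ?_
      have h2 := Ideal.mem_map_of_mem (algebraMap S A') ((hσ s).mp h1)
      rwa [Ideal.map_map, ← IsScalarTower.algebraMap_eq] at h2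
    · show π (algebraMap A A' a) = 0
      rw [AlgHom.commutes, Ideal.Quotient.algebraMap_eq, Ideal.Quotient.eq_zero_iff_mem]
      exact ha
  · obtain ⟨b, rfl⟩ := hκsurj y
    exact ⟨algebraMap BS B b, hπB b⟩
  · refine le_antisymm (fun x hx => ?_) (Ideal.map_le_iff_le_comap.mpr fun a ha => ?_)
    · obtain ⟨b, t, rfl⟩ := IsLocalization.exists_mk'_eq (Submonoid.powers (algebraMap S BS g)) x
      have h1 : κ b = 0 := by
        rw [← hπB, ← IsLocalization.mk'_spec B b t, map_mul, RingHom.mem_ker.mp hx, zero_mul]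
      rw [IsLocalization.mk'_eq_mul_mk'_one]
      refine Ideal.mul_mem_right _ _ ?_
      have h2 := Ideal.mem_map_of_mem (algebraMap BS B) (hκker b h1)
      rwa [Ideal.map_map, ← IsScalarTower.algebraMap_eq] at h2
    · show πB (algebraMap A B a) = 0
      rw [AlgHom.commutes, IsScalarTower.algebraMap_apply A (A ⧸ I) B₀, Ideal.Quotient.algebraMap_eq,
        Ideal.Quotient.eq_zero_iff_mem.mpr ha, map_zero]
  · have hext : πB.toRingHom.comp (algebraMap A' B) = (algebraMap (A ⧸ I) B₀).comp π.toRingHom := by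
      refine IsLocalization.ringHom_ext (Submonoid.powers g) (RingHom.ext fun s => ?_)
      show πB (algebraMap A' B (algebraMap S A' s)) = algebraMap (A ⧸ I) B₀ (π (algebraMap S A' s))
      rw [← IsScalarTower.algebraMap_apply S A' B, IsScalarTower.algebraMap_apply S BS B, hπB, hκS, hπ]
    exact RingHom.congr_fun hext a

/-- Finite étale algebras over `A ⧸ I` lift to finite étale algebras over an étale neighbourhood of
`(A, I)`. -/
theorem exists_finite_etale_nbhd {B₀ : Type u} [CommRing B₀] [Algebra A B₀] [Algebra (A ⧸ I) B₀]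
    [IsScalarTower A (A ⧸ I) B₀] [Module.Finite (A ⧸ I) B₀] [Algebra.Etale (A ⧸ I) B₀] :
    ∃ (A' : Type u) (_ : CommRing A') (_ : Algebra A A') (_ : Algebra.Etale A A')
      (π : A' →ₐ[A] A ⧸ I) (B : Type u) (_ : CommRing B) (_ : Algebra A B) (_ : Algebra A' B)
      (_ : IsScalarTower A A' B) (πB : B →ₐ[A] B₀),
      RingHom.ker π = I.map (algebraMap A A') ∧ Module.Finite A' B ∧ Algebra.Etale A' B ∧
      Function.Surjective πB ∧ RingHom.ker πB = I.map (algebraMap A B) ∧
      ∀ a : A', πB (algebraMap A' B a) = algebraMap (A ⧸ I) B₀ (π a) := by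
  classical
  let H' := H A (A ⧸ I)
  have : HenselianRing H' (I.map (algebraMap A H')) := (Hens22.isPairHenselization_H (A := A) I).1
  let J := I.map (algebraMap A H')
  have hker : RingHom.ker (H.proj A (A ⧸ I)) = J := Hens22.ker_proj_eq I
  let eH : (H' ⧸ J) ≃ₐ[A] A ⧸ I :=
    (Ideal.quotientEquivAlgOfEq A hker.symm).trans (Ideal.quotientKerAlgEquivOfSurjective (Hens22.proj_surjective I))
  let : Algebra (H' ⧸ J) B₀ := ((algebraMap (A ⧸ I) B₀).comp eH.toRingEquiv.toRingHom).toAlgebra
  let : Algebra H' B₀ := ((algebraMap (H' ⧸ J) B₀).comp (Ideal.Quotient.mk J)).toAlgebra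
  have : IsScalarTower H' (H' ⧸ J) B₀ := IsScalarTower.of_algebraMap_eq fun _ => rfl
  have hproj : ∀ h : H', algebraMap H' B₀ h = algebraMap (A ⧸ I) B₀ (H.proj A (A ⧸ I) h) := fun _ => rfl
  have : Module.Finite (H' ⧸ J) B₀ := by
    show ((algebraMap (A ⧸ I) B₀).comp eH.toRingEquiv.toRingHom).Finite
    exact (RingHom.finite_algebraMap.mpr inferInstance).comp (RingHom.Finite.of_surjective _ eH.surjective)
  have : Algebra.Etale (H' ⧸ J) B₀ := by
    rw [← RingHom.etale_algebraMap]
    exact RingHom.Etale.respectsIso.2 _ eH.toRingEquiv (RingHom.etale_algebraMap.mpr inferInstance)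
  obtain ⟨C, _, _, _, _, ⟨eC⟩⟩ := Hensel20.exists_finite_etale_lift (A := H') (I := J) B₀
  obtain ⟨N, hN⟩ := exists_model (H' := H') (C := C)
  obtain ⟨S, _, _, _, j, hj, hNj⟩ := exists_trivial_stage N id
  let : Algebra S H' := j.toRingHom.toAlgebra
  have : IsScalarTower A S H' := IsScalarTower.of_algebraMap_eq fun a => (j.commutes a).symm
  obtain ⟨BS, _, _, _, _, ⟨e⟩⟩ := hN S hNj
  let : Algebra A BS := ((algebraMap S BS).comp (algebraMap A S)).toAlgebra
  have : IsScalarTower A S BS := IsScalarTower.of_algebraMap_eq fun _ => rfl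
  have : Algebra.Etale H' (H' ⊗[S] BS) := Algebra.Etale.of_equiv e.symm
  let IS := I.map (algebraMap A S)
  let σ : S →ₐ[A] A ⧸ I := (H.proj A (A ⧸ I)).comp j
  let bar : A ⧸ I →+* S ⧸ IS := Ideal.quotientMap IS (algebraMap A S) Ideal.le_comap_map
  have hbar : ∀ s, bar (σ s) = Ideal.Quotient.mk IS s := fun s => by
    obtain ⟨a, ha⟩ := Ideal.Quotient.mk_surjective (σ s)
    rw [← ha]
    show Ideal.Quotient.mk IS (algebraMap A S a) = _
    rw [Ideal.Quotient.eq, ← hj]
    show σ (algebraMap A S a - s) = 0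
    rw [map_sub, AlgHom.commutes, Ideal.Quotient.algebraMap_eq, ha, sub_self]
  have hbarinj : ∀ z, bar z = 0 → z = 0 := fun z hz => by
    obtain ⟨a, rfl⟩ := Ideal.Quotient.mk_surjective z
    have h1 := (hj _).mpr (Ideal.Quotient.eq_zero_iff_mem.mp hz)
    rwa [AlgHom.commutes, AlgHom.commutes] at h1
  let χ : H' →ₐ[S] S ⧸ IS := { bar.comp (H.proj A (A ⧸ I)).toRingHom with commutes' := fun s => hbar s }
  have hχ : ∀ h, h ∈ J ↔ χ h = 0 := fun h => by
    rw [← hker, RingHom.mem_ker]
    exact ⟨fun h0 => (congrArg bar h0).trans (map_zero bar), fun h0 => hbarinj _ h0⟩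
  obtain ⟨hm1, hm2⟩ := mod_baseChange (B := BS) IS J χ hχ
  let inc : C →ₐ[H'] (H' ⧸ J) ⊗[H'] C := Algebra.TensorProduct.includeRight
  let Θ : H' ⊗[S] BS →ₐ[H'] B₀ := ((eC.toAlgHom.restrictScalars H').comp inc).comp e.toAlgHom
  have hΘsurj : Function.Surjective Θ := by
    have hinc : Function.Surjective inc := fun z => by
      induction z using TensorProduct.induction_on with
      | zero => exact ⟨0, map_zero _⟩
      | tmul a c =>
        obtain ⟨h, rfl⟩ := Ideal.Quotient.mk_surjective a
        refine ⟨h • c, ?_⟩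
        show (1 : H' ⧸ J) ⊗ₜ[H'] (h • c) = Ideal.Quotient.mk J h ⊗ₜ[H'] c
        rw [← TensorProduct.smul_tmul, Algebra.smul_def, mul_one]
        rfl
      | add u v hu hv =>
        obtain ⟨x, rfl⟩ := hu
        obtain ⟨y, rfl⟩ := hv
        exact ⟨x + y, map_add _ _ _⟩
    exact (eC.surjective.comp hinc).comp e.surjective
  have hΘker : ∀ z, Θ z = 0 → z ∈ J.map (algebraMap H' (H' ⊗[S] BS)) := fun z hz => by
    have h1 : (1 : H' ⧸ J) ⊗ₜ[H'] e z = 0 := eC.injective (hz.trans (map_zero eC).symm)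
    have h2 := congrArg (TensorProduct.quotTensorEquivQuotSMul C J) h1
    rw [map_zero, show (1 : H' ⧸ J) = Ideal.Quotient.mk J 1 from rfl,
      TensorProduct.quotTensorEquivQuotSMul_mk_tmul, one_smul, Submodule.Quotient.mk_eq_zero,
      Ideal.smul_top_eq_map] at h2
    have hle : J.map (algebraMap H' C) ≤ (J.map (algebraMap H' (H' ⊗[S] BS))).comap e.symm := by
      rw [Ideal.map_le_iff_le_comap]
      intro x hx
      show e.symm (algebraMap H' C x) ∈ J.map (algebraMap H' (H' ⊗[S] BS))
      rw [AlgEquiv.commutes]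
      exact Ideal.mem_map_of_mem _ hx
    have h3 : e.symm (e z) ∈ J.map (algebraMap H' (H' ⊗[S] BS)) := hle (h2 : e z ∈ J.map (algebraMap H' C))
    rwa [AlgEquiv.symm_apply_apply] at h3
  have hΘS : ∀ s : S, Θ ((1 : H') ⊗ₜ algebraMap S BS s) = algebraMap (A ⧸ I) B₀ (σ s) := fun s => by
    rw [show (1 : H') ⊗ₜ[S] algebraMap S BS s = algebraMap H' (H' ⊗[S] BS) (algebraMap S H' s) by
      rw [Algebra.algebraMap_eq_smul_one (A := BS), TensorProduct.tmul_smul, TensorProduct.smul_tmul',
        ← Algebra.algebraMap_eq_smul_one (A := H'), Algebra.TensorProduct.algebraMap_apply]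
      rfl, AlgHom.commutes, hproj]
    rfl
  let κ : BS →ₐ[A] B₀ :=
    { Θ.toRingHom.comp (Algebra.TensorProduct.includeRight : BS →ₐ[S] H' ⊗[S] BS).toRingHom with
      commutes' := fun a => by
        show Θ ((1 : H') ⊗ₜ algebraMap S BS (algebraMap A S a)) = _
        rw [hΘS, AlgHom.commutes, ← IsScalarTower.algebraMap_apply] }
  refine exists_nbhd_of_model χ (fun h hu => H.isUnit_of_isUnit_proj ?_) σ hj κ (fun y => ?_) (fun b hb => ?_) hΘS
  · obtain ⟨v, hv⟩ := hu.exists_right_inv
    obtain ⟨s, rfl⟩ := Ideal.Quotient.mk_surjective v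
    refine IsUnit.of_mul_eq_one (σ s) (sub_eq_zero.mp (hbarinj _ ?_))
    rw [map_sub, map_mul, map_one, hbar]
    exact sub_eq_zero.mpr hv
  · obtain ⟨z, rfl⟩ := hΘsurj y
    obtain ⟨b, hb⟩ := hm2 z
    refine ⟨b, ?_⟩
    have hle : J.map (algebraMap H' (H' ⊗[S] BS)) ≤ RingHom.ker Θ := by
      rw [Ideal.map_le_iff_le_comap]
      intro h hh
      show Θ (algebraMap H' _ h) = 0
      rw [AlgHom.commutes, hproj, RingHom.mem_ker.mp (hker ▸ hh : h ∈ RingHom.ker (H.proj A (A ⧸ I))), map_zero]
    have h4 := RingHom.mem_ker.mp (hle hb)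
    rw [map_sub, sub_eq_zero] at h4
    exact h4.symm
  · have h5 := hm1 b (hΘker _ hb)
    rwa [Ideal.map_map, ← IsScalarTower.algebraMap_eq] at h5

end Groth.Agent.Cohen12
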