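import Groth.Agent.PBasis12.Field
import Mathlib.RingTheory.IntegralClosure.IsIntegralClosure.Basic

/-!
Finite-index subfields of a field of characteristic `p` containing the `p`-th powers.
-/

set_option autoImplicit false

universe u

namespace Groth.Agent.Cohen12

open EGA41 PBasis12

/-- A directed family of finite-index subfields of `k` containing `k^p`, with intersection `k^p`. -/
theorem exists_finiteIndex_family (p : ℕ) [Fact p.Prime] (k : Type u) [Field k] [CharP k p] :
    ∃ (ι : Type u) (_ : Nonempty ι) (G : ι → Subfield k),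
      (∀ a b : ι, ∃ c, G c ≤ G a ⊓ G b) ∧ (∀ i, ∀ x : k, x ^ p ∈ G i) ∧ (∀ i, Module.Finite (G i) k) ∧
      ∀ x : k, (∀ i, x ∈ G i) → ∃ y : k, y ^ p = x := by
  classical
  let Q : Subfield k := (frobenius k p).fieldRange
  have hgen : IsPGenerating p Q (Subtype.val : ↥(Set.univ : Set k) → k) := by
    refine (aeval_surjective_iff _).mp ?_
    rw [Subtype.range_coe, eq_top_iff]
    exact fun x _ => Algebra.subset_adjoin trivial
  have hind : IsPIndependent p Q (Subtype.val : ↥(∅ : Set k) → k) :=
    (isPIndependent_iff _).mpr fun a => a.2.elim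
  obtain ⟨B, -, -, hB, hBgen⟩ := exists_pBasis_between _ _ (Set.empty_subset _) hgen hind
  let P := pPowerSubalgebra p Q k
  let x : B → k := Subtype.val
  let C : Finset B → Subalgebra P k := fun F => Algebra.adjoin P (x '' {b | b ∉ F})
  let G : Finset B → Subfield k := fun F =>
    (fieldOf (p := p) ((C F).restrictScalars Q) (pow_mem_adjoin _)).toSubfield
  have hG : ∀ F c, c ∈ G F ↔ c ∈ C F := fun _ _ => Iff.rfl
  refine ⟨Finset B, ⟨∅⟩, G, fun a b => ⟨a ∪ b, ?_⟩, fun F y => pow_mem_adjoin _ y, fun F => ?_, fun y hy => ?_⟩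
  · refine le_inf (fun c hc => ?_) (fun c hc => ?_) <;>
      refine Algebra.adjoin_mono (Set.image_mono ?_) hc <;> intro d hd h <;> apply hd <;> simp [h]
  · let A : Subalgebra (G F) k := Algebra.adjoin (G F) (x '' (F : Set B))
    have hA : A = ⊤ := by
      rw [eq_top_iff]
      intro c hc0
      clear hc0
      have hc : c ∈ Algebra.adjoin P (Set.range x) := by
        rw [(aeval_surjective_iff x).mpr hBgen]
        exact Algebra.mem_top
      induction hc using Algebra.adjoin_induction with
      | mem z hz =>
        obtain ⟨b, rfl⟩ := hz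
        by_cases hb : b ∈ F
        · exact Algebra.subset_adjoin ⟨b, hb, rfl⟩
        · exact A.algebraMap_mem ⟨x b, Algebra.subset_adjoin ⟨b, hb, rfl⟩⟩
      | algebraMap s => exact A.algebraMap_mem ⟨s, (C F).algebraMap_mem s⟩
      | add u v _ _ hu hv => exact add_mem hu hv
      | mul u v _ _ hu hv => exact mul_mem hu hv
    have h : A.toSubmodule.FG := fg_adjoin_of_finite (Set.toFinite _) fun c _ =>
      IsIntegral.of_pow (Fact.out : p.Prime).pos
        (isIntegral_algebraMap (x := (⟨c ^ p, pow_mem_adjoin _ c⟩ : G F)))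
    rw [hA, Algebra.top_toSubmodule] at h
    exact Module.finite_def.mpr h
  · let b : Module.Basis (Red p B) P k := Module.Basis.mk hB hBgen.ge
    let U : Finset B := (b.repr y).support.biUnion fun e => e.1.support
    let R : Set (Red p B) := {e | ∀ a ∈ U, e.1 a = 0}
    have hadj : Subalgebra.toSubmodule (C U) ≤ Submodule.span P (b '' R) := by
      intro c hc
      have hc' : c ∈ Algebra.adjoin P (x '' {a | a ∉ U}) := hc
      have hs : x '' {a | a ∉ U} = Set.range (fun a : {a // a ∉ U} => x a) := by
        ext; simp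
      rw [hs, Algebra.adjoin_range_eq_range_aeval] at hc'
      obtain ⟨f, rfl⟩ := hc'
      let t : {a // a ∉ U} → P := fun a => ⟨x a ^ p, pow_mem_pPower _⟩
      obtain ⟨g, hg, hfg⟩ := exists_reduced (p := p) t f
      have h0 : relIdeal p t ≤ RingHom.ker (MvPolynomial.aeval (fun a : {a // a ∉ U} => x a) :
          MvPolynomial _ P →ₐ[_] k) := by
        rw [relIdeal, Ideal.span_le]
        rintro _ ⟨i, rfl⟩
        simp [t, P]
      have hfg' := h0 hfg
      rw [RingHom.mem_ker, map_sub, sub_eq_zero] at hfg'
      show MvPolynomial.aeval (fun a : {a // a ∉ U} => x a) f ∈ _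
      rw [hfg']
      clear hfg hfg'
      induction hg using Submodule.span_induction with
      | mem z hz =>
        obtain ⟨⟨e, he⟩, rfl⟩ := hz
        rw [aeval_monomial_one]
        refine Submodule.subset_span ⟨⟨e.mapDomain Subtype.val, fun a => ?_⟩, fun a ha => ?_, ?_⟩
        · by_cases ha : a ∈ U
          · rw [Finsupp.mapDomain_of_notMem_range _ _ (by simpa using ha)]
            exact (Fact.out : p.Prime).pos
          · rw [Finsupp.mapDomain_apply Subtype.val_injective e (⟨a, ha⟩ : {a // a ∉ U})]
            exact he _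
        · exact Finsupp.mapDomain_of_notMem_range _ _ (by simpa using ha)
        · rw [Module.Basis.mk_apply]
          exact pMonomial_mapDomain x Subtype.val_injective e
      | zero => simp
      | add u v _ _ hu hv => rw [map_add]; exact add_mem hu hv
      | smul s u _ hu => rw [map_smul]; exact Submodule.smul_mem _ s hu
    have hmem := hadj (hy U)
    rw [b.mem_span_image] at hmem
    let e0 : Red p B := ⟨0, fun _ => (Fact.out : p.Prime).pos⟩
    have hsupp : (b.repr y).support ⊆ {e0} := fun e he => by
      refine Finset.mem_singleton.mpr (Subtype.ext (Finsupp.ext fun a => ?_))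
      by_contra hne
      exact hne (hmem he a (Finset.mem_biUnion.mpr ⟨e, he, Finsupp.mem_support_iff.mpr hne⟩))
    have hval : y = b.repr y e0 • b e0 := by
      conv_lhs => rw [← b.linearCombination_repr y]
      rw [Finsupp.linearCombination_apply, Finsupp.sum_of_support_subset _ hsupp _ (by simp),
        Finset.sum_singleton]
    have hb0 : b e0 = 1 := by rw [Module.Basis.mk_apply]; simp [e0, pMonomial]
    rw [hb0] at hval
    obtain ⟨⟨q, z, rfl⟩, hq⟩ := mem_range_of_mem_pPower (p := p)
      (fun c : k => ⟨⟨c ^ p, c, rfl⟩, rfl⟩) (b.repr y e0)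
    exact ⟨z, hval.trans (by rw [Algebra.smul_def, mul_one]; exact hq.symm) |>.symm⟩

end Groth.Agent.Cohen12
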