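import Groth.Agent.CAlg1.Complete
import Mathlib.RingTheory.AdicCompletion.RingHom
import Mathlib.RingTheory.AdicCompletion.Functoriality
import Mathlib.RingTheory.Finiteness.Finsupp
import Mathlib.RingTheory.Finiteness.Cardinality

/-!
Extension of maps to completions and complete Nakayama for finiteness of ring maps.
-/

set_option autoImplicit false

universe u

namespace Groth.Agent.Cohen12

/-- An algebra map sending `J` into `J'` extends to the `J`-adic completion when the target is complete. -/
theorem exists_algHom_extension {V A S : Type u} [CommRing V] [CommRing A] [CommRing S] [Algebra V A]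
    [Algebra V S] (J : Ideal A) (J' : Ideal S) [IsAdicComplete J' S] (g : A →ₐ[V] S) (hg : J.map g ≤ J') :
    ∃ φ : AdicCompletion J A →ₐ[V] S, ∀ a, φ (algebraMap A (AdicCompletion J A) a) = g a := by
  have hp : ∀ n, J ^ n ≤ (J' ^ n).comap g := fun n => by
    rw [← Ideal.map_le_iff_le_comap, Ideal.map_pow]
    exact Ideal.pow_right_mono hg n
  let F : (n : ℕ) → AdicCompletion J A →ₐ[V] S ⧸ J' ^ n := fun n =>
    (Ideal.quotientMapₐ (J' ^ n) g (hp n)).comp ((AdicCompletion.evalₐ J n).restrictScalars V)
  have hF : ∀ {m n : ℕ} (hle : m ≤ n),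
      (Ideal.Quotient.factorₐ V (Ideal.pow_le_pow_right (I := J') hle)).comp (F n) = F m := fun {m n} hle => by
    ext c
    induction c using AdicCompletion.induction_on with
    | _ c =>
      simp only [F, AlgHom.comp_apply, AlgHom.restrictScalars_apply, AdicCompletion.evalₐ_mk]
      show Ideal.Quotient.mk (J' ^ m) (g (c n)) = Ideal.Quotient.mk (J' ^ m) (g (c m))
      rw [Ideal.Quotient.eq, ← map_sub]
      refine hp m ?_
      have h := c.2 hle
      rw [SModEq.sub_mem, smul_eq_mul, Ideal.mul_top] at h
      rw [← neg_sub]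
      exact neg_mem h
  refine ⟨IsAdicComplete.liftAlgHom J' F hF, fun a => ?_⟩
  refine IsHausdorff.eq_iff_smodEq (I := J').mpr fun n => ?_
  rw [smul_eq_mul, Ideal.mul_top, SModEq.sub_mem, ← Ideal.Quotient.eq_zero_iff_mem, map_sub, sub_eq_zero,
    IsAdicComplete.mk_liftAlgHom]
  show Ideal.quotientMapₐ _ g (hp n) (AdicCompletion.evalₐ J n (algebraMap A _ a)) = _
  rw [AlgHom.commutes]
  rfl

/-- Complete Nakayama: a ring map is finite if it is finite modulo an ideal for which the source is
complete and the target separated. -/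
theorem finite_of_finite_mk_comp {R S : Type u} [CommRing R] [CommRing S] (φ : R →+* S) (J : Ideal R)
    [IsPrecomplete J R] [IsHausdorff (J.map φ) S]
    (h : ((Ideal.Quotient.mk (J.map φ)).comp φ).Finite) : φ.Finite := by
  classical
  let : Algebra R S := φ.toAlgebra
  have : Module.Finite R (S ⧸ J.map φ) := h
  obtain ⟨n, t, ht⟩ := Module.Finite.exists_fin (R := R) (M := S ⧸ J.map φ)
  choose s hs using fun i => Ideal.Quotient.mk_surjective (t i)
  have : IsPrecomplete J (Fin n → R) := by
    constructor
    intro f hf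
    have hmem : ∀ (m : ℕ) (x : Fin n → R), x ∈ (J ^ m • ⊤ : Submodule R (Fin n → R)) ↔ ∀ i, x i ∈ J ^ m := by
      intro m x
      refine ⟨fun hx i => ?_, fun hx => ?_⟩
      · exact Submodule.smul_induction_on (p := fun y : Fin n → R => y i ∈ J ^ m) hx
          (fun r hr y _ => Ideal.mul_mem_right _ _ hr) (fun y z hy hz => add_mem hy hz)
      · rw [← Finset.univ_sum_single x]
        refine sum_mem fun i _ => ?_
        rw [show (Pi.single i (x i) : Fin n → R) = x i • Pi.single i 1 by simp [← Pi.single_smul]]
        exact Submodule.smul_mem_smul (hx i) Submodule.mem_top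
    have hlim : ∀ i, ∃ L : R, ∀ m, f m i ≡ L [SMOD (J ^ m • ⊤ : Submodule R R)] := fun i =>
      IsPrecomplete.prec inferInstance fun {a b} hab => by
        rw [SModEq.sub_mem, smul_eq_mul, Ideal.mul_top]
        exact (hmem a _).mp (SModEq.sub_mem.mp (hf hab)) i
    choose L hL using hlim
    refine ⟨L, fun m => SModEq.sub_mem.mpr ((hmem m _).mpr fun i => ?_)⟩
    have := SModEq.sub_mem.mp (hL i m)
    rwa [smul_eq_mul, Ideal.mul_top] at this
  have : IsHausdorff J S := IsHausdorff.map_algebraMap_iff.mp ‹IsHausdorff (J.map φ) S›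
  let Φ : (Fin n → R) →ₗ[R] S := Fintype.linearCombination R s
  have hJ : (J • ⊤ : Submodule R S) = (J.map φ).restrictScalars R := Ideal.smul_top_eq_map _
  have hsurj : Function.Surjective (Submodule.mkQ (J • ⊤ : Submodule R S) ∘ₗ Φ) := by
    intro y
    obtain ⟨z, rfl⟩ := Submodule.mkQ_surjective _ y
    have hz : Ideal.Quotient.mk (J.map φ) z ∈ Submodule.span R (Set.range t) := ht ▸ Submodule.mem_top
    obtain ⟨c, hc⟩ := (Submodule.mem_span_range_iff_exists_fun R).mp hz
    refine ⟨c, ?_⟩
    refine (Submodule.Quotient.eq _).mpr ?_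
    rw [hJ]
    show Φ c - z ∈ J.map φ
    rw [← Ideal.Quotient.eq, Fintype.linearCombination_apply, map_sum, ← hc]
    exact Finset.sum_congr rfl fun i _ => by rw [← hs i]; rfl
  have hΦ := surjective_of_mkQ_comp_surjective (I := J) (f := Φ) hsurj
  exact Module.Finite.of_surjective Φ hΦ

end Groth.Agent.Cohen12
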