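import Groth.Agent.EGA4H10.LengthDim
import Groth.Agent.CAlg6.K0Hilbert

/-!
# The Hilbert–Samuel function of a finite module over a semi-local ring

Eventual polynomiality is proved by induction on a list of generators of the ideal, on pairs of
filtrations `L ≤ N`; the lower bound is the one of `EGA4H10.LengthDim`, for ideals in the Jacobson
radical.
-/

set_option autoImplicit false
universe u
open Module
open scoped Pointwise

namespace Groth.Agent.Cohen12.HilbertSamuel

open Groth.Agent.CAlg6.K0Hilbert (NP)

variable {A : Type u} [CommRing A]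

section Poly

variable {M : Type u} [AddCommGroup M] [Module A M]

/-- The colength of a submodule, as an integer. -/
noncomputable def colen (P : Submodule A M) : ℤ := ((Module.length A (M ⧸ P)).toNat : ℤ)

theorem colen_split {L N K : Submodule A M} (hKN : K ≤ N) (x : A)
    (hK : ∀ z ∈ N, z ∈ K ↔ x • z ∈ L) (hL : Module.length A (M ⧸ L) ≠ ⊤)
    (hKf : Module.length A (M ⧸ K) ≠ ⊤) :
    colen L + colen N = colen (L ⊔ N.map (LinearMap.lsmul A M x)) + colen K := by
  let μ : N →ₗ[A] M ⧸ L := L.mkQ ∘ₗ (LinearMap.lsmul A M x).comp N.subtype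
  let ι : N →ₗ[A] M ⧸ K := K.mkQ ∘ₗ N.subtype
  have hμι : LinearMap.ker μ = LinearMap.ker ι := by
    ext ⟨z, hz⟩
    show (Submodule.Quotient.mk (x • z) : M ⧸ L) = 0 ↔ (Submodule.Quotient.mk z : M ⧸ K) = 0
    rw [Submodule.Quotient.mk_eq_zero, Submodule.Quotient.mk_eq_zero]
    exact (hK z hz).symm
  have hr : Module.length A (LinearMap.range μ) = Module.length A (LinearMap.range ι) := by
    rw [← μ.quotKerEquivRange.length_eq, ← ι.quotKerEquivRange.length_eq, hμι]
  have hμr : LinearMap.range μ = (L ⊔ N.map (LinearMap.lsmul A M x)).map L.mkQ := by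
    simp only [μ, LinearMap.range_comp, Submodule.range_subtype, Submodule.map_sup,
      Submodule.mkQ_map_self, bot_sup_eq]
  have hιr : LinearMap.range ι = N.map K.mkQ := by
    simp only [ι, LinearMap.range_comp, Submodule.range_subtype]
  have e1 : Module.length A (M ⧸ L) =
      Module.length A (LinearMap.range μ) + Module.length A (M ⧸ (L ⊔ N.map (LinearMap.lsmul A M x))) := by
    rw [Module.length_eq_add_of_exact (LinearMap.range μ).subtype (LinearMap.range μ).mkQ
      (Submodule.subtype_injective _) (Submodule.mkQ_surjective _) (LinearMap.exact_subtype_mkQ _)]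
    congr 1
    exact ((Submodule.quotEquivOfEq _ _ hμr).trans
      (Submodule.quotientQuotientEquivQuotient L _ le_sup_left)).length_eq
  have e2 : Module.length A (M ⧸ K) =
      Module.length A (LinearMap.range ι) + Module.length A (M ⧸ N) := by
    rw [Module.length_eq_add_of_exact (LinearMap.range ι).subtype (LinearMap.range ι).mkQ
      (Submodule.subtype_injective _) (Submodule.mkQ_surjective _) (LinearMap.exact_subtype_mkQ _)]
    congr 1
    exact ((Submodule.quotEquivOfEq _ _ hιr).trans
      (Submodule.quotientQuotientEquivQuotient K N hKN)).length_eq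
  rw [hr] at e1
  generalize Module.length A (LinearMap.range ι) = a at e1 e2
  simp only [colen]
  generalize Module.length A (M ⧸ L) = l at e1 hL
  generalize Module.length A (M ⧸ K) = k at e2 hKf
  generalize Module.length A (M ⧸ N) = b at e2
  generalize Module.length A (M ⧸ (L ⊔ N.map (LinearMap.lsmul A M x))) = c at e1
  subst e1 e2
  obtain ⟨ha, hc⟩ := WithTop.add_ne_top.mp hL
  obtain ⟨-, hb⟩ := WithTop.add_ne_top.mp hKf
  lift a to ℕ using ha
  lift b to ℕ using hb
  lift c to ℕ using hc
  simp only [← Nat.cast_add, ENat.toNat_natCast]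
  push_cast
  ring

variable [IsNoetherianRing A] [Module.Finite A M]

theorem np_pair (J : Ideal A) (G : Finset A) (hG : Ideal.span (G : Set A) = J) :
    ∀ (l : List A), (∀ x ∈ l, x ∈ J) → ∀ (L N : J.Filtration M), (∀ n, L.N n ≤ N.N n) →
      N ≤ J.stableFiltration ⊤ → (∀ n, Module.length A (M ⧸ L.N n) ≠ ⊤) →
      (∀ x ∈ G, x ∉ l → ∀ n, ∀ z ∈ N.N n, x • z ∈ L.N (n + 1)) →
      NP (fun n => colen (L.N n) - colen (N.N n)) := by
  intro l
  induction l with
  | nil =>
    intro _ L N hLN hN _ hkill
    obtain ⟨n₀, hn₀⟩ := (J.stableFiltration_stable (⊤ : Submodule A M)).of_le hN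
    refine NP.of_eventually_zero (n₀ + 1) fun n hn => ?_
    obtain ⟨m, rfl⟩ : ∃ m, n = m + 1 := ⟨n - 1, by omega⟩
    have h : N.N (m + 1) ≤ L.N (m + 1) := by
      rw [← hn₀ m (by omega)]
      have hJ : J • N.N m ≤ Ideal.span (G : Set A) • N.N m := Submodule.smul_mono_left hG.ge
      refine hJ.trans (Submodule.smul_le.mpr fun a ha z hz => ?_)
      induction ha using Submodule.span_induction with
      | mem b hb => exact hkill b hb List.not_mem_nil m z hz
      | zero => simp
      | add b c _ _ h1 h2 => rw [add_smul]; exact add_mem h1 h2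
      | smul r b _ h1 => rw [smul_eq_mul, mul_smul]; exact Submodule.smul_mem _ r h1
    rw [le_antisymm (hLN _) h, sub_self]
  | cons x l ih =>
    intro hl L N hLN hN hfin hkill
    have hx : x ∈ J := hl x List.mem_cons_self
    have hxN : ∀ n, ∀ z ∈ N.N n, x • z ∈ N.N (n + 1) := fun n z hz =>
      N.smul_le n (Submodule.smul_mem_smul hx hz)
    let K : J.Filtration M :=
      { N := fun n => N.N n ⊓ (L.N (n + 1)).comap (LinearMap.lsmul A M x)
        mono := fun n => inf_le_inf (N.mono n) (Submodule.comap_mono (L.mono (n + 1)))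
        smul_le := fun n => by
          refine Submodule.smul_le.mpr fun a ha z hz => ⟨N.smul_le n (Submodule.smul_mem_smul ha hz.1), ?_⟩
          show x • a • z ∈ L.N (n + 1 + 1)
          rw [smul_comm]
          exact L.smul_le (n + 1) (Submodule.smul_mem_smul ha hz.2) }
    let N' : J.Filtration M :=
      { N := fun n => N.N (n + 1), mono := fun n => N.mono (n + 1), smul_le := fun n => N.smul_le (n + 1) }
    let L' : J.Filtration M :=
      { N := fun n => L.N (n + 1) ⊔ (N.N n).map (LinearMap.lsmul A M x)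
        mono := fun n => sup_le_sup (L.mono (n + 1)) (Submodule.map_mono (N.mono n))
        smul_le := fun n => by
          rw [Submodule.smul_sup]
          refine sup_le_sup (L.smul_le (n + 1)) ?_
          rw [← Submodule.map_smul'']
          exact Submodule.map_mono (N.smul_le n) }
    have hLK : ∀ n, L.N n ≤ K.N n := fun n z hz =>
      ⟨hLN n hz, L.smul_le n (Submodule.smul_mem_smul hx hz)⟩
    have hKfin : ∀ n, Module.length A (M ⧸ K.N n) ≠ ⊤ := fun n =>
      ne_top_of_le_ne_top (hfin n)
        (Module.length_le_of_surjective (Submodule.factor (hLK n)) (Submodule.factor_surjective _))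
    have hl' : ∀ y ∈ l, y ∈ J := fun y hy => hl y (List.mem_cons_of_mem _ hy)
    have hg := ih hl' L K hLK (fun n => inf_le_left.trans (hN n)) hfin fun y hy hyl n z hz => by
      by_cases hyx : y = x
      · subst hyx; exact hz.2
      · exact hkill y hy (by simp [hyx, hyl]) n z hz.1
    have hh := ih hl' L' N' (fun n => sup_le (hLN (n + 1)) (Submodule.map_le_iff_le_comap.mpr fun z hz => hxN n z hz))
      (fun n => (N.mono n).trans (hN n))
      (fun n => ne_top_of_le_ne_top (hfin (n + 1))
        (Module.length_le_of_surjective (Submodule.factor le_sup_left) (Submodule.factor_surjective _)))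
      fun y hy hyl n z hz => by
        by_cases hyx : y = x
        · subst hyx; exact Submodule.mem_sup_right ⟨z, hz, rfl⟩
        · exact Submodule.mem_sup_left (hkill y hy (by simp [hyx, hyl]) (n + 1) z hz)
    refine NP.of_diff ((hh.sub hg).congr 0 fun n _ => ?_)
    have key := colen_split (L := L.N (n + 1)) (N := N.N n) (K := K.N n) inf_le_left x
      (fun z hz => ⟨fun h => h.2, fun h => ⟨hz, h⟩⟩) (hfin (n + 1)) (hKfin n)
    show _ = (colen (L'.N n) - colen (N'.N n)) - (colen (L.N n) - colen (K.N n))
    simp only [L', N'] at key ⊢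
    linarith

omit [Module.Finite A M] in
theorem length_pow_ne_top (J : Ideal A) (h : Module.length A (M ⧸ (J • (⊤ : Submodule A M))) ≠ ⊤) (n : ℕ) :
    Module.length A (M ⧸ (J ^ n • (⊤ : Submodule A M))) ≠ ⊤ := by
  obtain ⟨G, hG⟩ := IsNoetherian.noetherian J
  obtain ⟨L, hL⟩ := ENat.ne_top_iff_exists.mp h
  have hspan : Ideal.ofList G.toList = J := by
    rw [← hG, Ideal.ofList]; simp
  refine ne_top_of_le_ne_top (ENat.natCast_ne_top (L * n ^ G.toList.length)) ?_
  have := EGA4H10.LengthDim.length_le_mul_pow G.toList M L (by rw [hspan]; exact hL.ge) n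
  rwa [hspan] at this

/-- `n ↦ length (M/JⁿM)` is eventually a combination of binomial coefficients. -/
theorem np_length (J : Ideal A) (h : Module.length A (M ⧸ (J • (⊤ : Submodule A M))) ≠ ⊤) :
    NP (fun n => colen (J ^ n • (⊤ : Submodule A M))) := by
  classical
  obtain ⟨G, hG⟩ := IsNoetherian.noetherian J
  refine NP.of_diff ?_
  let L : J.Filtration M :=
    { N := fun n => J ^ (n + 1) • ⊤
      mono := fun n => (J.stableFiltration (⊤ : Submodule A M)).mono (n + 1)
      smul_le := fun n => (J.stableFiltration (⊤ : Submodule A M)).smul_le (n + 1) }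
  exact np_pair J G hG G.toList (fun x hx => hG ▸ Submodule.subset_span (Finset.mem_toList.mp hx)) L
    (J.stableFiltration ⊤) (fun n => (J.stableFiltration (⊤ : Submodule A M)).mono n) le_rfl
    (fun n => length_pow_ne_top J h (n + 1)) fun x hx hxl => absurd (Finset.mem_toList.mpr hx) hxl

end Poly

section Lower

variable [IsNoetherianRing A]

/-- lower bound for `A/q` -/
theorem exists_lower_prime (J : Ideal A) (hJ : J ≤ Ring.jacobson A) (e : ℕ) :
    ∀ (q : PrimeSpectrum A), (∃ l : LTSeries (PrimeSpectrum A), l.head = q ∧ l.length = e) →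
      ∃ c : ℕ, ∀ n : ℕ, ((n.choose e : ℕ) : ℕ∞) ≤
        Module.length A ((A ⧸ q.asIdeal) ⧸ (J ^ (c * n + 1) • (⊤ : Submodule A (A ⧸ q.asIdeal)))) := by
  induction e with
  | zero =>
    intro q _
    refine ⟨0, fun n => ?_⟩
    rw [Nat.choose_zero_right, Nat.cast_one, Order.one_le_iff_pos, Module.length_pos_iff,
      Submodule.Quotient.nontrivial_iff]
    exact (Submodule.top_ne_ideal_smul_of_le_jacobson_annihilator fun a ha =>
      EGA4Alg4.Semilocal.mem_jacobson_annihilator (hJ (by simpa using ha))).symm
  | succ e ih =>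
    rintro q ⟨l, hl, hlen⟩
    obtain ⟨c, hc⟩ := ih (l ⟨1, by omega⟩) ⟨l.tail (by omega), by simp [RelSeries.head, RelSeries.tail]; rfl, by simp [hlen]⟩
    set q1 := l ⟨1, by omega⟩ with hq1
    have hlt : q.asIdeal < q1.asIdeal := by
      rw [← hl]
      exact l.strictMono (by simp [Fin.lt_def] : (0 : Fin (l.length + 1)) < ⟨1, _⟩)
    obtain ⟨x, hx1, hxq⟩ := SetLike.exists_of_lt hlt
    let B := A ⧸ q.asIdeal
    let μ : B →ₗ[A] B := LinearMap.lsmul A B x
    have hμ : Function.Injective μ := by
      rw [injective_iff_map_eq_zero]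
      intro b hb
      obtain ⟨b, rfl⟩ := Ideal.Quotient.mk_surjective b
      change Ideal.Quotient.mk q.asIdeal (x * b) = 0 at hb
      rw [Ideal.Quotient.eq_zero_iff_mem] at hb ⊢
      exact (q.2.mem_or_mem hb).resolve_left hxq
    obtain ⟨k, hk⟩ := EGA4H10.LengthDim.exists_shift J μ hμ
    set C := max c k
    set f : ℕ → ℕ∞ := fun m => Module.length A (B ⧸ (J ^ m • (⊤ : Submodule A B))) with hf
    have hmono : ∀ a b, a ≤ b → f a ≤ f b := fun a b hab =>
      Module.length_le_of_surjective (Submodule.factor (Submodule.pow_smul_top_le J B hab))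
        (Submodule.factor_surjective _)
    have hstep : ∀ n, f (C * n + 1) + ((n.choose e : ℕ) : ℕ∞) ≤ f (C * (n + 1) + 1) := by
      intro n
      set m := C * (n + 1) + 1 with hm
      have hmk : k ≤ m := by
        rw [hm, mul_add, mul_one]
        have : k ≤ C := le_max_right _ _
        omega
      refine le_trans (add_le_add (hmono _ (m - k) ?_) ?_) (hk m hmk)
      · rw [hm, mul_add, mul_one]
        have : k ≤ C := le_max_right _ _
        omega
      · refine le_trans (le_trans ?_ (hc (n + 1))) ?_
        · exact_mod_cast Nat.choose_le_choose e n.le_succ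
        · have hle : LinearMap.range μ ⊔ J ^ m • (⊤ : Submodule A B) ≤
              LinearMap.ker ((J ^ (c * (n + 1) + 1) • (⊤ : Submodule A (A ⧸ q1.asIdeal))).mkQ ∘ₗ
                Submodule.factor (hlt.le : q.asIdeal ≤ q1.asIdeal)) := by
            refine sup_le ?_ ?_
            · rintro _ ⟨b, rfl⟩
              obtain ⟨b, rfl⟩ := Ideal.Quotient.mk_surjective b
              rw [LinearMap.mem_ker, LinearMap.comp_apply,
                show Submodule.factor (hlt.le : q.asIdeal ≤ q1.asIdeal) (μ (Ideal.Quotient.mk _ b)) =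
                  Ideal.Quotient.mk q1.asIdeal (x * b) from rfl,
                Ideal.Quotient.eq_zero_iff_mem.mpr (Ideal.mul_mem_right b _ hx1), map_zero]
            · refine Submodule.smul_le.mpr fun a ha b _ => ?_
              rw [LinearMap.mem_ker, map_smul, LinearMap.comp_apply,
                ← map_smul, Submodule.mkQ_apply, Submodule.Quotient.mk_eq_zero]
              refine Submodule.smul_mem_smul (Ideal.pow_le_pow_right ?_ ha) Submodule.mem_top
              rw [hm]
              exact Nat.add_le_add_right (Nat.mul_le_mul_right _ (le_max_left _ _)) _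
          refine Module.length_le_of_surjective (Submodule.liftQ _ _ hle) fun z => ?_
          obtain ⟨w, rfl⟩ := Submodule.Quotient.mk_surjective _ z
          obtain ⟨b, rfl⟩ := Submodule.factor_surjective (hlt.le : q.asIdeal ≤ q1.asIdeal) w
          exact ⟨Submodule.Quotient.mk b, rfl⟩
    refine ⟨C, fun n => ?_⟩
    induction n with
    | zero => simp
    | succ n ihn =>
      rw [Nat.choose_succ_succ', Nat.cast_add, add_comm]
      exact le_trans (add_le_add ihn le_rfl) (hstep n)

/-- lower bound -/
theorem exists_lower (J : Ideal A) (hJ : J ≤ Ring.jacobson A) (M : Type u) [AddCommGroup M]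
    [Module A M] [Module.Finite A M] (e : ℕ) (he : (e : WithBot ℕ∞) ≤ supportDim A M) :
    ∃ c : ℕ, ∀ n : ℕ, ((n.choose e : ℕ) : ℕ∞) ≤
      Module.length A (M ⧸ (J ^ (c * n + 1) • (⊤ : Submodule A M))) := by
  obtain ⟨l, hl⟩ := Order.le_krullDim_iff.mp he
  have hne : ((l.head : PrimeSpectrum A)) ∈ Module.support A M := l.head.2
  have key : ∀ P : PrimeSpectrum A, P ∈ Module.support A M → Module.annihilator A M ≤ P.asIdeal := by
    intro P hP
    rwa [Module.support_eq_zeroLocus, PrimeSpectrum.mem_zeroLocus, SetLike.coe_subset_coe] at hP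
  replace hne := key _ hne
  obtain ⟨q, hq, hql⟩ := Ideal.exists_minimalPrimes_le (J := l.head.1.asIdeal) hne
  have hass := Module.associatedPrimes.minimalPrimes_annihilator_subset_associatedPrimes A M hq
  obtain ⟨hqp, y, hy⟩ := isAssociatedPrime_iff.mp hass
  let l' : LTSeries (PrimeSpectrum A) := l.map (fun p => p.1) fun _ _ h => h
  have hser : ∃ s : LTSeries (PrimeSpectrum A), s.head = ⟨q, hqp⟩ ∧ s.length = e := by
    have hh : ({ toFun := fun i => if i = 0 then (⟨q, hqp⟩ : PrimeSpectrum A) else l' i
                 length := l'.length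
                 step := fun i => by
                   have h0 := l'.step i
                   by_cases hi : i.castSucc = 0
                   · show (if i.castSucc = 0 then (⟨q, hqp⟩ : PrimeSpectrum A) else l' i.castSucc) <
                       (if i.succ = 0 then (⟨q, hqp⟩ : PrimeSpectrum A) else l' i.succ)
                     rw [if_pos hi, if_neg (Fin.succ_ne_zero i)]
                     refine lt_of_le_of_lt ?_ h0
                     rw [hi]
                     exact hql
                   · show (if i.castSucc = 0 then (⟨q, hqp⟩ : PrimeSpectrum A) else l' i.castSucc) <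
                       (if i.succ = 0 then (⟨q, hqp⟩ : PrimeSpectrum A) else l' i.succ)
                     rw [if_neg hi, if_neg (Fin.succ_ne_zero i)]
                     exact h0 } : LTSeries (PrimeSpectrum A)).head = ⟨q, hqp⟩ := by simp [RelSeries.head]
    exact ⟨_, hh, hl⟩
  obtain ⟨c, hc⟩ := exists_lower_prime J hJ e ⟨q, hqp⟩ hser
  let f : (A ⧸ q) →ₗ[A] M := Submodule.liftQ q (LinearMap.toSpanSingleton A M y) fun a ha => by
    rw [hy, Submodule.mem_colon_singleton, Submodule.mem_bot] at ha
    exact ha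
  have hf : Function.Injective f := by
    rw [injective_iff_map_eq_zero]
    intro b hb
    obtain ⟨b, rfl⟩ := Ideal.Quotient.mk_surjective b
    rw [Ideal.Quotient.eq_zero_iff_mem, hy, Submodule.mem_colon_singleton, Submodule.mem_bot]
    exact hb
  obtain ⟨k, hk⟩ := EGA4H10.LengthDim.exists_shift J f hf
  refine ⟨c + k, fun n => ?_⟩
  rcases Nat.eq_zero_or_pos n with rfl | hn
  · rcases Nat.eq_zero_or_pos e with rfl | he0
    · rw [Nat.choose_zero_right, Nat.cast_one, Order.one_le_iff_pos, Module.length_pos_iff,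
        Submodule.Quotient.nontrivial_iff]
      have : Nontrivial M := Function.Injective.nontrivial hf
      exact (Submodule.top_ne_ideal_smul_of_le_jacobson_annihilator fun a ha =>
      EGA4Alg4.Semilocal.mem_jacobson_annihilator (hJ (by simpa using ha))).symm
    · rw [Nat.choose_eq_zero_of_lt he0, Nat.cast_zero]
      exact zero_le
  · have hkn : k ≤ k * n := Nat.le_mul_of_pos_right k hn
    have hle : (c + k) * n = c * n + k * n := add_mul _ _ _
    refine (hc n).trans (le_trans ?_ (le_trans le_self_add (hk ((c + k) * n + 1) (by omega))))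
    exact Module.length_le_of_surjective (Submodule.factor (Submodule.pow_smul_top_le J _ (by omega)))
      (Submodule.factor_surjective _)

end Lower

section Degree

open Filter Polynomial

/-- The binomial basis. -/
theorem exists_polynomial_of_np {h : ℕ → ℤ} (hh : NP h) :
    ∃ (P : ℚ[X]) (N : ℕ), ∀ n, N ≤ n → (h n : ℚ) = P.eval (n : ℚ) := by
  obtain ⟨r, a, N, -, hN⟩ := hh
  refine ⟨∑ i ∈ Finset.range r, C ((a i : ℚ) / i.factorial) * descPochhammer ℚ i, N, fun n hn => ?_⟩
  rw [hN n hn, Polynomial.eval_finsetSum, Int.cast_sum]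
  refine Finset.sum_congr rfl fun i _ => ?_
  rw [Polynomial.eval_mul, Polynomial.eval_C, descPochhammer_eval_eq_descFactorial,
    Nat.descFactorial_eq_factorial_mul_choose, smul_eq_mul]
  push_cast
  have : (i.factorial : ℚ) ≠ 0 := by exact_mod_cast i.factorial_ne_zero
  field_simp

theorem exists_eval_le (P : ℚ[X]) : ∃ a : ℕ, ∀ n : ℕ, P.eval (n : ℚ) ≤ (a : ℚ) * ((n : ℚ) + 1) ^ P.natDegree := by
  obtain ⟨a, ha⟩ := exists_nat_ge (∑ i ∈ Finset.range (P.natDegree + 1), |P.coeff i|)
  refine ⟨a, fun n => ?_⟩
  rw [Polynomial.eval_eq_sum_range]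
  refine le_trans ?_ (mul_le_mul_of_nonneg_right ha (by positivity))
  rw [Finset.sum_mul]
  refine Finset.sum_le_sum fun i hi => ?_
  refine mul_le_mul (le_abs_self _) ?_ (by positivity) (abs_nonneg _)
  exact le_trans (pow_le_pow_left₀ (by positivity) (by linarith) i)
    (pow_le_pow_right₀ (by linarith [n.cast_nonneg (α := ℚ)]) (by simpa [Nat.lt_succ_iff] using hi))

theorem natDegree_le_of_le_pow {P : ℚ[X]} {L d N : ℕ} (h0 : ∀ n, N ≤ n → 0 ≤ P.eval (n : ℚ))
    (h : ∀ n, N ≤ n → P.eval (n : ℚ) ≤ (L : ℚ) * (n : ℚ) ^ d) : P.natDegree ≤ d := by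
  by_contra hc
  push Not at hc
  have hdeg : P.degree = P.natDegree := degree_eq_natDegree (by rintro rfl; simp at hc)
  have hlt : (C (L : ℚ) * X ^ d).degree < P.degree := by
    refine (degree_C_mul_X_pow_le d _).trans_lt ?_
    rw [hdeg]; exact_mod_cast hc
  rcases le_total P.leadingCoeff 0 with hneg | hpos
  · have ht := (P.tendsto_atBot_of_leadingCoeff_nonpos (by rw [hdeg]; exact_mod_cast (by omega : 0 < P.natDegree)) hneg).comp
      tendsto_natCast_atTop_atTop
    obtain ⟨n, hn, hn'⟩ := ((ht.eventually (eventually_lt_atBot 0)).and (eventually_ge_atTop N)).exists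
    exact absurd (h0 n hn') (not_le.mpr hn)
  · have hlc : (C (L : ℚ) * X ^ d - P).leadingCoeff = -P.leadingCoeff := leadingCoeff_sub_of_degree_lt' hlt
    have hdq : 0 < (C (L : ℚ) * X ^ d - P).degree := by
      rw [degree_sub_eq_right_of_degree_lt hlt, hdeg]; exact_mod_cast (by omega : 0 < P.natDegree)
    have ht := ((C (L : ℚ) * X ^ d - P).tendsto_atBot_of_leadingCoeff_nonpos hdq (by linarith)).comp
      tendsto_natCast_atTop_atTop
    obtain ⟨n, hn, hn'⟩ := ((ht.eventually (eventually_lt_atBot 0)).and (eventually_ge_atTop N)).exists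
    have := h n hn'
    simp only [Function.comp_apply, eval_sub, eval_mul, eval_C, eval_pow, eval_X] at hn
    linarith

variable [IsNoetherianRing A] [Finite (MaximalSpectrum A)]

theorem length_quotient_jacobson_ne_top (M : Type u) [AddCommGroup M] [Module A M] [Module.Finite A M] :
    Module.length A (M ⧸ (Ring.jacobson A • (⊤ : Submodule A M))) ≠ ⊤ := by
  refine Module.length_ne_top_iff.mpr (EGA4Alg4.Semilocal.isFiniteLength_of_supportDim_nonpos ?_)
  refine Order.krullDim_nonpos_iff_forall_isMin.mpr fun p q hqp => ?_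
  have hle : ∀ r : Module.support A (M ⧸ (Ring.jacobson A • (⊤ : Submodule A M))), Ring.jacobson A ≤ r.1.asIdeal := by
    rintro ⟨r, hr⟩
    rw [Module.support_quotient] at hr
    exact hr.2
  have := EGA4Alg4.Semilocal.exists_maximal_le (hle q)
  exact le_of_eq (Subtype.ext (PrimeSpectrum.ext (this.eq_of_le p.1.2.ne_top hqp).symm))

/-- The Hilbert–Samuel polynomial has degree the dimension of the module. -/
theorem exists_hilbertSamuel (M : Type u) [AddCommGroup M] [Module A M] [Module.Finite A M] [Nontrivial M] :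
    ∃ P : ℚ[X], (∃ N : ℕ, ∀ n : ℕ, N ≤ n → ∃ ℓ : ℕ,
        Module.length A (M ⧸ (Ring.jacobson A ^ n • (⊤ : Submodule A M))) = ℓ ∧ (ℓ : ℚ) = P.eval (n : ℚ)) ∧
      (P.natDegree : WithBot ℕ∞) = Module.supportDim A M := by
  set J := Ring.jacobson A with hJ
  have h1 : Module.length A (M ⧸ (J • (⊤ : Submodule A M))) ≠ ⊤ := length_quotient_jacobson_ne_top M
  obtain ⟨P, N, hP⟩ := exists_polynomial_of_np (np_length J h1)
  set F : ℕ → ℕ := fun n => (Module.length A (M ⧸ (J ^ n • (⊤ : Submodule A M)))).toNat with hF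
  have hlen : ∀ n, Module.length A (M ⧸ (J ^ n • (⊤ : Submodule A M))) = (F n : ℕ∞) := fun n =>
    (ENat.natCast_toNat (length_pow_ne_top J h1 n)).symm
  have hPF : ∀ n, N ≤ n → (F n : ℚ) = P.eval (n : ℚ) := fun n hn => by
    rw [← hP n hn, colen, Int.cast_natCast]
  refine ⟨P, ⟨N, fun n hn => ⟨F n, hlen n, hPF n hn⟩⟩, ?_⟩
  obtain ⟨d, hd⟩ := EGA4Alg4.Semilocal.exists_supportDim_eq (A := A) (M := M)
  rw [hd, Nat.cast_inj]
  refine le_antisymm ?_ ?_
  · obtain ⟨xs, hlen', hxs, hfin⟩ := EGA4Alg4.Semilocal.exists_parameters d hd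
    obtain ⟨L, hL⟩ := ENat.ne_top_iff_exists.mp (Module.length_ne_top_iff.mpr hfin)
    refine natDegree_le_of_le_pow (L := L) (N := N) (fun n hn => by rw [← hPF n hn]; positivity) fun n hn => ?_
    rw [← hPF n hn]
    have h2 : (F n : ℕ∞) ≤ ((L * n ^ d : ℕ) : ℕ∞) := by
      rw [← hlen n, ← hlen']
      refine (Module.length_le_of_surjective (Submodule.factor ?_) (Submodule.factor_surjective _)).trans
        (EGA4H10.LengthDim.length_le_mul_pow xs M L hL.ge n)
      exact Submodule.smul_mono_left (Ideal.pow_right_mono (Ideal.span_le.mpr fun x hx => hxs x hx) n)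
    exact_mod_cast h2
  · obtain ⟨c, hc⟩ := exists_lower J le_rfl M d (le_of_eq hd.symm)
    obtain ⟨a, ha⟩ := exists_eval_le P
    refine EGA4H10.LengthDim.le_of_choose_le (a := a * (N + 1) ^ P.natDegree) (b := c) fun n => ?_
    have h2 : (n.choose d : ℕ∞) ≤ (F (c * n + 1 + N) : ℕ∞) := by
      rw [← hlen]
      exact (hc n).trans (Module.length_le_of_surjective
        (Submodule.factor (Submodule.pow_smul_top_le J M (by omega))) (Submodule.factor_surjective _))
    have h3 : n.choose d ≤ F (c * n + 1 + N) := by exact_mod_cast h2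
    have h4 : (F (c * n + 1 + N) : ℚ) ≤ ((a * (c * n + 1 + N + 1) ^ P.natDegree : ℕ) : ℚ) := by
      rw [hPF _ (Nat.le_add_left _ _)]
      refine (ha _).trans (le_of_eq ?_)
      push_cast
      ring
    refine h3.trans ((Nat.cast_le.mp h4).trans ?_)
    rw [mul_assoc, ← mul_pow]
    refine Nat.mul_le_mul_left _ (Nat.pow_le_pow_left ?_ _)
    nlinarith [Nat.zero_le (N * (c * n + 1))]

end Degree

end Groth.Agent.Cohen12.HilbertSamuel
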