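import Groth.Prelude
import Groth.Agent.Cohen12.RegularFS
import Groth.Agent.Cohen12.Section
import Groth.Agent.EGA4Alg4.KaehlerCrit
import Groth.Agent.CAlg1.Complete
import Mathlib.RingTheory.MvPowerSeries.Basic
import Mathlib.LinearAlgebra.TensorProduct.RightExactness

/-!
# Formally smooth local algebras with given residue extension

The imperfection module of the residue extension of a formally smooth local algebra is finite;
conversely a finite imperfection module is absorbed by the cotangent space of a power series ring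
over `K` whose structure map is deformed by derivations.
-/

set_option autoImplicit false

universe u

open IsLocalRing TensorProduct KaehlerDifferential

namespace Groth.Agent.Cohen12

/-- The imperfection module of the residue extension is finite. -/
theorem imperfection_finite {k A K : Type u} [Field k] [CommRing A] [IsLocalRing A] [IsNoetherianRing A]
    [Field K] [Algebra k A] [Algebra k K] [Algebra A K] [IsScalarTower k A K]
    (hsurj : Function.Surjective (algebraMap A K))
    (hfs : CAlgX.IsAdicFormallySmooth k A (maximalIdeal A)) :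
    Module.Finite K (EGA41.imperfection ℤ k K) := by
  have hker : RingHom.ker (algebraMap A K) = maximalIdeal A :=
    IsLocalRing.eq_maximalIdeal (RingHom.ker_isMaximal_of_surjective _ hsurj)
  let e₀ : ResidueField A →ₗ[A] K :=
    Submodule.liftQ (maximalIdeal A) (Algebra.linearMap A K) fun x hx => by
      rw [LinearMap.mem_ker, Algebra.linearMap_apply, ← RingHom.mem_ker, hker]
      exact hx
  have he₀ : Function.Bijective e₀ := by
    refine ⟨?_, fun z => ?_⟩
    · refine (injective_iff_map_eq_zero _).mpr fun z hz => ?_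
      obtain ⟨a, rfl⟩ := Submodule.Quotient.mk_surjective _ z
      exact (Submodule.Quotient.mk_eq_zero _).mpr (hker.le hz)
    · obtain ⟨a, rfl⟩ := hsurj z
      exact ⟨Submodule.Quotient.mk a, rfl⟩
  let e := LinearEquiv.ofBijective e₀ he₀
  have h1 : Function.Injective ((mapBaseChange ℤ k A).baseChange K) := by
    intro x y hxy
    apply (e.symm.rTensor (A ⊗[k] Ω[k⁄ℤ])).injective
    apply EGA4Alg4.KCrit13.injective_of_isAdicFormallySmooth hfs
    have h := congrArg ((e.symm.toLinearMap).rTensor (Ω[A⁄ℤ])) hxy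
    have hc := fun z => LinearMap.congr_fun
      ((LinearMap.rTensor_comp_lTensor (f := e.symm.toLinearMap) (g := mapBaseChange ℤ k A)).trans
        (LinearMap.lTensor_comp_rTensor (f := e.symm.toLinearMap) (g := mapBaseChange ℤ k A)).symm) z
    exact ((hc x).symm.trans h).trans (hc y)
  let α : K ⊗[k] Ω[k⁄ℤ] →ₗ[K] K ⊗[A] Ω[A⁄ℤ] :=
    (mapBaseChange ℤ k A).baseChange K ∘ₗ
      (AlgebraTensorModule.cancelBaseChange k A K K (Ω[k⁄ℤ])).symm.toLinearMap
  have hα : Function.Injective α :=
    h1.comp (AlgebraTensorModule.cancelBaseChange k A K K (Ω[k⁄ℤ])).symm.injective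
  let β : K ⊗[A] Ω[A⁄ℤ] →ₗ[K] Ω[K⁄ℤ] := mapBaseChange ℤ A K
  have hβα : β ∘ₗ α = mapBaseChange ℤ k K := by
    refine TensorProduct.AlgebraTensorModule.curry_injective (LinearMap.ext_ring ?_)
    refine Derivation.liftKaehlerDifferential_unique _ _ ?_
    ext c
    simp [α, β, ← IsScalarTower.algebraMap_apply k A K]
  have : Module.Finite A (RingHom.ker (algebraMap A K)).Cotangent :=
    Module.Finite.of_surjective _ (RingHom.ker (algebraMap A K)).toCotangent_surjective
  have : Module.Finite A ((LinearMap.ker β).restrictScalars A) := by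
    have h : (LinearMap.ker β).restrictScalars A = LinearMap.range (kerCotangentToTensor ℤ A K) :=
      (exact_kerCotangentToTensor_mapBaseChange ℤ A K hsurj).linearMap_ker_eq
    rw [h]
    infer_instance
  have : Module.Finite A (LinearMap.ker β) := this
  have : Module.Finite K (LinearMap.ker β) := Module.Finite.of_restrictScalars_finite A K _
  let : AddCommGroup (LinearMap.ker β) := Submodule.addCommGroup _
  have : IsNoetherian K (LinearMap.ker β) :=
    isNoetherian_of_isNoetherianRing_of_finite K (LinearMap.ker β)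
  refine Module.Finite.of_injective
    ((α.domRestrict (EGA41.imperfection ℤ k K)).codRestrict (LinearMap.ker β) fun z => ?_)
    fun a b h => Subtype.ext (hα (congrArg Subtype.val h))
  show β (α z) = 0
  rw [← LinearMap.comp_apply, hβα]
  exact z.2

/-- A model for the extension of derivations: `c₀` is the residue map, `C` a section and `∂` derivations
at the closed point which, on the base, absorb the imperfection module. -/
theorem extDer_of_model {k K A : Type u} [Field k] [Field K] [Algebra k K] [CommRing A] [IsLocalRing A]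
    [Algebra k A] {n : ℕ} (c₀ : A →+* K) (C : K →+* A) (hC : ∀ x, c₀ (C x) = x)
    (hker : RingHom.ker c₀ = maximalIdeal A) (hc : ∀ c, c₀ (algebraMap k A c) = algebraMap k K c)
    (pd : Fin n → A →+ K) (hpd : ∀ i f g, pd i (f * g) = c₀ f * pd i g + c₀ g * pd i f)
    (Λ : K ⊗[k] Ω[k⁄ℤ] →ₗ[K] (Fin n → K))
    (hΛ : ∀ i c, pd i (algebraMap k A c) = Λ (1 ⊗ₜ D ℤ k c) i)
    (hinj : Function.Injective ((mapBaseChange ℤ k K).prod Λ)) :
    EGA4Alg4.KCrit13.ExtDer k A := by
  intro V _ _ hV δ hδ
  let : Module K V := Module.compHom V C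
  have hsm : ∀ (f : A) (v : V), f • v = c₀ f • v := fun f v => by
    show f • v = C (c₀ f) • v
    rw [← sub_eq_zero, ← sub_smul]
    refine hV _ ?_ v
    rw [← hker, RingHom.mem_ker, map_sub, hC, sub_self]
  let : Module k V := Module.compHom V (algebraMap k K)
  have : IsScalarTower k K V := IsScalarTower.of_algebraMap_smul fun _ _ => rfl
  let δ' : Derivation ℤ k V := EGA4Alg4.KCrit13.derivationOfAdd δ fun a b => by
    rw [hδ, hsm, hsm, hc, hc]
    rfl
  let l : K ⊗[k] Ω[k⁄ℤ] →ₗ[K] V := δ'.liftKaehlerDifferential.liftBaseChange K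
  obtain ⟨G, hG⟩ := ((mapBaseChange ℤ k K).prod Λ).exists_leftInverse_of_injective
    (LinearMap.ker_eq_bot.mpr hinj)
  let lΩ : Ω[K⁄ℤ] →ₗ[K] V := (l ∘ₗ G) ∘ₗ LinearMap.inl K (Ω[K⁄ℤ]) (Fin n → K)
  let lv : (Fin n → K) →ₗ[K] V := (l ∘ₗ G) ∘ₗ LinearMap.inr K (Ω[K⁄ℤ]) (Fin n → K)
  let Dmap : A →+ V := AddMonoidHom.mk' (fun f => lΩ (D ℤ K (c₀ f)) + lv fun i => pd i f) fun f g => by
    simp only [map_add]
    rw [show (fun i => pd i f + pd i g) = (fun i => pd i f) + fun i => pd i g from rfl, map_add]
    abel
  refine ⟨Derivation.mk' Dmap.toIntLinearMap fun f g => ?_, fun c => ?_⟩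
  · show lΩ (D ℤ K (c₀ (f * g))) + lv (fun i => pd i (f * g)) =
      f • (lΩ (D ℤ K (c₀ g)) + lv fun i => pd i g) + g • (lΩ (D ℤ K (c₀ f)) + lv fun i => pd i f)
    simp only [hpd, map_mul, Derivation.leibniz, map_add, map_smul, hsm]
    rw [show (fun i => c₀ f * pd i g + c₀ g * pd i f) =
      c₀ f • (fun i => pd i g) + c₀ g • fun i => pd i f from rfl, map_add, map_smul, map_smul,
      smul_add, smul_add]
    abel
  · show lΩ (D ℤ K (c₀ (algebraMap k A c))) + lv (fun i => pd i (algebraMap k A c)) = δ c
    simp only [hΛ, hc, lΩ, lv, LinearMap.comp_apply, ← map_add]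
    rw [show LinearMap.inl K (Ω[K⁄ℤ]) (Fin n → K) (D ℤ K (algebraMap k K c)) +
        LinearMap.inr K (Ω[K⁄ℤ]) (Fin n → K) (fun i => Λ (1 ⊗ₜ D ℤ k c) i) =
      ((mapBaseChange ℤ k K).prod Λ) (1 ⊗ₜ D ℤ k c) by simp [LinearMap.prod_apply],
      show G (((mapBaseChange ℤ k K).prod Λ) (1 ⊗ₜ D ℤ k c)) = 1 ⊗ₜ D ℤ k c from LinearMap.congr_fun hG _]
    simp [l, δ', EGA4Alg4.KCrit13.derivationOfAdd]

/-- A regular local algebra to which derivations extend is formally smooth. -/
theorem isAdicFormallySmooth_of_regular_of_extDer {k A : Type u} [Field k] [CommRing A] [IsRegularLocalRing A]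
    [Algebra k A] (h : EGA4Alg4.KCrit13.ExtDer k A) : CAlgX.IsAdicFormallySmooth k A (maximalIdeal A) := by
  let P := Sep12.prime k
  have : Algebra.IsGeometricallyReduced P (ResidueField A) :=
    Sep12.formallySmooth_iff_isGeometricallyReduced.mp (Sep12.formallySmooth_of_perfectField P _)
  exact EGA4Alg4.KCrit13.isAdicFormallySmooth_of_extDer (P := P) isAdicFormallySmooth_of_regular h

section Construction

open MvPowerSeries

/-- The coefficient of `X i` is a derivation at the closed point. -/
theorem coeff_single_mul {K : Type u} [CommRing K] {n : ℕ} (i : Fin n) (f g : MvPowerSeries (Fin n) K) :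
    coeff (Finsupp.single i 1) (f * g) =
      constantCoeff f * coeff (Finsupp.single i 1) g + constantCoeff g * coeff (Finsupp.single i 1) f := by
  classical
  rw [MvPowerSeries.coeff_mul, Finsupp.antidiagonal_single, Finset.sum_map,
    Finset.Nat.sum_antidiagonal_eq_sum_range_succ_mk, Finset.sum_range_succ, Finset.sum_range_succ,
    Finset.sum_range_zero, zero_add]
  simp [Finsupp.single_zero, MvPowerSeries.coeff_zero_eq_constantCoeff, mul_comm]

theorem exists_formallySmooth_powerSeries (k K : Type u) [Field k] [Field K] [Algebra k K]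
    [Module.Finite K (EGA41.imperfection ℤ k K)] (n : ℕ)
    (hn : Module.finrank K (EGA41.imperfection ℤ k K) ≤ n) :
    ∃ (_ : Algebra k (MvPowerSeries (Fin n) K)),
      CAlgX.IsAdicFormallySmooth k (MvPowerSeries (Fin n) K) (maximalIdeal _) ∧
      Nonempty (ResidueField (MvPowerSeries (Fin n) K) ≃ₐ[k] K) := by
  classical
  let R := MvPowerSeries (Fin n) K
  have := CAlg6.isAdicComplete_maximalIdeal (k := K) (d := n)
  have : IsRegularLocalRing R := CAlg6.isRegularLocalRing_mvPowerSeries
  let m := maximalIdeal R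
  have : IsAdicComplete (m ^ 2) R :=
    CAlg1.isAdicComplete_of_le (Ideal.pow_le_self two_ne_zero) (IsNoetherian.noetherian _)
  -- coordinates on the imperfection module, extended to `K ⊗ Ω[k⁄ℤ]`
  let : AddCommGroup (EGA41.imperfection ℤ k K) := Submodule.addCommGroup _
  have : Module.Free K (EGA41.imperfection ℤ k K) :=
    Module.Free.of_divisionRing K (EGA41.imperfection ℤ k K)
  let b := Module.finBasis K (EGA41.imperfection ℤ k K)
  let Λ₀ : EGA41.imperfection ℤ k K →ₗ[K] (Fin n → K) :=
    Function.ExtendByZero.linearMap K (Fin.castLE hn) ∘ₗ b.equivFun.toLinearMap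
  have hΛ₀ : Function.Injective Λ₀ := fun x y h => b.equivFun.injective <| funext fun j => by
    have h' := congrFun h (Fin.castLE hn j)
    simpa [Λ₀, Function.ExtendByZero.linearMap, (Fin.castLE_injective hn).extend_apply] using h'
  obtain ⟨Λ, hΛ⟩ := LinearMap.exists_extend Λ₀
  have hinj : Function.Injective ((mapBaseChange ℤ k K).prod Λ) := by
    refine (injective_iff_map_eq_zero _).mpr fun z hz => ?_
    obtain ⟨h1, h2⟩ := Prod.mk.inj (show (mapBaseChange ℤ k K z, Λ z) = (0, 0) from hz)
    have h3 : Λ₀ ⟨z, h1⟩ = 0 := (LinearMap.congr_fun hΛ ⟨z, h1⟩).symm.trans h2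
    exact congrArg Subtype.val ((map_eq_zero_iff _ hΛ₀).mp h3)
  let δ : Fin n → Derivation ℤ k K := fun i =>
    (((LinearMap.proj i ∘ₗ Λ).restrictScalars k) ∘ₗ TensorProduct.mk k K (Ω[k⁄ℤ]) 1).compDer (D ℤ k)
  let q := Ideal.Quotient.mk (m ^ 2)
  have hX : ∀ i, (X i : R) ∈ m := fun i => CAlg6.mem_maximalIdeal_iff.2 (constantCoeff_X i)
  let t : k → R := fun c => ∑ i, MvPowerSeries.C (δ i c) * X i
  have ht : ∀ c, t c ∈ m := fun c => Ideal.sum_mem _ fun i _ => Ideal.mul_mem_left _ _ (hX i)
  let P := Sep12.prime k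
  let φ₁ : k →ₐ[P] R ⧸ m ^ 2 :=
    { toFun := fun c => q (MvPowerSeries.C (algebraMap k K c) + t c)
      map_one' := by simp [t, Derivation.map_one_eq_zero]
      map_zero' := by simp [t]
      map_add' := fun a c => by
        rw [← map_add q]
        congr 1
        simp only [t, map_add, add_mul, Finset.sum_add_distrib]
        abel
      map_mul' := fun a c => by
        rw [← map_mul q, Ideal.Quotient.eq]
        have htac : t (a * c) = MvPowerSeries.C (algebraMap k K a) * t c + MvPowerSeries.C (algebraMap k K c) * t a := by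
          simp only [t, Derivation.leibniz, Algebra.smul_def, map_add, map_mul, add_mul, Finset.sum_add_distrib,
            Finset.mul_sum, mul_assoc]
        rw [htac, map_mul, map_mul,
          show MvPowerSeries.C (algebraMap k K a) * MvPowerSeries.C (algebraMap k K c) +
              (MvPowerSeries.C (algebraMap k K a) * t c + MvPowerSeries.C (algebraMap k K c) * t a) -
              (MvPowerSeries.C (algebraMap k K a) + t a) * (MvPowerSeries.C (algebraMap k K c) + t c) =
            -(t a * t c) by ring]
        exact neg_mem (pow_two m ▸ Ideal.mul_mem_mul (ht a) (ht c))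
      commutes' := fun r => by
        show q (MvPowerSeries.C (algebraMap k K (algebraMap P k r)) + t (algebraMap P k r)) = _
        rw [show t (algebraMap P k r) = 0 from Finset.sum_eq_zero fun i _ => by
          rw [show δ i (algebraMap P k r) = 0 from Sep12.derivation_prime_eq_zero (δ i) r, map_zero, zero_mul],
          add_zero, ← IsScalarTower.algebraMap_apply P k K]
        rw [IsScalarTower.algebraMap_apply P R (R ⧸ m ^ 2), MvPowerSeries.algebraMap_apply,
          Ideal.Quotient.algebraMap_eq] }
  have : Algebra.FormallySmooth P k := Sep12.formallySmooth_of_perfectField P k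
  obtain ⟨φ, hφ⟩ := exists_lift_complete (m ^ 2) φ₁
  have hφ' : ∀ c, φ c - (MvPowerSeries.C (algebraMap k K c) + t c) ∈ m ^ 2 := fun c =>
    Ideal.Quotient.eq.mp (hφ c)
  let pd : Fin n → R →+ K := fun i => (coeff (R := K) (Finsupp.single i 1)).toAddMonoidHom
  have hpd0 : ∀ i, ∀ x ∈ m ^ 2, pd i x = 0 := fun i x hx => by
    rw [pow_two] at hx
    refine Submodule.mul_induction_on hx (fun a ha c hc => ?_) fun a c h1 h2 => by rw [map_add, h1, h2, add_zero]
    show coeff _ (a * c) = 0
    rw [coeff_single_mul, CAlg6.mem_maximalIdeal_iff.mp ha, CAlg6.mem_maximalIdeal_iff.mp hc]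
    simp
  have hcc : ∀ c, constantCoeff (φ c) = algebraMap k K c := fun c => by
    have h : φ c - (MvPowerSeries.C (algebraMap k K c) + t c) + t c ∈ m :=
      add_mem (Ideal.pow_le_self two_ne_zero (hφ' c)) (ht c)
    rw [sub_add, add_sub_cancel_right, CAlg6.mem_maximalIdeal_iff, map_sub, constantCoeff_C, sub_eq_zero] at h
    exact h
  have hpdφ : ∀ i c, pd i (φ c) = Λ (1 ⊗ₜ D ℤ k c) i := fun i c => by
    rw [← sub_add_cancel (φ c) (MvPowerSeries.C (algebraMap k K c) + t c), map_add, hpd0 i _ (hφ' c), zero_add]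
    show coeff (Finsupp.single i 1) (MvPowerSeries.C (algebraMap k K c) + t c) = δ i c
    have hCX : ∀ (x : Fin n) (z : K), coeff (Finsupp.single i 1) ((MvPowerSeries.C z : MvPowerSeries (Fin n) K) * X x) =
        if i = x then z else 0 := fun x z => by
      rw [MvPowerSeries.coeff_C_mul, MvPowerSeries.coeff_X]
      simp [Finsupp.single_left_inj]
    show coeff (Finsupp.single i 1)
      ((MvPowerSeries.C (algebraMap k K c) : MvPowerSeries (Fin n) K) + ∑ x, MvPowerSeries.C (δ x c) * X x) = δ i c
    rw [map_add, map_sum, Finset.sum_congr rfl fun x _ => hCX x (δ x c), MvPowerSeries.coeff_C,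
      if_neg (by simp), zero_add, Finset.sum_ite_eq, if_pos (Finset.mem_univ i)]
  let : Algebra k R := φ.toRingHom.toAlgebra
  have hker : RingHom.ker (constantCoeff : R →+* K) = m :=
    Ideal.ext fun x => by rw [RingHom.mem_ker]; exact CAlg6.mem_maximalIdeal_iff.symm
  refine ⟨φ.toRingHom.toAlgebra, isAdicFormallySmooth_of_regular_of_extDer
    (extDer_of_model constantCoeff MvPowerSeries.C (fun x => constantCoeff_C x) hker hcc pd
      (fun i f g => coeff_single_mul i f g) Λ hpdφ hinj), ?_⟩
  let r : ResidueField R →+* K := Ideal.Quotient.lift m constantCoeff fun x hx => hker.ge hx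
  have hr : Function.Bijective r := ⟨r.injective, fun x => ⟨residue R (MvPowerSeries.C x),
    show constantCoeff (MvPowerSeries.C x : R) = x from constantCoeff_C x⟩⟩
  exact ⟨AlgEquiv.ofBijective { r with commutes' := fun c => hcc c } hr⟩

end Construction

end Groth.Agent.Cohen12
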