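import Groth.Prelude
import Groth.Agent.CAlg1.SectionPowerSeries
import Groth.Agent.CAlg1.Complete
import Groth.Agent.CplGal24.NormalTensor
import Groth.Agent.EGA4H10.GRingLoc
import Groth.Agent.EGA4H10.NormalFlat
import Mathlib.RingTheory.AdicCompletion.LocalRing
import Mathlib.RingTheory.AdicCompletion.AsTensorProduct

/-!
Completions of normal G-rings are normal.
-/

set_option autoImplicit false

universe u

namespace Groth.Agent.Cohen12

open IsLocalRing

/-- Facts at a maximal ideal `P` of the completion. -/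
theorem exists_residue_map {R : Type u} [CommRing R] [IsNoetherianRing R] (J : Ideal R)
    (P : Ideal (AdicCompletion J R)) [P.IsMaximal] :
    (P.comap (algebraMap R (AdicCompletion J R))).IsMaximal ∧
    (P.comap (algebraMap R (AdicCompletion J R))).map (algebraMap R (AdicCompletion J R)) = P ∧
    ∀ n : ℕ, ∃ ε : AdicCompletion J R →ₐ[R] R ⧸ (P.comap (algebraMap R (AdicCompletion J R))) ^ n,
      RingHom.ker ε = P ^ n := by
  have hfg : J.FG := IsNoetherian.noetherian _
  have hc := AdicCompletion.isAdicComplete_self J hfg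
  let C := AdicCompletion J R
  have hJP : J.map (algebraMap R C) ≤ P :=
    (IsAdicComplete.le_jacobson_bot _).trans (sInf_le ⟨bot_le, ‹P.IsMaximal›⟩)
  let ev := (AdicCompletion.evalOneₐ J).toRingHom
  have hker : RingHom.ker ev = J.map (algebraMap R C) := AdicCompletion.ker_evalOneₐ_eq_map J hfg
  have hsurj : Function.Surjective ev := AdicCompletion.evalOneₐ_surjective J
  have hevP : (P.map ev).IsMaximal :=
    Ideal.IsMaximal.map_of_surjective_of_ker_le hsurj (hker.le.trans hJP)
  have hcomapP : (P.map ev).comap ev = P := by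
    rw [Ideal.comap_map_of_surjective' ev hsurj, sup_eq_left]
    exact hker.le.trans hJP
  set p := P.comap (algebraMap R C) with hp
  have hm : p = (P.map ev).comap (Ideal.Quotient.mk J) := by
    conv_lhs => rw [hp, ← hcomapP, Ideal.comap_comap]
    rw [AdicCompletion.evalOneₐ_comp_algebraMap_eq_mk]
  have hmax : p.IsMaximal := by
    rw [hm]; exact Ideal.comap_isMaximal_of_surjective _ Ideal.Quotient.mk_surjective
  have hJp : J ≤ p := fun x hx => hJP (Ideal.mem_map_of_mem _ hx)
  have hmap : p.map (algebraMap R C) = P :=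
    (AdicCompletion.isMaximal_map_of_le J p hJp hfg).eq_of_le (Ideal.IsMaximal.ne_top ‹_›) Ideal.map_comap_le
  refine ⟨hmax, hmap, fun n => ?_⟩
  let ε : C →ₐ[R] R ⧸ p ^ n :=
    (Ideal.Quotient.factorₐ R (Ideal.pow_right_mono hJp n)).comp (AdicCompletion.evalₐ J n)
  refine ⟨ε, le_antisymm (fun x hx => ?_) ?_⟩
  · obtain ⟨a, ha⟩ := Ideal.Quotient.mk_surjective (AdicCompletion.evalₐ J n x)
    have h1 : AdicCompletion.evalₐ J n (x - algebraMap R C a) = 0 := by
      rw [map_sub, AlgHom.commutes, Ideal.Quotient.algebraMap_eq, ha, sub_self]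
    have h2 : x - algebraMap R C a ∈ (J ^ n).map (algebraMap R C) := by
      have h3 : x - algebraMap R C a ∈ LinearMap.ker (AdicCompletion.eval J R n) := by
        rw [← AdicCompletion.factor_eval_eq_evalₐ _ _ (le_of_eq (Ideal.mul_top _))] at h1
        obtain ⟨y, hy⟩ := Ideal.Quotient.mk_surjective (AdicCompletion.eval J R n (x - algebraMap R C a))
        rw [LinearMap.mem_ker, ← hy, Ideal.Quotient.eq_zero_iff_mem]
        rw [← hy] at h1
        replace h1 : Ideal.Quotient.mk (J ^ n) y = 0 := h1
        rw [Ideal.Quotient.eq_zero_iff_mem] at h1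
        rwa [smul_eq_mul, Ideal.mul_top]
      rw [← AdicCompletion.pow_smul_top_eq_ker_eval hfg, Ideal.smul_top_eq_map] at h3
      exact h3
    have h4 : a ∈ p ^ n := by
      have h := RingHom.mem_ker.mp hx
      have hεx : ε x = Ideal.Quotient.mk (p ^ n) a := by
        show Ideal.Quotient.factor (Ideal.pow_right_mono hJp n) (AdicCompletion.evalₐ J n x) = _
        rw [← ha]
        rfl
      rwa [hεx, Ideal.Quotient.eq_zero_iff_mem] at h
    rw [← sub_add_cancel x (algebraMap R C a), ← hmap, ← Ideal.map_pow]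
    exact add_mem (Ideal.map_mono (Ideal.pow_right_mono hJp n) h2) (Ideal.mem_map_of_mem _ h4)
  · rw [← hmap, ← Ideal.map_pow, Ideal.map_le_iff_le_comap]
    intro a ha
    show ε (algebraMap R C a) = 0
    rw [AlgHom.commutes, Ideal.Quotient.algebraMap_eq, Ideal.Quotient.eq_zero_iff_mem]
    exact ha

/-- At a maximal ideal of the completion, the completed local rings agree. -/
theorem exists_cpl_algEquiv {R : Type u} [CommRing R] [IsNoetherianRing R] (J : Ideal R)
    (P : Ideal (AdicCompletion J R)) [P.IsMaximal] :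
    ∃ (p : Ideal R) (_ : p.IsPrime),
      Nonempty (EGA4.Cpl (Localization.AtPrime p) ≃+* EGA4.Cpl (Localization.AtPrime P)) := by
  obtain ⟨hmax, hmap, hε⟩ := exists_residue_map J P
  set p := P.comap (algebraMap R (AdicCompletion J R)) with hp
  refine ⟨p, hmax.isPrime, ?_⟩
  have : P.LiesOver p := ⟨rfl⟩
  let Rp := Localization.AtPrime p
  let BP := Localization.AtPrime P
  let φ : Rp →ₐ[R] BP :=
    IsLocalization.liftAlgHom (M := p.primeCompl) (f := Algebra.ofId R BP) (fun y => by
      show IsUnit (algebraMap R BP y)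
      rw [IsScalarTower.algebraMap_apply R (AdicCompletion J R) BP]
      exact IsLocalization.map_units BP (⟨_, fun h => y.2 h⟩ : P.primeCompl))
  have hφ : ∀ a, φ (algebraMap R Rp a) = algebraMap R BP a := fun a => φ.commutes a
  have hmI : maximalIdeal BP = (maximalIdeal Rp).map φ := by
    rw [show (maximalIdeal Rp).map φ = (maximalIdeal Rp).map φ.toRingHom from rfl,
      ← Localization.AtPrime.map_eq_maximalIdeal, ← Localization.AtPrime.map_eq_maximalIdeal,
      Ideal.map_map, show φ.toRingHom.comp (algebraMap R Rp) = algebraMap R BP from φ.comp_algebraMap,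
      IsScalarTower.algebraMap_eq R (AdicCompletion J R) BP, ← Ideal.map_map, hmap]
  have hle : ∀ n, maximalIdeal Rp ^ n ≤ (maximalIdeal BP ^ n).comap φ := fun n => by
    rw [← Ideal.map_le_iff_le_comap, Ideal.map_pow, hmI]
  have hbij : ∀ n, Function.Bijective (Ideal.quotientMapₐ (maximalIdeal BP ^ n) φ (hle n)) := by
    intro n
    rcases Nat.eq_zero_or_pos n with rfl | hn
    · have : Subsingleton (Rp ⧸ maximalIdeal Rp ^ 0) := Ideal.Quotient.subsingleton_iff.mpr (by simp [Ideal.one_eq_top])
      have : Subsingleton (BP ⧸ maximalIdeal BP ^ 0) := Ideal.Quotient.subsingleton_iff.mpr (by simp [Ideal.one_eq_top])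
      exact ⟨fun _ _ _ => Subsingleton.elim _ _, fun _ => ⟨0, Subsingleton.elim _ _⟩⟩
    obtain ⟨ε, hεk⟩ := hε n
    have hPn : maximalIdeal BP ^ n = (P ^ n).map (algebraMap _ BP) := by
      rw [Ideal.map_pow, Localization.AtPrime.map_eq_maximalIdeal]
    have happrox : ∀ b : AdicCompletion J R, ∃ a : R, b - algebraMap R _ a ∈ P ^ n := fun b => by
      obtain ⟨a, ha⟩ := Ideal.Quotient.mk_surjective (ε b)
      refine ⟨a, ?_⟩
      rw [← hεk, RingHom.mem_ker, map_sub, AlgHom.commutes, Ideal.Quotient.algebraMap_eq, ha, sub_self]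
    have hnot : ∀ (b : AdicCompletion J R) (a : R), b ∉ P → b - algebraMap R _ a ∈ P ^ n → a ∉ p := by
      intro b a hb hba hap
      refine hb ?_
      rw [← sub_add_cancel b (algebraMap R _ a)]
      exact add_mem (Ideal.pow_le_self hn.ne' hba) hap
    refine ⟨(injective_iff_map_eq_zero _).mpr fun w hw => ?_, fun z => ?_⟩
    · obtain ⟨w, rfl⟩ := Ideal.Quotient.mk_surjective w
      obtain ⟨a, t, rfl⟩ := IsLocalization.exists_mk'_eq p.primeCompl w
      rw [Ideal.quotient_map_mkₐ, Ideal.Quotient.mkₐ_eq_mk, Ideal.Quotient.eq_zero_iff_mem] at hw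
      have h1 : algebraMap _ BP (algebraMap R (AdicCompletion J R) a) ∈ maximalIdeal BP ^ n := by
        rw [← IsScalarTower.algebraMap_apply, ← hφ, ← IsLocalization.mk'_spec Rp a t, map_mul]
        exact Ideal.mul_mem_right _ _ hw
      rw [hPn, IsLocalization.algebraMap_mem_map_algebraMap_iff P.primeCompl] at h1
      obtain ⟨v, hv, hva⟩ := h1
      obtain ⟨c, hc⟩ := happrox v
      have hcp := hnot v c hv hc
      have h2 : c * a ∈ p ^ n := by
        have h := RingHom.mem_ker.mp (hεk ▸ hva : v * algebraMap R _ a ∈ RingHom.ker ε)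
        have hvc : ε v = Ideal.Quotient.mk (p ^ n) c := by
          have h3 := RingHom.mem_ker.mp (hεk ▸ hc : v - algebraMap R _ c ∈ RingHom.ker ε)
          rwa [map_sub, AlgHom.commutes, sub_eq_zero] at h3
        rw [map_mul, hvc, AlgHom.commutes, Ideal.Quotient.algebraMap_eq, ← map_mul,
          Ideal.Quotient.eq_zero_iff_mem] at h
        exact h
      rw [Ideal.Quotient.eq_zero_iff_mem, IsLocalization.mk'_eq_mul_mk'_one]
      refine Ideal.mul_mem_right _ _ ?_
      rw [← Localization.AtPrime.map_eq_maximalIdeal, ← Ideal.map_pow,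
        IsLocalization.algebraMap_mem_map_algebraMap_iff p.primeCompl]
      exact ⟨c, hcp, h2⟩
    · obtain ⟨z, rfl⟩ := Ideal.Quotient.mk_surjective z
      obtain ⟨b, s, rfl⟩ := IsLocalization.exists_mk'_eq P.primeCompl z
      obtain ⟨a, ha⟩ := happrox b
      obtain ⟨c, hc⟩ := happrox s
      have hcp := hnot s c s.2 hc
      refine ⟨Ideal.Quotient.mk _ (IsLocalization.mk' Rp a (⟨c, hcp⟩ : p.primeCompl)), ?_⟩
      rw [Ideal.quotient_map_mkₐ, Ideal.Quotient.mkₐ_eq_mk, Ideal.Quotient.eq]
      have hu : IsUnit (algebraMap R BP c * algebraMap _ BP (s : AdicCompletion J R)) := by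
        refine IsUnit.mul ?_ (IsLocalization.map_units BP s)
        rw [← hφ]
        exact (IsLocalization.map_units Rp (⟨c, hcp⟩ : p.primeCompl)).map φ
      rw [← Ideal.unit_mul_mem_iff_mem _ hu]
      have e1 : φ (IsLocalization.mk' Rp a (⟨c, hcp⟩ : p.primeCompl)) * algebraMap R BP c = algebraMap R BP a := by
        rw [← hφ c, ← map_mul, IsLocalization.mk'_spec, hφ]
      have key : algebraMap R BP c * algebraMap _ BP (s : AdicCompletion J R) *
          (φ (IsLocalization.mk' Rp a (⟨c, hcp⟩ : p.primeCompl)) - IsLocalization.mk' BP b s) =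
          algebraMap _ BP (algebraMap R (AdicCompletion J R) a * ((s : AdicCompletion J R) - algebraMap R _ c) -
            algebraMap R (AdicCompletion J R) c * (b - algebraMap R _ a)) := by
        simp only [map_sub, map_mul, ← IsScalarTower.algebraMap_apply]
        linear_combination (algebraMap _ BP (s : AdicCompletion J R)) * e1 -
          algebraMap R BP c * IsLocalization.mk'_spec BP b s
      rw [key, hPn]
      exact Ideal.mem_map_of_mem _ (sub_mem (Ideal.mul_mem_left _ _ hc) (Ideal.mul_mem_left _ _ ha))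
  obtain ⟨e⟩ := CAlg1.completion_equiv_of_bijective_quotients (maximalIdeal Rp) (maximalIdeal BP) φ hle hbij
  exact ⟨e.toRingEquiv⟩

/-- The completion of a normal G-ring along any ideal is a normal ring. -/
theorem isNormalRing_adicCompletion {R : Type u} [CommRing R] (hG : CAlg.IsGRing R)
    (hR : EGA4.IsNormalRing R) (J : Ideal R) : EGA4.IsNormalRing (AdicCompletion J R) := by
  have := hG.1
  let C := AdicCompletion J R
  have : IsNoetherianRing C := CAlg1.isNoetherianRing_adicCompletion _ (IsNoetherian.noetherian _)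
  -- at maximal ideals
  have hmax : ∀ P : Ideal C, (_ : P.IsMaximal) →
      IsDomain (Localization.AtPrime P) ∧ IsIntegrallyClosed (Localization.AtPrime P) := by
    intro P _
    obtain ⟨p, hp, ⟨e⟩⟩ := exists_cpl_algEquiv J P
    obtain ⟨h1, h2⟩ := hR p
    have hGp : CAlg.IsGRing (Localization.AtPrime p) := EGA4H10.isGRing_localization hG p.primeCompl
    obtain ⟨h3, h4⟩ := CplGal24.isDomain_isIntegrallyClosed_cpl_self (Localization.AtPrime p) hGp
    let BP := Localization.AtPrime P
    let Cq := EGA4.Cpl BP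
    have : IsDomain Cq := e.symm.toMulEquiv.isDomain _
    have : IsIntegrallyClosed Cq := IsIntegrallyClosed.of_equiv e
    have : IsNoetherianRing Cq := CAlg1.isNoetherianRing_adicCompletion _ (IsNoetherian.noetherian _)
    have : Module.Flat BP Cq := AdicCompletion.flat_of_isNoetherian _
    have hq : (maximalIdeal Cq).comap (algebraMap BP Cq) = maximalIdeal BP :=
      ((maximalIdeal.isMaximal BP).eq_of_le (Ideal.comap_ne_top _ (maximalIdeal.isMaximal Cq).ne_top)
        (by rw [← Ideal.map_le_iff_le_comap, AdicCompletion.maximalIdeal_eq_map])).symm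
    obtain ⟨h5, h6⟩ := EGA4H10.normal_base_of_flat BP Cq (maximalIdeal Cq)
      (EGA4H10.normal_of_domain Cq (maximalIdeal Cq)).1 (EGA4H10.normal_of_domain Cq (maximalIdeal Cq)).2
    have key : ∀ (r : Ideal BP) [r.IsPrime], (maximalIdeal Cq).comap (algebraMap BP Cq) = r →
        IsDomain (Localization.AtPrime r) ∧ IsIntegrallyClosed (Localization.AtPrime r) := by
      intro r _ hr
      subst hr
      exact ⟨h5, h6⟩
    obtain ⟨h7, h8⟩ := key _ hq
    let a := IsLocalization.atUnits BP (maximalIdeal BP).primeCompl (S := Localization.AtPrime (maximalIdeal BP))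
      (fun x hx => notMem_maximalIdeal.mp hx)
    exact ⟨a.toMulEquiv.isDomain _, IsIntegrallyClosed.of_equiv a.symm.toRingEquiv⟩
  intro q _
  obtain ⟨P, hP, hqP⟩ := Ideal.exists_le_maximal q (Ideal.IsPrime.ne_top ‹_›)
  obtain ⟨hPd, hPi⟩ := hmax P hP
  have hd : Disjoint (P.primeCompl : Set C) q := Set.disjoint_left.mpr fun x hx hxq => hx (hqP hxq)
  have := IsLocalization.isPrime_of_isPrime_disjoint P.primeCompl (Localization.AtPrime P) q ‹_› hd
  obtain ⟨h9, h10⟩ := EGA4H10.normal_of_domain (Localization.AtPrime P) (q.map (algebraMap C (Localization.AtPrime P)))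
  have : IsLocalization.AtPrime (Localization.AtPrime (q.map (algebraMap C (Localization.AtPrime P)))) q := by
    have h11 := IsLocalization.isLocalization_isLocalization_atPrime_isLocalization P.primeCompl
      (Localization.AtPrime (q.map (algebraMap C (Localization.AtPrime P))))
      (q.map (algebraMap C (Localization.AtPrime P)))
    have h12 : (q.map (algebraMap C (Localization.AtPrime P))).comap (algebraMap C (Localization.AtPrime P)) = q :=
      IsLocalization.under_map_of_isPrime_disjoint P.primeCompl (Localization.AtPrime P) ‹q.IsPrime› hd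
    convert h11 using 2
    exact h12.symm
  let b := IsLocalization.algEquiv q.primeCompl (Localization.AtPrime q)
    (Localization.AtPrime (q.map (algebraMap C (Localization.AtPrime P))))
  exact ⟨b.toMulEquiv.isDomain _, IsIntegrallyClosed.of_equiv b.symm.toRingEquiv⟩

end Groth.Agent.Cohen12
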