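import Groth.Prelude
import Groth.Agent.Cohen12.GeomRegular
import Groth.Agent.Cohen12.Section
import Groth.Agent.EGA4Alg4.KaehlerCrit
import Groth.Agent.FSQuot14.Basic
import Groth.Agent.OmegaHat14.Omega
import Groth.Agent.S2469
import Mathlib.RingTheory.Kaehler.Basic
import Mathlib.LinearAlgebra.TensorProduct.RightExactness

/-!
# Completed differentials of formally smooth complete local algebras over a field

For a complete Noetherian local algebra `A` over a field `k`, formally smooth for the adic topology,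
with residue field `K` of finite type over `k`:

* `finrank_residue_kaehler`: `K ⊗ Ω[A⁄k]` has dimension `dim A + trdeg K`, by comparing the absolute
  differentials of `k`, `A` and `K` and Cartier's equality;
* `free_completion`: the completion of `Ω[A⁄k]` is free of that rank, as every
  `Ω[A⁄k] / mⁿ` is a direct summand of a free module lifting a residual basis.
-/

set_option autoImplicit false

universe u

open IsLocalRing TensorProduct KaehlerDifferential

namespace Groth.Agent.Cohen12

section LinAlg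

variable {K : Type u} [Field K] {T W X Y O : Type u} [AddCommGroup T] [Module K T] [AddCommGroup W]
  [Module K W] [AddCommGroup X] [Module K X] [AddCommGroup Y] [Module K Y] [AddCommGroup O] [Module K O]

/-- Dimension count in a cross of two exact sequences. -/
theorem finrank_cross (α : T →ₗ[K] W) (π : W →ₗ[K] X) (β : W →ₗ[K] O) (g : X →ₗ[K] Y)
    (hα : Function.Injective α) (hex : Function.Exact α π) (hg : Function.Surjective g)
    (hk : LinearMap.ker g = (LinearMap.ker β).map π) [Module.Finite K (LinearMap.ker β)] [Module.Finite K Y] :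
    Module.Finite K X ∧ Module.finrank K X + Module.finrank K (LinearMap.ker (β ∘ₗ α)) =
      Module.finrank K (LinearMap.ker β) + Module.finrank K Y := by
  let r := π.domRestrict (LinearMap.ker β)
  have hr : LinearMap.range r = LinearMap.ker g := by
    rw [hk, LinearMap.range_domRestrict]
  let e : LinearMap.ker (β ∘ₗ α) →ₗ[K] LinearMap.ker r :=
    LinearMap.codRestrict _ ((α.domRestrict _).codRestrict (LinearMap.ker β) fun z => z.2)
      fun z => hex.apply_apply_eq_zero z.1
  have he : Function.Bijective e := by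
    refine ⟨fun a b h => Subtype.ext (hα (congrArg (fun w => (w.1.1 : W)) h)), fun ⟨⟨w, hw⟩, hw'⟩ => ?_⟩
    obtain ⟨t, rfl⟩ := (hex w).mp hw'
    exact ⟨⟨t, hw⟩, rfl⟩
  have hfin : Module.Finite K (LinearMap.ker g) := by rw [← hr]; infer_instance
  have hX : Module.Finite K X := by
    have : Module.Finite K (X ⧸ LinearMap.ker g) :=
      Module.Finite.equiv (g.quotKerEquivOfSurjective hg).symm
    exact Module.Finite.of_submodule_quotient (LinearMap.ker g)
  refine ⟨hX, ?_⟩
  have h1 := LinearMap.finrank_range_add_finrank_ker g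
  have h2 := LinearMap.finrank_range_add_finrank_ker r
  rw [LinearMap.range_eq_top.mpr hg, finrank_top] at h1
  rw [hr] at h2
  rw [(LinearEquiv.ofBijective e he).finrank_eq]
  omega

end LinAlg

/-- A submodule generating modulo `I` generates modulo every power of `I`. -/
theorem sup_pow_smul_eq_top {R M : Type u} [CommRing R] [AddCommGroup M] [Module R M] {I : Ideal R}
    {N : Submodule R M} (h : N ⊔ I • ⊤ = ⊤) : ∀ j : ℕ, N ⊔ I ^ j • ⊤ = ⊤
  | 0 => by rw [pow_zero, Ideal.one_eq_top, Submodule.top_smul, sup_top_eq]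
  | j + 1 => by
    refine eq_top_iff.mpr ((sup_pow_smul_eq_top h j).ge.trans ?_)
    refine sup_le le_sup_left ?_
    intro z hz
    have h2 : z ∈ I ^ j • (N ⊔ I • (⊤ : Submodule R M)) := by rw [h]; exact hz
    rw [Submodule.smul_sup] at h2
    obtain ⟨a, ha, b, hb, rfl⟩ := Submodule.mem_sup.mp h2
    refine Submodule.mem_sup.mpr ⟨a, ?_, b, ?_, rfl⟩
    · exact (Submodule.smul_le.mpr fun r _ x hx => Submodule.smul_mem N r hx) ha
    · rw [pow_succ, Submodule.mul_smul]
      exact hb

variable {k A : Type u} [Field k] [CommRing A] [IsLocalRing A] [IsNoetherianRing A] [Algebra k A]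
  [IsAdicComplete (maximalIdeal A) A]

omit [IsNoetherianRing A] [IsAdicComplete (maximalIdeal A) A] in
/-- The kernel of `K ⊗ Ω[A⁄ℤ] → Ω[K⁄ℤ]` is the cotangent space. -/
theorem exists_cotangent_equiv (σ : ResidueField A →+* A) (hσ : ∀ x, residue A (σ x) = x) :
    Nonempty (LinearMap.ker (mapBaseChange ℤ A (ResidueField A)) ≃ₗ[ResidueField A] CotangentSpace A) := by
  let K := ResidueField A
  let m := maximalIdeal A
  have hmem : ∀ a : A, a - σ (residue A a) ∈ m := fun a => by
    rw [← residue_eq_zero_iff, map_sub, hσ, sub_self]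
  let δ : A →+ CotangentSpace A :=
    AddMonoidHom.mk' (fun a => m.toCotangent ⟨a - σ (residue A a), hmem a⟩) fun a b => by
      rw [← map_add]
      exact congrArg _ (Subtype.ext (by simp only [map_add, Submodule.coe_add]; ring))
  let δD : Derivation ℤ A (CotangentSpace A) := Derivation.mk' δ.toIntLinearMap fun a b => by
    show m.toCotangent _ = a • m.toCotangent _ + b • m.toCotangent _
    rw [← map_smul, ← map_smul, ← map_add, Ideal.toCotangent_eq]
    simp only [map_mul, Submodule.coe_add, SetLike.val_smul, smul_eq_mul]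
    rw [show a * b - σ (residue A a) * σ (residue A b) -
      (a * (b - σ (residue A b)) + b * (a - σ (residue A a))) =
        -((a - σ (residue A a)) * (b - σ (residue A b))) by ring]
    exact neg_mem (pow_two m ▸ Ideal.mul_mem_mul (hmem a) (hmem b))
  let L : K ⊗[A] Ω[A⁄ℤ] →ₗ[K] CotangentSpace A := δD.liftKaehlerDifferential.liftBaseChange K
  have hL : ∀ x : m, L (1 ⊗ₜ D ℤ A x) = m.toCotangent x := fun x => by
    rw [LinearMap.liftBaseChange_tmul, one_smul, Derivation.liftKaehlerDifferential_comp_D]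
    exact congrArg _ (Subtype.ext (by
      show (x : A) - σ (residue A x) = x
      rw [(residue_eq_zero_iff (x : A)).mpr x.2, map_zero, sub_zero]))
  have hsurj : Function.Surjective (algebraMap A K) := residue_surjective
  have hker : RingHom.ker (algebraMap A K) = m := ker_residue
  refine ⟨LinearEquiv.ofBijective (L ∘ₗ (LinearMap.ker _).subtype) ⟨?_, fun z => ?_⟩⟩
  · refine (injective_iff_map_eq_zero _).mpr ?_
    rintro ⟨w, hw⟩ h
    obtain ⟨c, hc⟩ := (exact_kerCotangentToTensor_mapBaseChange ℤ A K hsurj w).mp hw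
    obtain ⟨x, rfl⟩ := Ideal.toCotangent_surjective _ c
    rw [kerCotangentToTensor_toCotangent] at hc
    have hx : (x : A) ∈ m := hker.le x.2
    have h' : L w = 0 := h
    rw [← hc, hL ⟨x, hx⟩, Ideal.toCotangent_eq_zero] at h'
    have h0 : (RingHom.ker (algebraMap A K)).toCotangent x = 0 := by
      rw [Ideal.toCotangent_eq_zero]
      exact (SetLike.ext_iff.mp (congrArg (· ^ 2) hker) _).mpr h'
    refine Subtype.ext ?_
    show w = 0
    rw [← hc, ← kerCotangentToTensor_toCotangent, h0, map_zero]
  · obtain ⟨x, rfl⟩ := Ideal.toCotangent_surjective _ z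
    refine ⟨⟨1 ⊗ₜ D ℤ A x, ?_⟩, hL x⟩
    refine (exact_kerCotangentToTensor_mapBaseChange ℤ A K hsurj _).mpr
      ⟨(RingHom.ker (algebraMap A K)).toCotangent ⟨x, hker.ge x.2⟩, ?_⟩
    rw [kerCotangentToTensor_toCotangent]

/-- The rank of the differentials at the closed point. -/
theorem finrank_residue_kaehler (hfs : CAlgX.IsAdicFormallySmooth k A (maximalIdeal A))
    [Algebra.EssFiniteType k (ResidueField A)] :
    Module.Finite (ResidueField A) (ResidueField A ⊗[A] Ω[A⁄k]) ∧
      (Module.finrank (ResidueField A) (ResidueField A ⊗[A] Ω[A⁄k]) : WithBot ℕ∞) =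
        ringKrullDim A + (Cardinal.toNat (Algebra.trdeg k (ResidueField A)) : WithBot ℕ∞) := by
  let K := ResidueField A
  let P := Sep12.prime k
  let : Algebra P A := ((algebraMap k A).comp (algebraMap P k)).toAlgebra
  have : Algebra.FormallySmooth P K := Sep12.formallySmooth_of_perfectField P K
  obtain ⟨σ, hσ⟩ := exists_lift_complete (maximalIdeal A) (AlgHom.id P K)
  obtain ⟨e⟩ := exists_cotangent_equiv σ.toRingHom hσ
  have : IsRegularLocalRing A := (regular_of_formallySmooth_field hfs).1
  obtain ⟨hΩ, hΥ, hcartier⟩ := S2469.result (K := k) (L := K)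
  let α : K ⊗[k] Ω[k⁄ℤ] →ₗ[K] K ⊗[A] Ω[A⁄ℤ] :=
    (mapBaseChange ℤ k A).baseChange K ∘ₗ
      (AlgebraTensorModule.cancelBaseChange k A K K (Ω[k⁄ℤ])).symm.toLinearMap
  have hα : Function.Injective α :=
    (EGA4Alg4.KCrit13.injective_of_isAdicFormallySmooth hfs).comp
      (AlgebraTensorModule.cancelBaseChange k A K K (Ω[k⁄ℤ])).symm.injective
  let π : K ⊗[A] Ω[A⁄ℤ] →ₗ[K] K ⊗[A] Ω[A⁄k] := (KaehlerDifferential.map ℤ k A A).baseChange K
  have hex : Function.Exact α π := fun y =>
    (lTensor_exact K (exact_mapBaseChange_map ℤ k A) (map_surjective ℤ k A) y).trans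
      ⟨fun ⟨z, hz⟩ => ⟨AlgebraTensorModule.cancelBaseChange k A K K (Ω[k⁄ℤ]) z, by
          simp only [α, LinearMap.comp_apply, LinearEquiv.coe_coe, LinearEquiv.symm_apply_apply]
          exact hz⟩,
        fun ⟨z, hz⟩ => ⟨_, hz⟩⟩
  let β : K ⊗[A] Ω[A⁄ℤ] →ₗ[K] Ω[K⁄ℤ] := mapBaseChange ℤ A K
  let g : K ⊗[A] Ω[A⁄k] →ₗ[K] Ω[K⁄k] := mapBaseChange k A K
  have hsurj : Function.Surjective (algebraMap A K) := residue_surjective
  have hg : Function.Surjective g := fun y => by
    obtain ⟨z, hz⟩ := map_surjective_of_surjective k k A K hsurj y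
    exact ⟨1 ⊗ₜ z, by simpa [g] using hz⟩
  have hk : LinearMap.ker g = (LinearMap.ker β).map π := by
    refine le_antisymm (fun z hz => ?_) (Submodule.map_le_iff_le_comap.mpr fun w hw => ?_)
    · obtain ⟨c, rfl⟩ := (exact_kerCotangentToTensor_mapBaseChange k A K hsurj z).mp hz
      obtain ⟨x, rfl⟩ := Ideal.toCotangent_surjective _ c
      refine ⟨kerCotangentToTensor ℤ A K ((RingHom.ker (algebraMap A K)).toCotangent x),
        (exact_kerCotangentToTensor_mapBaseChange ℤ A K hsurj _).mpr ⟨_, rfl⟩, ?_⟩
      simp [π, kerCotangentToTensor_toCotangent]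
    · obtain ⟨c, rfl⟩ := (exact_kerCotangentToTensor_mapBaseChange ℤ A K hsurj w).mp hw
      obtain ⟨x, rfl⟩ := Ideal.toCotangent_surjective _ c
      refine (exact_kerCotangentToTensor_mapBaseChange k A K hsurj _).mpr
        ⟨(RingHom.ker (algebraMap A K)).toCotangent x, ?_⟩
      simp [π, kerCotangentToTensor_toCotangent]
  have hβα : β ∘ₗ α = mapBaseChange ℤ k K := by
    refine TensorProduct.AlgebraTensorModule.curry_injective (LinearMap.ext_ring ?_)
    refine Derivation.liftKaehlerDifferential_unique _ _ ?_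
    ext c
    simp [α, β, ← IsScalarTower.algebraMap_apply k A K]
  have : Module.Finite K (LinearMap.ker β) := Module.Finite.equiv e.symm
  obtain ⟨hX, hsum⟩ := finrank_cross α π β g hα hex hg hk
  refine ⟨hX, ?_⟩
  rw [hβα] at hsum
  change _ + Module.finrank K (EGA41.imperfection ℤ k K) = _ at hsum
  have he : Module.finrank K (LinearMap.ker β) = (maximalIdeal A).spanFinrank := by
    rw [e.finrank_eq, ← spanFinrank_maximalIdeal_eq_finrank_cotangentSpace]
  rw [← IsRegularLocalRing.spanFinrank_maximalIdeal (R := A), ← Nat.cast_add, Nat.cast_inj]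
  show Module.finrank K (K ⊗[A] Ω[A⁄k]) = _ + Cardinal.toNat (Algebra.trdeg k K)
  have key : ∀ x y z w c t : ℕ, x + c = y + w → y = z → (w : ℤ) - c = t → x = z + t := fun _ _ _ _ _ _ _ _ _ => by
    omega
  exact key _ _ _ _ _ _ hsum he hcartier

/-- The completed module of differentials is free. -/
theorem free_completion (hfs : CAlgX.IsAdicFormallySmooth k A (maximalIdeal A))
    [Module.Finite (ResidueField A) (ResidueField A ⊗[A] Ω[A⁄k])] :
    Nonempty (AdicCompletion (maximalIdeal A) (Ω[A⁄k]) ≃ₗ[A]
      (Fin (Module.finrank (ResidueField A) (ResidueField A ⊗[A] Ω[A⁄k])) → A)) := by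
  classical
  let K := ResidueField A
  let m := maximalIdeal A
  let r := Module.finrank K (K ⊗[A] Ω[A⁄k])
  let b := Module.finBasis K (K ⊗[A] Ω[A⁄k])
  choose v hv using fun i => TensorProduct.mk_surjective A (Ω[A⁄k]) K residue_surjective (b i)
  let F := Fin r → A
  let f : F →ₗ[A] Ω[A⁄k] := Fintype.linearCombination A v
  have hbar : ∀ x : F, (1 : K) ⊗ₜ[A] f x = ∑ i, residue A (x i) • b i := fun x => by
    rw [show f x = ∑ i, x i • v i from Fintype.linearCombination_apply A v x, TensorProduct.tmul_sum]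
    refine Finset.sum_congr rfl fun i _ => ?_
    rw [TensorProduct.tmul_smul]
    rw [← hv i, TensorProduct.mk_apply, ← algebraMap_smul K (x i)]
    rfl
  have hres : ∀ x : F, f x ∈ m • (⊤ : Submodule A Ω[A⁄k]) → x ∈ m • (⊤ : Submodule A F) := by
    intro x hx
    have h0 : (1 : K) ⊗ₜ[A] f x = 0 := by
      refine Submodule.smul_induction_on (p := fun z => (1 : K) ⊗ₜ[A] z = 0) hx (fun a ha z _ => ?_)
        fun z z' h h' => by rw [TensorProduct.tmul_add, h, h', add_zero]
      rw [← TensorProduct.smul_tmul, Algebra.smul_def, mul_one,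
        show algebraMap A K a = 0 from (residue_eq_zero_iff a).mpr ha, TensorProduct.zero_tmul]
    rw [hbar] at h0
    have hi := fun i => Fintype.linearIndependent_iff.mp b.linearIndependent _ h0 i
    rw [pi_eq_sum_univ x]
    exact Submodule.sum_mem _ fun i _ =>
      Submodule.smul_mem_smul ((residue_eq_zero_iff _).mp (hi i)) Submodule.mem_top
  have hsurj1 : Function.Surjective ((m • (⊤ : Submodule A Ω[A⁄k])).mkQ ∘ₗ f) := by
    intro z
    obtain ⟨z, rfl⟩ := Submodule.mkQ_surjective _ z
    choose c hc using fun i => residue_surjective (b.repr ((1 : K) ⊗ₜ[A] z) i)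
    refine ⟨c, ?_⟩
    have h1 : (1 : K) ⊗ₜ[A] f c = (1 : K) ⊗ₜ[A] z := by
      rw [hbar]; simp only [hc]; exact b.sum_repr _
    apply (quotTensorEquivQuotSMul (Ω[A⁄k]) m).symm.injective
    simp only [LinearMap.comp_apply, Submodule.mkQ_apply, quotTensorEquivQuotSMul_symm_mk]
    exact h1
  have hsup : ∀ j, LinearMap.range f ⊔ m ^ j • (⊤ : Submodule A Ω[A⁄k]) = ⊤ := by
    have h1 : LinearMap.range f ⊔ m • (⊤ : Submodule A Ω[A⁄k]) = ⊤ := by
      refine eq_top_iff.mpr fun z _ => ?_
      obtain ⟨x, hx⟩ := hsurj1 ((m • (⊤ : Submodule A Ω[A⁄k])).mkQ z)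
      exact Submodule.mem_sup.mpr ⟨f x, ⟨x, rfl⟩, z - f x,
        (Submodule.Quotient.eq _).mp hx.symm, add_sub_cancel _ _⟩
    exact sup_pow_smul_eq_top h1
  have hlevel : ∀ n, ∀ x : F, f x ∈ m ^ n • (⊤ : Submodule A Ω[A⁄k]) → x ∈ m ^ n • (⊤ : Submodule A F) := by
    intro n
    rcases Nat.eq_zero_or_pos n with rfl | hn
    · intro x _
      rw [pow_zero, Ideal.one_eq_top, Submodule.top_smul]
      exact Submodule.mem_top
    let N := F ⧸ m ^ n • (⊤ : Submodule A F)
    let Q := Ω[A⁄k] ⧸ m ^ n • (⊤ : Submodule A Ω[A⁄k])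
    let π : N →ₗ[A] Q := Submodule.mapQ _ _ f (Submodule.map_le_iff_le_comap.mp (by
      rw [Submodule.map_smul'']; exact Submodule.smul_mono le_rfl le_top))
    have hN : ∀ a ∈ m ^ n, ∀ z : N, a • z = 0 := fun a ha z => by
      obtain ⟨z, rfl⟩ := Submodule.mkQ_surjective _ z
      rw [← map_smul, Submodule.mkQ_apply, Submodule.Quotient.mk_eq_zero]
      exact Submodule.smul_mem_smul ha Submodule.mem_top
    have hπ : Function.Surjective π := by
      intro z
      obtain ⟨z, rfl⟩ := Submodule.mkQ_surjective _ z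
      obtain ⟨y, ⟨x, rfl⟩, w, hw, rfl⟩ := Submodule.mem_sup.mp
        ((hsup n).ge (Submodule.mem_top (x := z)))
      refine ⟨(m ^ n • (⊤ : Submodule A F)).mkQ x, ?_⟩
      simp only [π, Submodule.mkQ_apply]
      exact (Submodule.Quotient.eq _).mpr (by rw [sub_add_cancel_left]; exact neg_mem hw)
    let d' : Derivation k A Q := (m ^ n • (⊤ : Submodule A Ω[A⁄k])).mkQ.compDer (D k A)
    obtain ⟨d, hd⟩ := FSQuot14.lift_derivation hfs n hN π hπ d'
    let s := d.liftKaehlerDifferential
    have hs : π ∘ₗ s = (m ^ n • (⊤ : Submodule A Ω[A⁄k])).mkQ := by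
      refine Derivation.liftKaehlerDifferential_unique _ _ (Derivation.ext fun a => ?_)
      show π (s (D k A a)) = _
      rw [Derivation.liftKaehlerDifferential_comp_D, hd]
    let e : N →ₗ[A] N := Submodule.liftQ _ (s ∘ₗ f) (Submodule.smul_le.mpr fun a ha z _ => by
      rw [LinearMap.mem_ker, map_smul, hN a ha])
    have hpe : ∀ z, π (e z) = π z := fun z => by
      obtain ⟨z, rfl⟩ := Submodule.mkQ_surjective _ z
      exact LinearMap.congr_fun hs (f z)
    have hkerπ : LinearMap.ker π ≤ m • (⊤ : Submodule A N) := fun z hz => by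
      obtain ⟨z, rfl⟩ := Submodule.mkQ_surjective _ z
      have hz' : f z ∈ m ^ n • (⊤ : Submodule A Ω[A⁄k]) := (Submodule.Quotient.mk_eq_zero _).mp hz
      have h1 := hres z (Submodule.smul_mono_left (Ideal.pow_le_self hn.ne') hz')
      have h2 := Submodule.mem_map_of_mem (f := (m ^ n • (⊤ : Submodule A F)).mkQ) h1
      rw [Submodule.map_smul''] at h2
      exact Submodule.smul_mono le_rfl le_top h2
    have hesurj : Function.Surjective e := by
      rw [← LinearMap.range_eq_top, eq_top_iff]
      refine Submodule.le_of_le_smul_of_le_jacobson_bot (Module.finite_def.mp inferInstance)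
        (IsLocalRing.maximalIdeal_le_jacobson _) fun z _ => ?_
      rw [show z = e z + (z - e z) from (add_sub_cancel _ _).symm]
      exact add_mem (Submodule.mem_sup_left ⟨z, rfl⟩)
        (Submodule.mem_sup_right (hkerπ (by rw [LinearMap.mem_ker, map_sub, hpe, sub_self])))
    have hinj := OrzechProperty.injective_of_surjective_endomorphism e hesurj
    intro x hx
    have h1 : e ((m ^ n • (⊤ : Submodule A F)).mkQ x) = 0 := by
      show s (f x) = 0
      have : m ^ n • (⊤ : Submodule A Ω[A⁄k]) ≤ LinearMap.ker s :=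
        Submodule.smul_le.mpr fun a ha z _ => by rw [LinearMap.mem_ker, map_smul, hN a ha]
      exact this hx
    exact (Submodule.Quotient.mk_eq_zero _).mp (hinj (h1.trans (map_zero e).symm))
  have hbij : Function.Bijective (AdicCompletion.map m f) := by
    refine ⟨?_, AdicCompletion.map_surjective_of_mkQ_comp_surjective hsurj1⟩
    rw [injective_iff_map_eq_zero]
    intro c hc
    refine AdicCompletion.ext fun n => ?_
    obtain ⟨x, hx⟩ := Submodule.mkQ_surjective _ (c.val n)
    have h := congrArg (fun c => c.val n) hc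
    simp only [AdicCompletion.map_val_apply, AdicCompletion.val_zero] at h
    rw [← hx] at h
    rw [← hx]
    exact (Submodule.Quotient.mk_eq_zero _).mpr (hlevel n x ((Submodule.Quotient.mk_eq_zero _).mp h))
  have := SGA3a.isAdicComplete_module_of_finite (A := A) F
  exact ⟨((LinearEquiv.ofBijective _ hbij).restrictScalars A).symm.trans
    (AdicCompletion.ofLinearEquiv m F).symm⟩

/-- The completed differentials of a formally smooth complete local algebra. -/
theorem omegaHat_free (hfs : CAlgX.IsAdicFormallySmooth k A (maximalIdeal A))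
    [Algebra.EssFiniteType k (ResidueField A)] :
    Module.Finite A (AdicCompletion (maximalIdeal A) (Ω[A⁄k])) ∧
      Module.Free A (AdicCompletion (maximalIdeal A) (Ω[A⁄k])) ∧
      (Module.finrank A (AdicCompletion (maximalIdeal A) (Ω[A⁄k])) : WithBot ℕ∞) =
        ringKrullDim A + (Cardinal.toNat (Algebra.trdeg k (ResidueField A)) : WithBot ℕ∞) := by
  obtain ⟨h1, h2⟩ := finrank_residue_kaehler hfs
  obtain ⟨e⟩ := free_completion hfs
  refine ⟨Module.Finite.equiv e.symm, Module.Free.of_equiv e.symm, ?_⟩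
  rw [e.finrank_eq, Module.finrank_fin_fun, h2]

end Groth.Agent.Cohen12
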