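import Mathlib.RingTheory.MvPowerSeries.Expand
import Mathlib.LinearAlgebra.FreeModule.Finite.Basic
import Groth.Agent.CAlg6.CompleteSurj

/-!
Power series over `R'` as a finite free module over power series in `n`-th powers over `R`.
-/

set_option autoImplicit false

universe u v

namespace Groth.Agent.Cohen12

open MvPowerSeries

variable (R : Type u) {R' : Type v} [CommRing R] [CommRing R'] [Algebra R R'] {r : ℕ} (q : ℕ) (hq : q ≠ 0)

/-- `f(T) ↦ f(T^q)` from power series over `R` to power series over `R'`. -/
noncomputable def expandHom (R' : Type v) [CommRing R'] [Algebra R R'] :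
    MvPowerSeries (Fin r) R →+* MvPowerSeries (Fin r) R' :=
  (MvPowerSeries.expand q hq).toRingHom.comp (MvPowerSeries.map (algebraMap R R'))

variable {R} in
theorem coeff_monomial_mul_expandHom (g : MvPowerSeries (Fin r) R) (a a' : Fin r → Fin q) (c : R')
    (n : Fin r →₀ ℕ) :
    coeff (q • n + Finsupp.equivFunOnFinite.symm fun i => (a' i : ℕ))
        (monomial (Finsupp.equivFunOnFinite.symm fun i => (a i : ℕ)) c * expandHom R q hq R' g) =
      if a = a' then coeff n g • c else 0 := by
  classical
  rw [coeff_monomial_mul]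
  by_cases h : a = a'
  · subst h
    rw [if_pos rfl, if_pos le_add_self, add_tsub_cancel_right]
    show c * coeff (q • n) (MvPowerSeries.expand q hq _) = _
    rw [coeff_expand_smul, coeff_map, Algebra.smul_def, mul_comm]
  · rw [if_neg h]
    split_ifs with hle
    · obtain ⟨i, hi⟩ := Function.ne_iff.mp h
      have hi' : (a i : ℕ) ≠ a' i := fun e => hi (Fin.ext e)
      show c * coeff _ (MvPowerSeries.expand q hq _) = _
      rw [coeff_expand_of_not_dvd q hq _ (i := i), mul_zero]
      simp only [Finsupp.coe_tsub, Finsupp.coe_add, Finsupp.coe_smul, Pi.sub_apply, Pi.add_apply,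
        Pi.smul_apply, smul_eq_mul, Finsupp.coe_equivFunOnFinite_symm]
      rintro ⟨d, hd⟩
      have hle' : (a i : ℕ) ≤ q * n i + a' i := by simpa using hle i
      have h1 : q * n i + (a' i : ℕ) = q * d + a i := by omega
      have h2 := congrArg (· % q) h1
      simp only [Nat.mul_add_mod, Nat.mod_eq_of_lt (a i).2, Nat.mod_eq_of_lt (a' i).2] at h2
      exact hi' h2.symm
    · rfl

/-- `R'[[T]]` is finite free over `R[[T^q]]` when `R'` is finite free over `R`. -/
theorem free_finite_range_expandHom [Nontrivial R] [Module.Free R R'] [Module.Finite R R']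
    (hinj : Function.Injective (algebraMap R R')) :
    Module.Free (expandHom (r := r) R q hq R').range (MvPowerSeries (Fin r) R') ∧
      Module.Finite (expandHom (r := r) R q hq R').range (MvPowerSeries (Fin r) R') := by
  classical
  let P := MvPowerSeries (Fin r) R
  let A := MvPowerSeries (Fin r) R'
  let φ : P →+* A := expandHom R q hq R'
  let : Algebra P A := φ.toAlgebra
  let b := Module.Free.chooseBasis R R'
  let κ := Module.Free.ChooseBasisIndex R R' × (Fin r → Fin q)
  let v : κ → A := fun x => monomial (Finsupp.equivFunOnFinite.symm fun i => (x.2 i : ℕ)) (b x.1)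
  let Φ : (κ → P) →ₗ[P] A := Fintype.linearCombination P v
  have hcoeff : ∀ (g : κ → P) (a' : Fin r → Fin q) (n : Fin r →₀ ℕ),
      coeff (q • n + Finsupp.equivFunOnFinite.symm fun i => (a' i : ℕ)) (Φ g) =
        ∑ j, coeff n (g (j, a')) • b j := fun g a' n => by
    simp only [Φ, Fintype.linearCombination_apply, map_sum, κ, Fintype.sum_prod_type]
    refine Finset.sum_congr rfl fun j _ => ?_
    simp only [v, Algebra.smul_def, RingHom.algebraMap_toAlgebra, φ]
    simp only [mul_comm (expandHom R q hq R' _), coeff_monomial_mul_expandHom, Finset.sum_ite_eq',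
      Finset.mem_univ, if_true, Algebra.smul_def]
  have hΦi : Function.Injective Φ := by
    rw [← LinearMap.ker_eq_bot, LinearMap.ker_eq_bot']
    intro g hg
    funext ⟨j, a⟩
    ext n
    have h := hcoeff g a n
    rw [hg, map_zero] at h
    exact (Fintype.linearIndependent_iff.mp b.linearIndependent _ h.symm j).trans (map_zero _).symm
  have hq0 : 0 < q := Nat.pos_of_ne_zero hq
  have hΦs : Function.Surjective Φ := fun f => by
    refine ⟨fun x n => b.repr (coeff (q • n + Finsupp.equivFunOnFinite.symm fun i => (x.2 i : ℕ)) f) x.1, ?_⟩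
    ext m
    let a : Fin r → Fin q := fun i => ⟨m i % q, Nat.mod_lt _ hq0⟩
    let n : Fin r →₀ ℕ := Finsupp.equivFunOnFinite.symm fun i => m i / q
    have hm : m = q • n + Finsupp.equivFunOnFinite.symm fun i => (a i : ℕ) := by
      ext i
      simp [n, a, Nat.div_add_mod]
    rw [hm, hcoeff]
    exact (Finset.sum_congr rfl fun j _ => by rfl).trans (b.sum_repr (coeff (q • n + Finsupp.equivFunOnFinite.symm fun i => (a i : ℕ)) f))
  let β : Module.Basis κ P A := Module.Basis.ofEquivFun (LinearEquiv.ofBijective Φ ⟨hΦi, hΦs⟩).symm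
  have hφ : Function.Injective φ := fun f g h => by
    ext n
    refine hinj ?_
    have h' := congrArg (coeff (q • n)) h
    simp only [φ, expandHom, RingHom.comp_apply, AlgHom.toRingHom_eq_coe, RingHom.coe_coe,
      coeff_expand_smul] at h'
    exact ((coeff_map (algebraMap R R') n f).symm.trans h').trans (coeff_map (algebraMap R R') n g)
  let e : P ≃+* φ.range := RingEquiv.ofBijective φ.rangeRestrict
    ⟨fun f g h => hφ (congrArg Subtype.val h), φ.rangeRestrict_surjective⟩
  let β' : Module.Basis κ φ.range A := β.mapCoeffs e fun c x => by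
    show (φ c : A) * x = _
    rw [Algebra.smul_def]
    rfl
  exact ⟨Module.Free.of_basis β', Module.Finite.of_basis β'⟩

end Groth.Agent.Cohen12
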