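import Groth.Prelude
import Groth.Agent.Cohen12.CotangentDifferential
import Groth.Agent.EGA4Alg4.RegParam
import Groth.Agent.EGA4Alg4.IntegralDim
import Groth.Agent.EGA4Alg4.Misc1
import Groth.Agent.E4O.DimFormula
import Groth.Agent.E4O.DimField
import Mathlib.Algebra.MvPolynomial.Eval
import Mathlib.Algebra.TrivSqZeroExt.Basic

/-!
# Quotients of `A[T₁, …, T_r]` by radicial equations of degree `p`

`B = A[T]/(Fᵢ)` with `Fᵢ = Tᵢᵖ + p gᵢ(Tᵢ) - fᵢ` is local of dimension `dim A`; it is regular if and
only if the `Fᵢ` are independent in the cotangent space of `A[T]` at the maximal ideal, i.e. if and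
only if the `dfᵢ` are independent at the closed point of `A`.
-/

set_option autoImplicit false

universe u

open IsLocalRing TensorProduct KaehlerDifferential

namespace Groth.Agent.Cohen12

variable {A : Type u} [CommRing A] [IsLocalRing A] {p : ℕ} [Fact p.Prime] [CharP (ResidueField A) p] {r : ℕ}

/-- Two ring maps to reduced rings of characteristic `p`: the maximal ideals of an algebra purely
radicial of exponent one over `A` coincide. -/
theorem maximalIdeal_unique {B : Type u} [CommRing B] [Algebra A B] [Algebra.IsIntegral A B]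
    (hB : ∀ x : B, ∃ a : A, x ^ p - algebraMap A B a ∈ (maximalIdeal A).map (algebraMap A B))
    (n n' : Ideal B) [hn : n.IsMaximal] [hn' : n'.IsMaximal] : n = n' := by
  have key : ∀ (n : Ideal B) [n.IsMaximal] (x : B) (a : A),
      x ^ p - algebraMap A B a ∈ (maximalIdeal A).map (algebraMap A B) → (x ∈ n ↔ a ∈ maximalIdeal A) := by
    intro n hn x a ha
    have hc : n.comap (algebraMap A B) = maximalIdeal A :=
      IsLocalRing.eq_maximalIdeal (Ideal.isMaximal_comap_of_isIntegral_of_isMaximal n)
    have h1 : x ^ p - algebraMap A B a ∈ n := Ideal.map_le_iff_le_comap.mpr hc.ge ha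
    rw [← hc, Ideal.mem_comap]
    refine ⟨fun hx => ?_, fun hx => hn.isPrime.mem_of_pow_mem p ?_⟩
    · have := sub_mem (Ideal.pow_mem_of_mem n hx p (Fact.out : p.Prime).pos) h1
      rwa [sub_sub_cancel] at this
    · have := add_mem h1 hx
      rwa [sub_add_cancel] at this
  ext x
  obtain ⟨a, ha⟩ := hB x
  rw [key n x a ha, key n' x a ha]

variable (g : Fin r → MvPolynomial (Fin r) A) (f : Fin r → A)

/-- The equation `Tᵢᵖ + p gᵢ - fᵢ`. -/
noncomputable def radEq (p : ℕ) (g : Fin r → MvPolynomial (Fin r) A) (f : Fin r → A) (i : Fin r) :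
    MvPolynomial (Fin r) A :=
  MvPolynomial.X i ^ p + (p : MvPolynomial (Fin r) A) * g i - MvPolynomial.C (f i)

theorem exists_pow_sub_mem (x : MvPolynomial (Fin r) A ⧸ Ideal.span (Set.range (radEq p g f))) :
    ∃ a : A, x ^ p - algebraMap A _ a ∈ (maximalIdeal A).map (algebraMap A _) := by
  let J := Ideal.span (Set.range (radEq p g f))
  let B := MvPolynomial (Fin r) A ⧸ J
  let N : Ideal B := (maximalIdeal A).map (algebraMap A B)
  have hp : (p : B) ∈ N := by
    rw [← map_natCast (algebraMap A B)]
    refine Ideal.mem_map_of_mem _ ((residue_eq_zero_iff _).mp ?_)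
    rw [map_natCast, CharP.cast_eq_zero]
  have hX : ∀ i, Ideal.Quotient.mk J (MvPolynomial.X i) ^ p - algebraMap A B (f i) ∈ N := fun i => by
    have h0 : Ideal.Quotient.mk J (radEq p g f i) = 0 :=
      Ideal.Quotient.eq_zero_iff_mem.mpr (Ideal.subset_span ⟨i, rfl⟩)
    simp only [radEq, map_sub, map_add, map_mul, map_pow, map_natCast] at h0
    have h1 : Ideal.Quotient.mk J (MvPolynomial.X i) ^ p - algebraMap A B (f i) =
        -((p : B) * Ideal.Quotient.mk J (g i)) := by
      rw [show algebraMap A B (f i) = Ideal.Quotient.mk J (MvPolynomial.C (f i)) from rfl]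
      linear_combination h0
    rw [h1]
    exact neg_mem (Ideal.mul_mem_right _ _ hp)
  have hfrob : ∀ x y : B, (x + y) ^ p - (x ^ p + y ^ p) ∈ N := fun x y => by
    obtain ⟨z, hz⟩ := exists_add_pow_prime_eq (Fact.out : p.Prime) x y
    rw [hz, add_sub_cancel_left, mul_assoc, mul_assoc]
    exact Ideal.mul_mem_right _ _ hp
  obtain ⟨x, rfl⟩ := Ideal.Quotient.mk_surjective x
  induction x using MvPolynomial.induction_on with
  | C a => exact ⟨a ^ p, by
      rw [map_pow, show Ideal.Quotient.mk J (MvPolynomial.C a) = algebraMap A B a from rfl, sub_self]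
      exact zero_mem _⟩
  | add x y hx hy =>
    obtain ⟨a, ha⟩ := hx
    obtain ⟨b, hb⟩ := hy
    refine ⟨a + b, ?_⟩
    have := add_mem (add_mem ha hb) (hfrob (Ideal.Quotient.mk J x) (Ideal.Quotient.mk J y))
    convert this using 1
    simp only [map_add]
    ring
  | mul_X x i hx =>
    obtain ⟨a, ha⟩ := hx
    refine ⟨a * f i, ?_⟩
    have := add_mem (Ideal.mul_mem_left _ (Ideal.Quotient.mk J (MvPolynomial.X i) ^ p) ha)
      (Ideal.mul_mem_left _ (algebraMap A B a) (hX i))
    convert this using 1
    simp only [map_mul, mul_pow]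
    ring

theorem span_radEq_ne_top : Ideal.span (Set.range (radEq p g f)) ≠ ⊤ := by
  let L := AlgebraicClosure (ResidueField A)
  let φ : A →+* L := (algebraMap (ResidueField A) L).comp (residue A)
  choose t ht using fun i => IsAlgClosed.exists_pow_nat_eq (φ (f i)) (Fact.out : p.Prime).pos
  let ψ : MvPolynomial (Fin r) A →+* L := MvPolynomial.eval₂Hom φ t
  refine ne_top_of_le_ne_top (RingHom.ker_ne_top ψ) (Ideal.span_le.mpr ?_)
  rintro _ ⟨i, rfl⟩
  have hp : (p : L) = 0 := by rw [← map_natCast (algebraMap (ResidueField A) L), CharP.cast_eq_zero, map_zero]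
  simp [radEq, ψ, ht, hp]


/-- The quotient is local and its dimension is at most that of `A`. -/
theorem radQuotient_local [Algebra.IsIntegral A (MvPolynomial (Fin r) A ⧸ Ideal.span (Set.range (radEq p g f)))] :
    IsLocalRing (MvPolynomial (Fin r) A ⧸ Ideal.span (Set.range (radEq p g f))) := by
  have : Nontrivial (MvPolynomial (Fin r) A ⧸ Ideal.span (Set.range (radEq p g f))) :=
    Ideal.Quotient.nontrivial_iff.mpr (span_radEq_ne_top g f)
  obtain ⟨n, hn⟩ := Ideal.exists_maximal (MvPolynomial (Fin r) A ⧸ Ideal.span (Set.range (radEq p g f)))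
  exact IsLocalRing.of_unique_max_ideal
    ⟨n, hn, fun n' hn' => maximalIdeal_unique (exists_pow_sub_mem g f) n' n⟩

omit [IsLocalRing A] in
/-- Derivations at a point of a localization of a polynomial ring over `A`, extending one of `A`. -/
theorem exists_derivation_extension {R L N : Type u} [CommRing R] [CommRing L] [AddCommGroup N] [Module L N]
    [Algebra (MvPolynomial (Fin r) A) R] (S : Submonoid (MvPolynomial (Fin r) A)) [IsLocalization S R]
    (ψ : R →+* L) (φ : A →+* L)
    (hφ : ∀ a, ψ (algebraMap (MvPolynomial (Fin r) A) R (MvPolynomial.C a)) = φ a)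
    (d : A →+ N) (hd : ∀ a b, d (a * b) = φ a • d b + φ b • d a) :
    ∃ δ : R →+ N, (∀ a b, δ (a * b) = ψ a • δ b + ψ b • δ a) ∧
      ∀ a, δ (algebraMap (MvPolynomial (Fin r) A) R (MvPolynomial.C a)) = d a := by
  let : Module Lᵐᵒᵖ N := Module.compHom N ((RingHom.id L).fromOpposite mul_comm)
  have : IsCentralScalar L N := ⟨fun _ _ => rfl⟩
  let P := MvPolynomial (Fin r) A
  have hd1 : d 1 = 0 := by simpa using hd 1 1
  let θA : A →+* TrivSqZeroExt L N :=
    { toFun := fun a => TrivSqZeroExt.inl (φ a) + TrivSqZeroExt.inr (d a)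
      map_one' := by simp [hd1]
      map_zero' := by simp
      map_add' := fun a b => by
        refine TrivSqZeroExt.ext ?_ ?_ <;> simp
      map_mul' := fun a b => by
        refine TrivSqZeroExt.ext ?_ ?_
        · simp
        · simp [hd] }
  let θP : P →+* TrivSqZeroExt L N :=
    MvPolynomial.eval₂Hom θA fun i => TrivSqZeroExt.inl (ψ (algebraMap P R (MvPolynomial.X i)))
  have hθfst : ∀ z, (θP z).fst = ψ (algebraMap P R z) := by
    intro z
    have h : (TrivSqZeroExt.fstHom L L N).toRingHom.comp θP = ψ.comp (algebraMap P R) := by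
      refine MvPolynomial.ringHom_ext (fun a => ?_) fun i => ?_
      · simp [θP, θA, P, hφ]
      · simp [θP]
    exact RingHom.congr_fun h z
  have hu : ∀ y : S, IsUnit (θP y) := fun y => by
    rw [TrivSqZeroExt.isUnit_iff_isUnit_fst, hθfst]
    exact (IsLocalization.map_units R y).map _
  let θ : R →+* TrivSqZeroExt L N := IsLocalization.lift hu
  have hθ : ∀ z, (θ z).fst = ψ z := by
    intro z
    have h : (TrivSqZeroExt.fstHom L L N).toRingHom.comp θ = ψ :=
      IsLocalization.ringHom_ext S (RingHom.ext fun y => by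
        simp only [RingHom.comp_apply, θ, IsLocalization.lift_eq]
        exact hθfst y)
    exact RingHom.congr_fun h z
  refine ⟨AddMonoidHom.mk' (fun z => (θ z).snd) fun a b => by rw [map_add, TrivSqZeroExt.snd_add],
    fun a b => ?_, fun a => ?_⟩
  · show (θ (a * b)).snd = ψ a • (θ b).snd + ψ b • (θ a).snd
    rw [map_mul, TrivSqZeroExt.snd_mul, hθ, hθ, op_smul_eq_smul]
  · show (θ (algebraMap P R (MvPolynomial.C a))).snd = d a
    rw [show θ (algebraMap P R (MvPolynomial.C a)) = θP (MvPolynomial.C a) from IsLocalization.lift_eq hu _,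
      show θP (MvPolynomial.C a) = θA a from MvPolynomial.eval₂Hom_C _ _ _]
    simp [θA]

/-- The equations are independent in the cotangent space at a prime over the maximal ideal exactly
when the `dfᵢ` are independent at the closed point. -/
theorem linearIndependent_radEq_iff {R : Type u} [CommRing R] [IsLocalRing R]
    [Algebra (MvPolynomial (Fin r) A) R] [Algebra A R] [IsScalarTower A (MvPolynomial (Fin r) A) R]
    (M : Ideal (MvPolynomial (Fin r) A)) [M.IsPrime] [IsLocalization.AtPrime R M]
    (hMA : M.comap (algebraMap A (MvPolynomial (Fin r) A)) = maximalIdeal A)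
    (hp : (p : A) ∈ maximalIdeal A ^ 2) (x : Fin r → maximalIdeal R)
    (hx : ∀ i, (x i : R) = algebraMap (MvPolynomial (Fin r) A) R (radEq p g f i)) :
    LinearIndependent (ResidueField R) (fun i => (maximalIdeal R).toCotangent (x i)) ↔
      LinearIndependent (ResidueField A) (fun i => (1 : ResidueField A) ⊗ₜ[A] D ℤ A (f i)) := by
  classical
  let P := MvPolynomial (Fin r) A
  let F := radEq p g f
  have hmax : M.map (algebraMap P R) = maximalIdeal R := IsLocalization.AtPrime.map_eq_maximalIdeal M R
  let L := ResidueField R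
  have hA0 : ∀ a ∈ maximalIdeal A, algebraMap A L a = 0 := fun a ha => by
    rw [IsScalarTower.algebraMap_apply A R L, IsScalarTower.algebraMap_apply A P R]
    refine (residue_eq_zero_iff _).mpr ?_
    rw [← hmax]
    exact Ideal.mem_map_of_mem _ (show algebraMap A P a ∈ M from hMA.ge ha)
  let : Algebra (ResidueField A) L :=
    (Ideal.Quotient.lift (maximalIdeal A) (algebraMap A L) hA0).toAlgebra
  have : IsScalarTower A (ResidueField A) L := IsScalarTower.of_algebraMap_eq fun _ => rfl
  have : CharP L p := charP_of_injective_ringHom (algebraMap (ResidueField A) L).injective p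
  have hpL : (p : L) = 0 := CharP.cast_eq_zero L p
  have hpR : (p : R) ∈ maximalIdeal R ^ 2 := by
    rw [← map_natCast (algebraMap A R), IsScalarTower.algebraMap_eq A P R, RingHom.comp_apply,
      ← hmax, ← Ideal.map_pow]
    refine Ideal.mem_map_of_mem _ ?_
    have h := Ideal.mem_map_of_mem (algebraMap A P) hp
    rw [Ideal.map_pow] at h
    exact Ideal.pow_right_mono (Ideal.map_le_iff_le_comap.mpr hMA.ge) 2 h
  -- differentials of the equations at the closed point
  have hDnat : D ℤ R (p : R) = 0 := by rw [← map_natCast (algebraMap ℤ R), Derivation.map_algebraMap]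
  have hDx : ∀ i, (1 : L) ⊗ₜ[R] D ℤ R (x i : R) = -((1 : L) ⊗ₜ[R] D ℤ R (algebraMap A R (f i))) := fun i => by
    rw [hx]
    have h0 : ∀ z : Ω[R⁄ℤ], (1 : L) ⊗ₜ[R] ((p : R) • z) = 0 := fun z => by
      rw [TensorProduct.tmul_smul, TensorProduct.smul_tmul', Algebra.smul_def, map_natCast, hpL, zero_mul, TensorProduct.zero_tmul]
    simp only [F, radEq, map_sub, map_add, map_mul, map_pow, map_natCast, Derivation.leibniz, hDnat,
      Derivation.leibniz_pow, TensorProduct.tmul_sub, TensorProduct.tmul_add, smul_zero, add_zero]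
    rw [h0, add_zero, ← Nat.cast_smul_eq_nsmul R, h0, zero_sub]
    rw [IsScalarTower.algebraMap_apply A P R]
    rfl
  -- the comparison with `L ⊗ Ω[A⁄ℤ]`
  let μ : L ⊗[A] Ω[A⁄ℤ] →ₗ[L] L ⊗[R] Ω[R⁄ℤ] :=
    LinearMap.liftBaseChange L
      (((TensorProduct.mk R L Ω[R⁄ℤ] 1).compDer (D ℤ R)).compAlgebraMap A).liftKaehlerDifferential
  obtain ⟨δR, hδmul, hδC⟩ := exists_derivation_extension (R := R) M.primeCompl (algebraMap R L) (algebraMap A L)
    (fun a => by
      rw [← MvPolynomial.algebraMap_eq, ← IsScalarTower.algebraMap_apply A P R, ← IsScalarTower.algebraMap_apply A R L])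
    (AddMonoidHom.mk' (fun a => (1 : L) ⊗ₜ[A] D ℤ A a) fun a b => by rw [map_add, TensorProduct.tmul_add])
    (fun a b => by
      show (1 : L) ⊗ₜ[A] D ℤ A (a * b) = _
      rw [Derivation.leibniz, TensorProduct.tmul_add, TensorProduct.tmul_smul, TensorProduct.tmul_smul,
        algebraMap_smul, algebraMap_smul]
      rfl)
  let dD : Derivation ℤ R (L ⊗[A] Ω[A⁄ℤ]) := Derivation.mk' δR.toIntLinearMap fun a b => by
    show δR (a * b) = a • δR b + b • δR a
    rw [hδmul, algebraMap_smul, algebraMap_smul]
  let ν : L ⊗[R] Ω[R⁄ℤ] →ₗ[L] L ⊗[A] Ω[A⁄ℤ] := dD.liftKaehlerDifferential.liftBaseChange L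
  have hμ : ∀ a, μ ((1 : L) ⊗ₜ[A] D ℤ A a) = (1 : L) ⊗ₜ[R] D ℤ R (algebraMap A R a) := fun a => by
    simp [μ]
  have hν : ∀ a, ν ((1 : L) ⊗ₜ[R] D ℤ R (algebraMap A R a)) = (1 : L) ⊗ₜ[A] D ℤ A a := fun a => by
    simp only [ν, LinearMap.liftBaseChange_tmul, one_smul, Derivation.liftKaehlerDifferential_comp_D]
    show δR (algebraMap A R a) = _
    rw [IsScalarTower.algebraMap_apply A P R]
    exact hδC a
  rw [linearIndependent_toCotangent_iff p hpR x,
    linearIndependent_one_tmul_iff (L := L) (fun i => D ℤ A (f i))]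
  simp only [hDx]
  rw [show (fun i => -((1 : L) ⊗ₜ[R] D ℤ R (algebraMap A R (f i)))) =
    (-LinearMap.id : L ⊗[R] Ω[R⁄ℤ] →ₗ[L] L ⊗[R] Ω[R⁄ℤ]) ∘ fun i => μ ((1 : L) ⊗ₜ[A] D ℤ A (f i)) from
      funext fun i => by simp [hμ],
    (-LinearMap.id : L ⊗[R] Ω[R⁄ℤ] →ₗ[L] L ⊗[R] Ω[R⁄ℤ]).linearIndependent_iff
      (LinearMap.ker_eq_bot.mpr fun a b h => neg_injective h)]
  refine ⟨fun h => LinearIndependent.of_comp μ h, fun h => LinearIndependent.of_comp ν ?_⟩
  simpa [Function.comp_def, hμ, hν] using h

/-- The criterion of regularity. -/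
theorem radQuotient_regular_iff [IsRegularLocalRing A] (hp : (p : A) ∈ maximalIdeal A ^ 2)
    [Algebra.IsIntegral A (MvPolynomial (Fin r) A ⧸ Ideal.span (Set.range (radEq p g f)))] :
    IsRegularRing (MvPolynomial (Fin r) A ⧸ Ideal.span (Set.range (radEq p g f))) ↔
      LinearIndependent (ResidueField A) (fun i => (1 : ResidueField A) ⊗ₜ[A] D ℤ A (f i)) := by
  classical
  let P := MvPolynomial (Fin r) A
  let F := radEq p g f
  let J : Ideal P := Ideal.span (Set.range F)
  let B := P ⧸ J
  have hBloc : IsLocalRing B := radQuotient_local g f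
  let M : Ideal P := (maximalIdeal B).comap (Ideal.Quotient.mk J)
  have hM : M.IsMaximal := Ideal.comap_isMaximal_of_surjective _ Ideal.Quotient.mk_surjective
  have hJM : J ≤ M := fun x hx => by
    rw [Ideal.mem_comap, Ideal.Quotient.eq_zero_iff_mem.mpr hx]
    exact zero_mem _
  have hMA : M.comap (algebraMap A P) = maximalIdeal A :=
    IsLocalRing.eq_maximalIdeal (show ((maximalIdeal B).comap (algebraMap A B)).IsMaximal from
      Ideal.isMaximal_comap_of_isIntegral_of_isMaximal _)
  have : M.LiesOver (maximalIdeal A) := ⟨hMA.symm⟩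
  let R := Localization.AtPrime M
  have : IsRegularRing A := isRegularRing_iff.mpr fun q _ => CAlg1.regular_localization A q
  have : IsRegularLocalRing R := (inferInstance : IsRegularRing P).isRegularLocalRing_localization M
  let x : Fin r → maximalIdeal R := fun i => ⟨algebraMap P R (F i), by
    rw [← Localization.AtPrime.map_eq_maximalIdeal]
    exact Ideal.mem_map_of_mem _ (hJM (Ideal.subset_span ⟨i, rfl⟩))⟩
  have hli := linearIndependent_radEq_iff g f M hMA hp x fun i => rfl
  -- `B` is the quotient of the regular local ring `R`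
  let JR : Ideal R := Ideal.span (Set.range fun i => (x i : R))
  have hJR : J.map (algebraMap P R) = JR := by rw [Ideal.map_span, ← Set.range_comp]; rfl
  let toQ : B →+* R ⧸ JR :=
    Ideal.Quotient.lift J ((Ideal.Quotient.mk JR).comp (algebraMap P R)) fun z hz =>
      Ideal.Quotient.eq_zero_iff_mem.mpr (hJR.le (Ideal.mem_map_of_mem _ hz))
  have hunit : ∀ y : M.primeCompl, IsUnit (Ideal.Quotient.mk J y) := fun y =>
    IsLocalRing.notMem_maximalIdeal.mp y.2
  let back : R →+* B := IsLocalization.lift hunit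
  have hback : ∀ z ∈ JR, back z = 0 := by
    intro z hz
    refine (show JR ≤ RingHom.ker back from Ideal.span_le.mpr ?_) hz
    rintro _ ⟨i, rfl⟩
    show back (algebraMap P R (F i)) = 0
    rw [show back (algebraMap P R (F i)) = Ideal.Quotient.mk J (F i) from IsLocalization.lift_eq hunit _,
      Ideal.Quotient.eq_zero_iff_mem]
    exact Ideal.subset_span ⟨i, rfl⟩
  let ofQ : R ⧸ JR →+* B := Ideal.Quotient.lift JR back hback
  let e : B ≃+* R ⧸ JR := RingEquiv.ofRingHom toQ ofQ
    (Ideal.Quotient.ringHom_ext (IsLocalization.ringHom_ext M.primeCompl (RingHom.ext fun z => by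
      show toQ (back (algebraMap P R z)) = Ideal.Quotient.mk JR (algebraMap P R z)
      rw [show back (algebraMap P R z) = Ideal.Quotient.mk J z from IsLocalization.lift_eq hunit z]
      rfl)))
    (Ideal.Quotient.ringHom_ext (RingHom.ext fun z => by
      show back (algebraMap P R z) = Ideal.Quotient.mk J z
      exact IsLocalization.lift_eq hunit z))
  have hreg : IsRegularRing B ↔ IsRegularLocalRing (R ⧸ JR) :=
    ⟨fun h => by
      have : IsRegularLocalRing B := IsRegularLocalRing.of_isRegularRing_of_isLocalRing B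
      exact IsRegularLocalRing.of_ringEquiv e,
    fun h => by
      have : IsRegularLocalRing B := @IsRegularLocalRing.of_ringEquiv (R ⧸ JR) _ h B _ e.symm
      exact isRegularRing_iff.mpr fun q _ => CAlg1.regular_localization B q⟩
  -- dimensions
  have hdim : ringKrullDim (R ⧸ JR) + r = ringKrullDim R := by
    have hB : ringKrullDim (R ⧸ JR) ≤ ringKrullDim A := by
      rw [← ringKrullDim_eq_of_ringEquiv e]
      exact EGA4Alg4.ringKrullDim_le_of_integral A B
    have hR : ringKrullDim R = ringKrullDim A + r := by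
      have h := E4O.height_add_trdeg_mvPolynomial A r (maximalIdeal A) M
      let : Field (A ⧸ maximalIdeal A) := Ideal.Quotient.field _
      let : Field (P ⧸ M) := Ideal.Quotient.field _
      have : Algebra.FiniteType (A ⧸ maximalIdeal A) (P ⧸ M) := Algebra.FiniteType.of_restrictScalars_finiteType A _ _
      have : Module.Finite (A ⧸ maximalIdeal A) (P ⧸ M) :=
        finite_of_finite_type_of_isJacobsonRing (A ⧸ maximalIdeal A) (P ⧸ M)
      rw [show Algebra.trdeg (A ⧸ maximalIdeal A) (P ⧸ M) = 0 from trdeg_eq_zero, add_zero] at h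
      rw [IsLocalization.AtPrime.ringKrullDim_eq_height M R, ← IsLocalRing.maximalIdeal_height_eq_ringKrullDim]
      have h' : M.height = (maximalIdeal A).height + r := Cardinal.ofENat_injective (by
        rw [h, Cardinal.ofENat_add, Cardinal.ofENat_nat])
      rw [h']
      rfl
    refine le_antisymm ?_ ?_
    · rw [hR]; exact add_le_add hB le_rfl
    · have hJm : JR ≤ maximalIdeal R := Ideal.span_le.mpr (Set.range_subset_iff.mpr fun i => (x i).2)
      refine (ringKrullDim_le_ringKrullDim_quotient_add_spanFinrank JR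
        (by rw [ringJacobson_eq_maximalIdeal]; exact hJm)).trans (add_le_add le_rfl ?_)
      have h2 : JR.spanFinrank ≤ r := by
        refine (Submodule.spanFinrank_span_le_ncard_of_finite (Set.finite_range _)).trans ?_
        rw [← Set.image_univ]
        exact (Set.ncard_image_le Set.finite_univ).trans (by simp)
      exact_mod_cast h2
  rw [hreg, ← hli]
  refine ⟨fun h => (((EGA4Alg4.regular_params_iff x).1).mpr ⟨hdim, h⟩).2,
    fun h => (((EGA4Alg4.regular_params_iff x).1).mp ⟨inferInstance, h⟩).2⟩

end Groth.Agent.Cohen12
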