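import Groth.Agent.Cohen12.Completion
import Groth.Agent.Cohen12.Field
import Groth.Agent.FSAdic12.LiftComplete
import Groth.Agent.FSAdic12.Basic

/-!
# Formally smooth local algebras over perfect fields are regular
-/

set_option autoImplicit false
set_option maxHeartbeats 1000000

universe u

namespace Groth.Agent.Cohen12

open IsLocalRing

/-- A Noetherian local algebra over a perfect field, formally smooth for the adic topology, is regular
and its completion is a power series ring over the residue field. -/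
theorem exists_powerSeries_equiv_of_formallySmooth {P A : Type u} [Field P] [PerfectField P] [CommRing A]
    [IsLocalRing A] [IsNoetherianRing A] [Algebra P A]
    (h : CAlgX.IsAdicFormallySmooth P A (maximalIdeal A)) :
    IsRegularLocalRing A ∧
      ∃ n : ℕ, Nonempty (AdicCompletion (maximalIdeal A) A ≃+*
        MvPowerSeries (Fin n) (ResidueField (AdicCompletion (maximalIdeal A) A))) := by
  have := isNoetherianRing_completion A
  have := isAdicComplete_completion A
  let C := AdicCompletion (maximalIdeal A) A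
  have : Algebra.FormallySmooth P (ResidueField C) := Sep12.formallySmooth_of_perfectField P _
  obtain ⟨σ, hσ⟩ := exists_lift_complete (maximalIdeal C) (AlgHom.id P (ResidueField C))
  obtain ⟨ψ, hψs, hψC, hψk⟩ := exists_powerSeries_surjective σ.toRingHom (fun x => ⟨x, hσ x⟩)
  let e := (maximalIdeal C).spanFinrank
  let R := MvPowerSeries (Fin e) (ResidueField C)
  let ψ' : R →ₐ[P] C := { ψ with commutes' := fun r => (congrArg ψ (MvPowerSeries.algebraMap_apply (r := r))).trans ((hψC _).trans (σ.commutes r)) }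
  have hmψ : (maximalIdeal R).map ψ = maximalIdeal C := by
    refine le_antisymm (Ideal.map_le_iff_le_comap.mpr fun z hz => ?_) fun c hc => ?_
    · refine (mem_maximalIdeal _).mpr fun hu => ?_
      obtain ⟨y, hy⟩ := hu.exists_right_inv
      obtain ⟨y', rfl⟩ := hψs y
      have h1 : z * y' - 1 ∈ RingHom.ker ψ := by rw [RingHom.mem_ker, map_sub, map_mul, hy, map_one, sub_self]
      have h2 : z * y' - 1 ∈ maximalIdeal R := Ideal.pow_le_self two_ne_zero (hψk h1)
      have := sub_mem (Ideal.mul_mem_right y' _ hz) h2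
      rw [sub_sub_cancel] at this
      exact (mem_maximalIdeal _).mp this isUnit_one
    · obtain ⟨z, rfl⟩ := hψs c
      exact Ideal.mem_map_of_mem _ ((mem_maximalIdeal _).mpr fun hu => (mem_maximalIdeal _).mp hc (hu.map ψ))
  -- the map `A → R / m_R²`
  have hker : ∀ z, ψ z ∈ maximalIdeal C ^ 2 → z ∈ maximalIdeal R ^ 2 := fun z hz => by
    have hz' : ψ z ∈ (maximalIdeal R).map ψ ^ 2 := (SetLike.ext_iff.mp (congrArg (· ^ 2) hmψ) _).mpr hz
    rw [← Ideal.map_pow, Ideal.mem_map_iff_of_surjective _ hψs] at hz'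
    obtain ⟨y, hy, hyz⟩ := hz'
    have := add_mem hy (hψk (show z - y ∈ RingHom.ker ψ by rw [RingHom.mem_ker, map_sub, hyz, sub_self]))
    rwa [add_sub_cancel] at this
  let θ : (R ⧸ maximalIdeal R ^ 2) →ₐ[P] C ⧸ maximalIdeal C ^ 2 :=
    Ideal.quotientMapₐ (maximalIdeal C ^ 2) ψ' (by
      rw [← Ideal.map_le_iff_le_comap, Ideal.map_pow]
      exact (congrArg (· ^ 2) hmψ).le)
  have hθ : Function.Bijective θ := by
    constructor
    · rw [injective_iff_map_eq_zero]
      intro z hz
      obtain ⟨z, rfl⟩ := Ideal.Quotient.mk_surjective z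
      exact Ideal.Quotient.eq_zero_iff_mem.mpr (hker z (Ideal.Quotient.eq_zero_iff_mem.mp hz))
    · intro c
      obtain ⟨c, rfl⟩ := Ideal.Quotient.mk_surjective c
      obtain ⟨z, rfl⟩ := hψs c
      exact ⟨Ideal.Quotient.mk _ z, rfl⟩
  let θe := AlgEquiv.ofBijective θ hθ
  let u : A →ₐ[P] R ⧸ maximalIdeal R ^ 2 :=
    θe.symm.toAlgHom.comp ((Ideal.Quotient.mkₐ P (maximalIdeal C ^ 2)).comp (IsScalarTower.toAlgHom P A C))
  have hu : ∀ (a : A) (z : R), ψ z - algebraMap A C a ∈ maximalIdeal C ^ 2 → u a = Ideal.Quotient.mk _ z :=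
    fun a z hz => by
      apply hθ.1
      show θ (θe.symm (Ideal.Quotient.mk _ (algebraMap A C a))) = Ideal.Quotient.mk _ (ψ z)
      rw [show θ (θe.symm _) = _ from θe.apply_symm_apply _]
      exact (Ideal.Quotient.eq.mpr hz).symm
  have humax : (maximalIdeal A).map u.toRingHom ≤ (maximalIdeal R).map (Ideal.Quotient.mk (maximalIdeal R ^ 2)) := by
    rw [Ideal.map_le_iff_le_comap]
    intro a ha
    obtain ⟨z, hz⟩ := hψs (algebraMap A C a)
    rw [Ideal.mem_comap]
    show u a ∈ _
    rw [hu a z (by rw [hz, sub_self]; exact zero_mem _)]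
    refine Ideal.mem_map_of_mem _ ((mem_maximalIdeal _).mpr fun hzu => ?_)
    have h1 := (algebraMap_mem_pow_iff A 1 a).mpr (by rwa [pow_one])
    rw [pow_one, ← hz] at h1
    exact (mem_maximalIdeal _).mp h1 (hzu.map ψ)
  have := CAlg6.isAdicComplete_maximalIdeal (k := ResidueField C) (d := e)
  have : IsRegularLocalRing R := CAlg6.isRegularLocalRing_mvPowerSeries
  have : IsHausdorff ((maximalIdeal R).map (Ideal.Quotient.mk (maximalIdeal R ^ 2))) (R ⧸ maximalIdeal R ^ 2) :=
    ⟨fun x hx => by
      have h2 := hx 2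
      rw [SModEq.zero, smul_eq_mul, Ideal.mul_top, ← Ideal.map_pow, Ideal.map_quotient_self] at h2
      exact (Submodule.mem_bot _).mp h2⟩
  obtain ⟨v, ⟨k, hvk⟩, hvu⟩ := FSAdic12.lift_to_complete ⊥ (maximalIdeal A) (maximalIdeal R)
    ((FSAdic12.isAdicFormallySmooth_iff _).mp h) ⟨1, by simp⟩ (maximalIdeal R ^ 2)
    ⟨1, by rw [pow_one]; exact Ideal.pow_le_self two_ne_zero⟩ u ⟨1, by rw [pow_one]; exact humax⟩
  have hvm : (maximalIdeal A).map v.toRingHom ≤ maximalIdeal R := by
    rw [Ideal.map_le_iff_le_comap]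
    intro a ha
    have h1 := hvk (Ideal.mem_map_of_mem _ (Ideal.pow_mem_pow ha k))
    rw [map_pow] at h1
    exact (maximalIdeal.isMaximal R).isPrime.mem_of_pow_mem k h1
  have hsur : ∀ x : R, ∃ a : A, x - v a ∈ maximalIdeal R ^ 2 := fun x => by
    obtain ⟨a, ha⟩ := exists_sub_mem_pow A 2 (ψ x)
    refine ⟨a, Ideal.Quotient.eq.mp ?_⟩
    rw [← hu a x ha]
    exact (AlgHom.congr_fun hvu a).symm
  obtain ⟨g, hg⟩ := exists_extension A v.toRingHom hvm
  have hgm : (maximalIdeal C).map g ≤ maximalIdeal R := by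
    rw [AdicCompletion.maximalIdeal_eq_map, Ideal.map_map]
    refine le_of_eq_of_le ?_ hvm
    congr 1
    exact RingHom.ext hg
  have hgs : Function.Surjective g := by
    refine CAlg6.surjective_of_cotangent g hgm (fun z => ?_) fun x hx => ?_
    · obtain ⟨x, rfl⟩ := residue_surjective z
      obtain ⟨a, ha⟩ := hsur x
      refine ⟨algebraMap A C a, ?_⟩
      rw [RingHom.comp_apply, hg, eq_comm, ← sub_eq_zero, ← map_sub, residue_eq_zero_iff]
      exact Ideal.pow_le_self two_ne_zero ha
    · obtain ⟨a, ha⟩ := hsur x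
      refine Submodule.mem_sup.mpr ⟨v a, ?_, x - v a, ha, add_sub_cancel _ _⟩
      rw [show v a = g (algebraMap A C a) from (hg a).symm]
      refine Ideal.mem_map_of_mem _ ((mem_maximalIdeal _).mpr fun hau => ?_)
      have h1 : IsUnit (v a) := by rw [show v a = g (algebraMap A C a) from (hg a).symm]; exact hau.map g
      have := sub_mem hx (Ideal.pow_le_self two_ne_zero ha)
      rw [sub_sub_cancel] at this
      exact (mem_maximalIdeal _).mp this h1
  have : IsDomain R := NoZeroDivisors.to_isDomain _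
  have hinj : Function.Injective (g.comp ψ) :=
    CAlg6.injective_of_surjective_of_ringKrullDim_eq _ (hgs.comp hψs) e CAlg6.ringKrullDim_mvPowerSeries
      CAlg6.ringKrullDim_mvPowerSeries
  have hψb : Function.Bijective ψ := ⟨fun a b hab => hinj (congrArg g hab), hψs⟩
  let E := RingEquiv.ofBijective ψ hψb
  refine ⟨IsRegularLocalRing.of_spanFinrank_maximalIdeal_le A ?_, e, ⟨E.symm⟩⟩
  rw [← CAlg1.ringKrullDim_adicCompletion A, ← ringKrullDim_eq_of_ringEquiv E,
    CAlg6.ringKrullDim_mvPowerSeries]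
  exact_mod_cast spanFinrank_maximalIdeal_le_completion A

end Groth.Agent.Cohen12
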