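import Groth.Agent.LC17.SamuelPoly
import Groth.Agent.EGA4H10.LengthDim

/-!
# Additivity of the normalised Samuel function
-/

set_option autoImplicit false
universe u
open IsLocalRing Filter Topology

namespace Groth.Agent.Cohen12.SamuelAdd

open Groth.Agent.LC17 (samuel)

variable {A : Type u} [CommRing A] [IsNoetherianRing A] [IsLocalRing A]

variable {P M Q : Type u} [AddCommGroup P] [Module A P] [AddCommGroup M] [Module A M]
  [AddCommGroup Q] [Module A Q] [Module.Finite A P] [Module.Finite A M] [Module.Finite A Q]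

omit [IsNoetherianRing A] [IsLocalRing A] [Module.Finite A P] [Module.Finite A M]
  [Module.Finite A Q] in
/-- the cokernel part -/
theorem length_sup_eq (J : Ideal A) (f : P →ₗ[A] M) (g : M →ₗ[A] Q) (hg : Function.Surjective g)
    (hfg : LinearMap.range f = LinearMap.ker g) (n : ℕ) :
    Module.length A (M ⧸ (LinearMap.range f ⊔ J ^ n • (⊤ : Submodule A M))) =
      Module.length A (Q ⧸ (J ^ n • (⊤ : Submodule A Q))) := by
  let φ := (J ^ n • (⊤ : Submodule A Q)).mkQ ∘ₗ g
  have hker : LinearMap.ker φ = LinearMap.range f ⊔ J ^ n • (⊤ : Submodule A M) := by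
    rw [LinearMap.ker_comp, Submodule.ker_mkQ, ← LinearMap.range_eq_top.2 hg, ← Submodule.map_top,
      ← Submodule.map_smul'', Submodule.comap_map_eq, hfg, sup_comm]
  exact ((Submodule.quotEquivOfEq _ _ hker.symm).trans
    (φ.quotKerEquivOfSurjective ((Submodule.mkQ_surjective _).comp hg))).length_eq

omit [IsNoetherianRing A] [IsLocalRing A] [Module.Finite A P] [Module.Finite A M]
  [Module.Finite A Q] in
/-- the easy inequality -/
theorem length_le (J : Ideal A) (f : P →ₗ[A] M) (n : ℕ) :
    Module.length A (M ⧸ (J ^ n • (⊤ : Submodule A M))) ≤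
      Module.length A (P ⧸ (J ^ n • (⊤ : Submodule A P))) +
        Module.length A (M ⧸ (LinearMap.range f ⊔ J ^ n • (⊤ : Submodule A M))) := by
  let W : Submodule A M := J ^ n • ⊤
  let α : (P ⧸ (J ^ n • (⊤ : Submodule A P))) →ₗ[A] M ⧸ W := Submodule.mapQ _ _ f
    (Submodule.map_le_iff_le_comap.1 (by
      rw [Submodule.map_smul'']; exact Submodule.smul_mono le_rfl le_top))
  rw [Module.length_eq_add_of_exact (LinearMap.range α).subtype (LinearMap.range α).mkQ
    (Submodule.subtype_injective _) (Submodule.mkQ_surjective _) (LinearMap.exact_subtype_mkQ _)]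
  refine add_le_add (Module.length_le_of_surjective α.rangeRestrict α.surjective_rangeRestrict) ?_
  have hr : LinearMap.range α = (LinearMap.range f ⊔ W).map W.mkQ := by
    rw [Submodule.range_mapQ, Submodule.map_sup, Submodule.mkQ_map_self, sup_bot_eq]
  exact le_of_eq ((Submodule.quotEquivOfEq _ _ hr).trans
    (Submodule.quotientQuotientEquivQuotient W _ le_sup_right)).length_eq

/-- Additivity of the leading term of the Samuel function on short exact sequences. -/
theorem tendsto_of_exact (J : Ideal A) (hJ : maximalIdeal A ≤ J.radical)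
    (f : P →ₗ[A] M) (g : M →ₗ[A] Q) (hf : Function.Injective f) (hg : Function.Surjective g)
    (hfg : LinearMap.range f = LinearMap.ker g) (d : ℕ) (a e' e'' : ℝ)
    (h' : Tendsto (fun t : ℕ => a * (samuel J P t : ℝ) / (t : ℝ) ^ d) atTop (𝓝 e'))
    (h'' : Tendsto (fun t : ℕ => a * (samuel J Q t : ℝ) / (t : ℝ) ^ d) atTop (𝓝 e'')) (ha : 0 ≤ a) :
    Tendsto (fun t : ℕ => a * (samuel J M t : ℝ) / (t : ℝ) ^ d) atTop (𝓝 (e' + e'')) := by
  have fP := LC17.isFiniteLength_quot_smul hJ P
  have fM := LC17.isFiniteLength_quot_smul hJ M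
  have fQ := LC17.isFiniteLength_quot_smul hJ Q
  obtain ⟨k, hk⟩ := EGA4H10.LengthDim.exists_shift J f hf
  have lo : ∀ t, k ≤ t → samuel J P (t - k) + samuel J Q t ≤ samuel J M t := fun t ht => by
    have h := hk t ht
    rw [length_sup_eq J f g hg hfg, LC17.samuel_length J P fP, LC17.samuel_length J Q fQ,
      LC17.samuel_length J M fM] at h
    exact_mod_cast h
  have hi : ∀ t, samuel J M t ≤ samuel J P t + samuel J Q t := fun t => by
    have h := length_le J f (M := M) t
    rw [length_sup_eq J f g hg hfg, LC17.samuel_length J P fP, LC17.samuel_length J Q fQ,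
      LC17.samuel_length J M fM] at h
    exact_mod_cast h
  have hratio : Tendsto (fun t : ℕ => (((t - k : ℕ) : ℝ) / (t : ℝ))) atTop (𝓝 1) := by
    have h1 : Tendsto (fun t : ℕ => 1 - (k : ℝ) * (1 / (t : ℝ))) atTop (𝓝 1) := by
      simpa using (tendsto_one_div_atTop_nhds_zero_nat (𝕜 := ℝ)).const_mul (k : ℝ) |>.const_sub 1
    refine h1.congr' (eventually_atTop.2 ⟨k + 1, fun t ht => ?_⟩)
    have : (t : ℝ) ≠ 0 := by exact_mod_cast (by omega : t ≠ 0)
    show _ = ((t - k : ℕ) : ℝ) / (t : ℝ)
    rw [Nat.cast_sub (by omega)]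
    field_simp
  have hlow : Tendsto (fun t : ℕ => a * (samuel J P (t - k) : ℝ) / (t : ℝ) ^ d +
      a * (samuel J Q t : ℝ) / (t : ℝ) ^ d) atTop (𝓝 (e' + e'')) := by
    refine Tendsto.add ?_ h''
    have h2 := (h'.comp (tendsto_sub_atTop_nat k)).mul (hratio.pow d)
    rw [one_pow, mul_one] at h2
    refine h2.congr' (eventually_atTop.2 ⟨k + 1, fun t ht => ?_⟩)
    have : (t : ℝ) ≠ 0 := by exact_mod_cast (by omega : t ≠ 0)
    have : ((t - k : ℕ) : ℝ) ≠ 0 := by exact_mod_cast (by omega : t - k ≠ 0)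
    simp only [Function.comp_apply, div_pow]
    field_simp
  refine tendsto_of_tendsto_of_tendsto_of_le_of_le' hlow (h'.add h'') (eventually_atTop.2 ⟨k, fun t ht => ?_⟩)
    (Eventually.of_forall fun t => ?_)
  · show _ + _ ≤ _
    rw [← add_div, ← mul_add]
    gcongr
    exact_mod_cast lo t ht
  · show _ ≤ _ + _
    rw [← add_div, ← mul_add]
    gcongr
    exact_mod_cast hi t

end Groth.Agent.Cohen12.SamuelAdd
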