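import Groth.Agent.Cohen12.Structure
import Groth.Agent.Cohen12.Field
import Mathlib.RingTheory.Artinian.Ring

/-!
# Artinian local rings and Cohen rings
-/

set_option autoImplicit false
set_option maxHeartbeats 800000

universe u

open IsLocalRing

namespace Groth.Agent.Cohen12

theorem isAdicComplete_artinian (A : Type u) [CommRing A] [IsLocalRing A] [IsArtinianRing A] :
    IsAdicComplete (maximalIdeal A) A := by
  obtain ⟨N, hN⟩ := IsArtinianRing.isNilpotent_jacobson_bot (R := A)
  rw [IsLocalRing.jacobson_eq_maximalIdeal ⊥ bot_ne_top] at hN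
  refine { haus' := fun x hx => ?_, prec' := fun f hf => ⟨f N, fun n => ?_⟩ }
  · have h2 := hx N
    rw [SModEq.zero, smul_eq_mul, Ideal.mul_top, hN] at h2
    exact (Submodule.mem_bot A).mp h2
  · rcases le_total n N with h | h
    · exact hf h
    · have h2 := hf h
      rw [SModEq.sub_mem, smul_eq_mul, Ideal.mul_top, hN] at h2
      rw [sub_eq_zero.mp ((Submodule.mem_bot A).mp h2)]

theorem exists_regular_presentation {A : Type u} [CommRing A] [IsLocalRing A] [IsArtinianRing A]
    (h : maximalIdeal A ^ 2 = ⊥) :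
    ∃ (B : Type u) (_ : CommRing B) (_ : IsRegularLocalRing B), Nonempty (A ≃+* B ⧸ maximalIdeal B ^ 2) := by
  classical
  have := isAdicComplete_artinian A
  have main : ∀ (B : Type u) [CommRing B] [IsRegularLocalRing B] (φ : B →+* A), Function.Surjective φ →
      RingHom.ker φ ≤ maximalIdeal B ^ 2 → Nonempty (A ≃+* B ⧸ maximalIdeal B ^ 2) := by
    intro B _ _ φ hφ hle
    have hm : (maximalIdeal B).map φ ≤ maximalIdeal A := by
      refine Ideal.map_le_iff_le_comap.mpr fun b hb => (mem_maximalIdeal _).mpr fun hu => ?_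
      obtain ⟨c, hc⟩ := hu.exists_right_inv
      obtain ⟨c, rfl⟩ := hφ c
      have h1 : b * c - 1 ∈ maximalIdeal B := Ideal.pow_le_self two_ne_zero
        (hle (by rw [RingHom.mem_ker, map_sub, map_mul, hc, map_one, sub_self]))
      have := sub_mem (Ideal.mul_mem_right c _ hb) h1
      rw [sub_sub_cancel] at this
      exact (mem_maximalIdeal _).mp this isUnit_one
    have hker : RingHom.ker φ = maximalIdeal B ^ 2 := by
      refine le_antisymm hle ?_
      rw [← Ideal.map_eq_bot_iff_le_ker, Ideal.map_pow, eq_bot_iff, ← h]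
      exact Ideal.pow_right_mono hm 2
    exact ⟨(RingHom.quotientKerEquivOfSurjective hφ).symm.trans (Ideal.quotEquivOfEq hker)⟩
  obtain ⟨W, _, _, hW, w, hwl, hw⟩ := exists_cohen_hom A
  obtain ⟨hWN, hWc, hWd, -, p, hp, hmW⟩ := cohen_struct hW
  have : CharP (ResidueField A) p :=
    charP_of_injective_ringHom (f := ResidueField.map w) (RingHom.injective _) p
  by_cases hp0 : (p : A) = 0
  · obtain ⟨σ, hσ⟩ := exists_coefficientField A p hp0
    obtain ⟨φ, hφ, -, hle⟩ := exists_powerSeries_surjective σ fun x => ⟨x, hσ x⟩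
    have : IsRegularLocalRing (MvPowerSeries (Fin (maximalIdeal A).spanFinrank) (ResidueField A)) :=
      CAlg6.isRegularLocalRing_mvPowerSeries
    exact ⟨_, inferInstance, this, main _ φ hφ hle⟩
  let A' := A ⧸ Ideal.span {(p : A)}
  have hpm : (p : A) ∈ maximalIdeal A := by
    rw [← residue_eq_zero_iff, map_natCast, CharP.cast_eq_zero]
  have : Nontrivial A' := Ideal.Quotient.nontrivial_iff.mpr fun ht =>
    (maximalIdeal.isMaximal A).ne_top (top_le_iff.mp (ht ▸ (Ideal.span_singleton_le_iff_mem _).mpr hpm))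
  have : IsLocalRing A' := IsLocalRing.of_surjective' (Ideal.Quotient.mk _) Ideal.Quotient.mk_surjective
  have hmk : IsLocalHom (Ideal.Quotient.mk (Ideal.span {(p : A)})) :=
    IsLocalHom.of_surjective _ Ideal.Quotient.mk_surjective
  obtain ⟨s, hs, hspan⟩ := Submodule.FG.exists_span_finset_card_eq_spanFinrank
    (IsNoetherian.noetherian (maximalIdeal A'))
  let y' : Fin (maximalIdeal A').spanFinrank → A' := fun i => (s.equivFinOfCardEq hs).symm i
  have hy' : Ideal.span (Set.range y') = maximalIdeal A' := by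
    rw [show Set.range y' = (s : Set A') by
      rw [show y' = Subtype.val ∘ (s.equivFinOfCardEq hs).symm from rfl, Set.range_comp, Equiv.range_eq_univ,
        Set.image_univ, Subtype.range_coe]]
    exact hspan
  choose y hy using fun i => Ideal.Quotient.mk_surjective (y' i)
  have hym : ∀ i, y i ∈ maximalIdeal A := fun i => (mem_maximalIdeal _).mpr fun hu => by
    have h1 : y' i ∈ maximalIdeal A' := hy' ▸ Ideal.subset_span ⟨i, rfl⟩
    exact (mem_maximalIdeal _).mp h1 (hy i ▸ hu.map _)
  obtain ⟨φ, hC, hX⟩ := LA18.exists_powerSeries_hom (maximalIdeal A) w y hym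
  let B := MvPowerSeries (Fin (maximalIdeal A').spanFinrank) W
  obtain ⟨hB, hBc, -⟩ := regular_powerSeries_cohen (W := W) (maximalIdeal A').spanFinrank hW
  have hloc : (maximalIdeal B).map φ ≤ maximalIdeal A := by
    rw [maximalIdeal_powerSeries, Ideal.map_sup, Ideal.map_map, Ideal.map_span]
    refine sup_le ?_ (Ideal.span_le.mpr ?_)
    · rw [show φ.comp (MvPowerSeries.C : W →+* B) = w from RingHom.ext hC]
      exact ((local_hom_TFAE w).out 0 2).mp hwl
    · rintro _ ⟨_, ⟨i, rfl⟩, rfl⟩
      rw [SetLike.mem_coe, hX]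
      exact hym i
  have hsurj : Function.Surjective φ := by
    refine CAlg6.surjective_of_cotangent φ hloc (fun z => ?_) ?_
    · obtain ⟨a, rfl⟩ := hw z
      exact ⟨MvPowerSeries.C a, by simp only [RingHom.comp_apply, hC]⟩
    · intro x hx
      refine Submodule.mem_sup_left ?_
      have h1 : Ideal.Quotient.mk (Ideal.span {(p : A)}) x ∈ maximalIdeal A' := map_nonunit _ x hx
      rw [← hy', Ideal.mem_span_range_iff_exists_fun] at h1
      obtain ⟨c, hc⟩ := h1
      choose c' hc' using fun i => Ideal.Quotient.mk_surjective (c i)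
      have h2 : x - ∑ i, c' i * y i ∈ Ideal.span {(p : A)} := by
        rw [← Ideal.Quotient.eq, map_sum, ← hc]
        exact Finset.sum_congr rfl fun i _ => by rw [map_mul, hc', hy]
      rw [← sub_add_cancel x (∑ i, c' i * y i)]
      refine add_mem ?_ (sum_mem fun i _ => Ideal.mul_mem_left _ _ ?_)
      · obtain ⟨d, hd⟩ := Ideal.mem_span_singleton'.mp h2
        rw [← hd]
        refine Ideal.mul_mem_left _ _ ?_
        have h3 := Ideal.mem_map_of_mem φ (show ((p : B)) ∈ maximalIdeal B from
          (mem_maximalIdeal_powerSeries _).mpr (by rw [map_natCast, hmW]; exact Ideal.mem_span_singleton_self _))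
        simp only [map_natCast] at h3
        exact h3
      · rw [← hX]
        exact Ideal.mem_map_of_mem _ ((mem_maximalIdeal_powerSeries _).mpr (by simp))
  refine ⟨B, inferInstance, hB, main B φ hsurj fun g hg => ?_⟩
  have hgm : g ∈ maximalIdeal B := le_maximalIdeal (RingHom.ker_ne_top φ) hg
  rw [maximalIdeal_powerSeries, hmW, Ideal.map_span, Set.image_singleton, Submodule.mem_sup] at hgm
  obtain ⟨g₁, hg₁, g₂, hg₂, rfl⟩ := hgm
  obtain ⟨a, rfl⟩ := Ideal.mem_span_singleton'.mp hg₁
  obtain ⟨c, rfl⟩ := Ideal.mem_span_range_iff_exists_fun.mp hg₂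
  rw [RingHom.mem_ker, map_add, map_mul, hC, map_natCast, map_sum] at hg
  simp only [map_mul, hX] at hg
  have hcm : ∀ i, c i ∈ maximalIdeal B := by
    intro i
    have hA' := congrArg (Ideal.Quotient.mk (Ideal.span {(p : A)})) hg
    rw [map_add, map_mul, Ideal.Quotient.eq_zero_iff_mem.mpr (Ideal.mem_span_singleton_self _), mul_zero, zero_add,
      map_sum, map_zero] at hA'
    simp only [map_mul, hy] at hA'
    have h1 := mem_maximalIdeal_of_relation y' hy' (fun i => Ideal.Quotient.mk _ (φ (c i))) (hA' ▸ zero_mem _) i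
    exact (mem_maximalIdeal _).mpr fun hu => (mem_maximalIdeal _).mp h1 ((hu.map φ).map _)
  have h0 : ∑ i, φ (c i) * y i = 0 := Finset.sum_eq_zero fun i _ => by
    have h1 : φ (c i) * y i ∈ maximalIdeal A ^ 2 := by
      rw [pow_two]
      exact Ideal.mul_mem_mul (hloc (Ideal.mem_map_of_mem φ (hcm i))) (hym i)
    rw [h] at h1
    exact (Submodule.mem_bot A).mp h1
  rw [h0, add_zero] at hg
  have ham : a ∈ maximalIdeal B := (mem_maximalIdeal _).mpr fun hu => hp0 ((hu.map φ).mul_right_eq_zero.mp hg)
  rw [pow_two]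
  refine add_mem (Ideal.mul_mem_mul ham ((mem_maximalIdeal_powerSeries _).mpr ?_))
    (sum_mem fun i _ => Ideal.mul_mem_mul (hcm i) ((mem_maximalIdeal_powerSeries _).mpr (by simp)))
  rw [MvPowerSeries.constantCoeff_C, hmW]
  exact Ideal.mem_span_singleton_self _

theorem quotient_of_cohen_iff {A : Type u} [CommRing A] [IsLocalRing A] [IsArtinianRing A]
    (p : ℕ) [CharP (ResidueField A) p] :
    (∃ (W : Type u) (_ : CommRing W) (I : Ideal W), EGA41.IsCohenRingEGA W ∧ Nonempty (A ≃+* W ⧸ I)) ↔
      maximalIdeal A = Ideal.span {(p : A)} := by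
  constructor
  · rintro ⟨W, _, I, hW, ⟨e⟩⟩
    have : IsLocalRing W := by
      rcases hW with ⟨hf, -⟩ | ⟨hd, hdvr, -⟩
      · let := hf.toField; infer_instance
      · infer_instance
    obtain ⟨-, -, -, -, q, hq, hm⟩ := cohen_struct hW
    let f : W →+* A := e.symm.toRingHom.comp (Ideal.Quotient.mk I)
    have hf : Function.Surjective f := e.symm.surjective.comp Ideal.Quotient.mk_surjective
    have : IsLocalHom f := IsLocalHom.of_surjective f hf
    have hqp : q = p := CharP.eq (ResidueField A)
      (charP_of_injective_ringHom (f := ResidueField.map f) (RingHom.injective _) q) ‹_›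
    subst hqp
    refine le_antisymm (fun x hx => ?_) ((Ideal.span_singleton_le_iff_mem _).mpr ?_)
    · obtain ⟨y, rfl⟩ := hf x
      have hy : y ∈ maximalIdeal W := (mem_maximalIdeal _).mpr fun hu => (mem_maximalIdeal _).mp hx (hu.map f)
      rw [hm, Ideal.mem_span_singleton'] at hy
      obtain ⟨z, rfl⟩ := hy
      rw [map_mul, map_natCast]
      exact Ideal.mul_mem_left _ _ (Ideal.mem_span_singleton_self _)
    · rw [← residue_eq_zero_iff, map_natCast, CharP.cast_eq_zero]
  · intro hm
    have := isAdicComplete_artinian A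
    obtain ⟨W, _, _, hW, w, hwl, hw⟩ := exists_cohen_hom A
    obtain ⟨hWN, hWc, hWd, -, q, hq, hmW⟩ := cohen_struct hW
    have hqp : q = p := CharP.eq (ResidueField A)
      (charP_of_injective_ringHom (f := ResidueField.map w) (RingHom.injective _) q) ‹_›
    subst hqp
    have hmap : (maximalIdeal W).map w = maximalIdeal A := by
      rw [hmW, Ideal.map_span, Set.image_singleton, map_natCast, hm]
    have hs : Function.Surjective w :=
      CAlg6.surjective_of_cotangent w hmap.le hw (le_sup_of_le_left hmap.ge)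
    exact ⟨W, inferInstance, RingHom.ker w, hW, ⟨(RingHom.quotientKerEquivOfSurjective hs).symm⟩⟩

end Groth.Agent.Cohen12
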